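import Cfsg.Agent.Lib.Forms.CharTwoPoints
import Cfsg.Agent.Lib.Forms.Stab

set_option autoImplicit false
open Cfsg

namespace Cfsg.Agent.Lib.SingMax.Point

open Matrix Cfsg.Agent.Lib.Forms

variable {ι : Type} [Fintype ι] [DecidableEq ι] {F : Type*} [Field F] [Finite F] [CharP F 2]

theorem isMaximalIn_point {Q : QuadraticForm F (ι → F)} (hQ : (QuadraticMap.polarBilin Q).Nondegenerate)
    (hn : 9 ≤ Fintype.card ι) {v : ι → F} (hv : Q v ≠ 0) :
    Cfsg.Geo.IsMaximalIn (Cfsg.Geo.omegaGL ⇑Q)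
      (Cfsg.Geo.subspaceStabilizer (Submodule.span F {v}) ⊓ Cfsg.Geo.omegaGL ⇑Q) := by
  have hv0 : v ≠ 0 := fun e => hv (by rw [e, map_zero])
  have hval : ∀ g ∈ Cfsg.Geo.omegaGL ⇑Q, ∀ x, Q ((g : Matrix ι ι F) *ᵥ x) = Q x := by
    rintro _ ⟨g, -, rfl⟩ x
    exact g.2 x x
  set H := Cfsg.Geo.subspaceStabilizer (Submodule.span F {v}) ⊓ Cfsg.Geo.omegaGL ⇑Q with hH
  have hfix : ∀ g ∈ Cfsg.Geo.omegaGL ⇑Q, g ∈ H ↔ (g : Matrix ι ι F) *ᵥ v = v := by
    intro g hg
    refine ⟨fun h => ?_, fun h => ⟨?_, hg⟩⟩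
    · have h1 := (h.1 v).mp (Submodule.mem_span_singleton_self v)
      obtain ⟨a, ha⟩ := Submodule.mem_span_singleton.mp h1
      simp only [Units.coeHom_apply] at ha
      by_contra hne
      have hli := linearIndependent_pair_of_value (Ne.symm hne) (hval g hg v).symm hv
      rw [LinearIndependent.pair_iff' hv0] at hli
      exact hli a ha
    · have hle : Submodule.span F {v} ≤
          (Submodule.span F {v}).comap (Matrix.mulVecLin (g : Matrix ι ι F)) := by
        rw [Submodule.span_le, Set.singleton_subset_iff]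
        simp [h, Submodule.mem_span_singleton_self]
      exact mem_stabilizing_of_mapsTo _ fun x hx => by simpa using hle hx
  have hinv : ∀ (g : Matrix.GeneralLinearGroup ι F) (x : ι → F),
      (g : Matrix ι ι F) *ᵥ (((g⁻¹ : Matrix.GeneralLinearGroup ι F) : Matrix ι ι F) *ᵥ x) = x := fun g x => by
    rw [mulVec_mulVec, Units.mul_inv, one_mulVec]
  refine ⟨lt_of_le_of_ne inf_le_right fun e => ?_, fun M hHM hMK => ?_⟩
  · obtain ⟨r, hr⟩ := exists_polar_eq hQ (u := ![v]) (linearIndependent_unique_iff.mpr (by simpa using hv0)) ![1]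
    have hd := le_finrank_perp_range hQ ![v, r]
    rw [Module.finrank_fintype_fun_eq_card] at hd
    obtain ⟨z, hz, hz0, hzQ⟩ := exists_value_char_two hQ
      (K := perp (QuadraticMap.polarBilin Q) (Submodule.span F (Set.range ![v, r])))
      (by rw [Module.finrank_fintype_fun_eq_card]; omega) (by omega) (Q v)
    obtain ⟨g, hg, hgv⟩ := exists_omega_map_one hQ (by omega) hv0 hz0 hzQ.symm
    have hgH : g ∈ H := e ▸ hg
    rw [hfix g hg, hgv] at hgH
    have h1 : QuadraticMap.polar Q r z = 0 := mem_perp_range.mp hz 1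
    have h2 : QuadraticMap.polar Q v r = 1 := hr 0
    rw [hgH, QuadraticMap.polar_comm, h2] at h1
    exact one_ne_zero h1
  by_cases hM : M ≤ H
  · exact Or.inl (le_antisymm hM hHM)
  obtain ⟨g, hgM, hgH⟩ := SetLike.not_le_iff_exists.mp hM
  refine Or.inr (le_antisymm hMK ?_)
  set w := (g : Matrix ι ι F) *ᵥ v with hw
  have hwv : w ≠ v := fun e => hgH ((hfix g (hMK hgM)).mpr e)
  have hwQ : Q w = Q v := hval g (hMK hgM) v
  set b := QuadraticMap.polar Q v w with hb
  -- every point with the polar value `b` against `v` is the image of `v` in `M`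
  have hO : ∀ x, x ≠ v → Q x = Q v → QuadraticMap.polar Q v x = b →
      ∃ f ∈ M, (f : Matrix ι ι F) *ᵥ v = x := by
    intro x hxv hxQ hxb
    have hxw : QuadraticMap.polar Q x v = QuadraticMap.polar Q w v := by
      rw [QuadraticMap.polar_comm, hxb, hb, QuadraticMap.polar_comm]
    obtain ⟨h, hh, hhi⟩ := exists_omega_map hQ (k := 2) (by omega) (by omega)
      (linearIndependent_pair_of_value hwv.symm hwQ.symm hv)
      (linearIndependent_pair_of_value hxv.symm hxQ.symm hv)
      (fun i => by fin_cases i <;> simp [hwQ, hxQ])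
      (fun i j => by fin_cases i <;> fin_cases j <;>
        simp [QuadraticMap.polar_self, hwQ, hxQ, hxb, ← hb, hxw])
    refine ⟨h * g, M.mul_mem (hHM ((hfix h hh).mpr (by simpa using hhi 0))) hgM, ?_⟩
    rw [Units.val_mul, ← mulVec_mulVec, ← hw]
    simpa using hhi 1
  intro s hs
  obtain ⟨f, hfM, hfv⟩ : ∃ f ∈ M, (f : Matrix ι ι F) *ᵥ v = (s : Matrix ι ι F) *ᵥ v := by
    set x := (s : Matrix ι ι F) *ᵥ v with hx
    have hxQ : Q x = Q v := hval s hs v
    by_cases hxv : x = v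
    · exact ⟨1, M.one_mem, by simp [hxv]⟩
    have hli := linearIndependent_pair_of_value (Ne.symm hxv) hxQ.symm hv
    obtain ⟨r₁, hr₁⟩ := exists_polar_eq hQ hli ![1, 0]
    obtain ⟨r₂, hr₂⟩ := exists_polar_eq hQ hli ![0, 1]
    set w0 := b • (r₁ + r₂) with hw0
    have hd := le_finrank_perp_range hQ ![v, x, r₁, r₂]
    rw [Module.finrank_fintype_fun_eq_card] at hd
    obtain ⟨z, hz, hz0, hzQ⟩ := exists_value_char_two hQ
      (K := perp (QuadraticMap.polarBilin Q) (Submodule.span F (Set.range ![v, x, r₁, r₂])))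
      (by rw [Module.finrank_fintype_fun_eq_card]; omega) (by omega) (Q v + Q w0)
    have hzp := mem_perp_range.mp hz
    have hz1 : QuadraticMap.polar Q v z = 0 := hzp 0
    have hz2 : QuadraticMap.polar Q x z = 0 := hzp 1
    have hz4 : QuadraticMap.polar Q r₁ z = 0 := hzp 2
    have hz5 : QuadraticMap.polar Q r₂ z = 0 := hzp 3
    have hz3 : QuadraticMap.polar Q w0 z = 0 := by
      rw [hw0, QuadraticMap.polar_smul_left, QuadraticMap.polar_add_left, hz4, hz5, add_zero, smul_zero]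
    have hv1 : QuadraticMap.polar Q v r₁ = 1 := hr₁ 0
    have hv2 : QuadraticMap.polar Q v r₂ = 0 := hr₂ 0
    have hx1 : QuadraticMap.polar Q x r₁ = 0 := hr₁ 1
    have hx2 : QuadraticMap.polar Q x r₂ = 1 := hr₂ 1
    have pv : QuadraticMap.polar Q v (w0 + z) = b := by
      simp [hw0, QuadraticMap.polar_add_right, QuadraticMap.polar_smul_right, hv1, hv2, hz1]
    have px : QuadraticMap.polar Q x (w0 + z) = b := by
      simp [hw0, QuadraticMap.polar_add_right, QuadraticMap.polar_smul_right, hx1, hx2, hz2]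
    have hne : ∀ y, w0 + z = y → b = 0 → z = y := fun y e e0 => by simpa [hw0, e0] using e
    have hnv : w0 + z ≠ v := fun e => by
      rw [e, polar_self_char_two] at pv
      rw [hne v e pv.symm, QuadraticMap.polar_comm, hv1] at hz4
      exact one_ne_zero hz4
    have hnx : w0 + z ≠ x := fun e => by
      rw [e, polar_self_char_two] at px
      rw [hne x e px.symm, QuadraticMap.polar_comm, hx2] at hz5
      exact one_ne_zero hz5
    have hQ' : Q (w0 + z) = Q v := by
      rw [QuadraticMap.map_add (⇑Q), hzQ, hz3, add_zero, add_comm, add_assoc, CharTwo.add_self_eq_zero,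
        add_zero]
    obtain ⟨f₁, hf₁, hf₁v⟩ := hO _ hnv hQ' pv
    have hf₁' := hMK hf₁
    set y := ((f₁⁻¹ : Matrix.GeneralLinearGroup ι F) : Matrix ι ι F) *ᵥ x with hy
    have hyQ : Q y = Q v := by rw [hy, hval _ ((Cfsg.Geo.omegaGL ⇑Q).inv_mem hf₁'), hxQ]
    have hyv : y ≠ v := fun e => hnx (by rw [← hf₁v, ← e, hy, hinv])
    obtain ⟨f₂, hf₂, hf₂v⟩ := hO y hyv hyQ (by
      have hp := polar_preserves_of_quad (T := Matrix.mulVecLin (f₁ : Matrix ι ι F))
        (fun a => hval f₁ hf₁' a) v y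
      rw [← hp, mulVecLin_apply, mulVecLin_apply, hy, hinv, hf₁v, QuadraticMap.polar_comm, px])
    exact ⟨f₁ * f₂, M.mul_mem hf₁ hf₂, by rw [Units.val_mul, ← mulVec_mulVec, hf₂v, hy, hinv]⟩
  have h1 : f⁻¹ * s ∈ H :=
    (hfix _ ((Cfsg.Geo.omegaGL ⇑Q).mul_mem ((Cfsg.Geo.omegaGL ⇑Q).inv_mem (hMK hfM)) hs)).mpr
      (by rw [Units.val_mul, ← mulVec_mulVec, ← hfv, mulVec_mulVec, Units.inv_mul, one_mulVec])
  simpa using M.mul_mem hfM (hHM h1)

end Cfsg.Agent.Lib.SingMax.Point
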