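import Cfsg.Agent.Lib.SingMax.UnitaryMain

/-!
The normaliser of a unitary extension field is maximal in `Ω` from dimension ten on.
-/

set_option autoImplicit false
set_option linter.unusedSectionVars false

namespace Cfsg.Agent.Lib.SingMax

open Matrix QuadraticMap
open Cfsg.Agent.Lib.FormMax.OrthSL (eichlerGL eichlerGL_mulVec Q_eichlerGL)
open Cfsg.Agent.Lib.MaxClass
open Cfsg.Geo (IsNondegenerateOn)

variable {ι : Type} [Fintype ι] [DecidableEq ι] {F : Type*} [Field F]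
  {Q : QuadraticForm F (ι → F)} {M : Subgroup (GL ι F)}

namespace Ten

variable {T : (ι → F) →ₗ[F] (ι → F)} {a N : F} (h : KStr Q T a N)
include h

variable [Finite F] (hQ : (QuadraticMap.polarBilin Q).Nondegenerate) (hn : 10 ≤ Fintype.card ι)
  (hM : ∀ u, Q u = 0 → InLine Q M u (T u))
include hQ hn hM

/-- A transvection of the extension field moves a line member by a multiple of its centre. -/
theorem inLine_step {x b w : ι → F} (hb : InLine Q M x b) (hw : Q w = 0) (h1 : polar ⇑Q x w = 0)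
    (h2 : polar ⇑Q (T x) w = 0) :
    InLine Q M x (polar ⇑Q w b • T w - polar ⇑Q (T w) b • w) := by
  obtain ⟨hwQ, hwT, hm⟩ := hM w hw 1
  have hgx : (eichlerGL Q w ((1 : F) • T w) hwQ hwT : Matrix ι ι F) *ᵥ x = x := by
    rw [eichlerGL_mulVec, one_smul, polar_comm _ w x, h1, polar_comm _ (T w) x, h.polar_right, h1, h2]
    simp
  have h3 := hb.map hm (Q_eichlerGL hwQ hwT)
  rw [hgx] at h3
  have h4 := h3.sub hb
  rw [eichlerGL_mulVec, one_smul, h.norm, hw] at h4
  convert h4 using 1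
  simp only [mul_zero, zero_mul, add_zero]
  abel

theorem comp_le_line {x x' z : ι → F} (hp : KPair Q T ⊤ x x')
    (hz : z ∈ comp Q T ⊤ x x') (hz0 : z ≠ 0) (hzQ : Q z = 0) (hzL : InLine Q M x z) :
    ∀ u ∈ comp Q T ⊤ x x', InLine Q M x u := by
  have hT : ∀ v ∈ (⊤ : Submodule F (ι → F)), T v ∈ (⊤ : Submodule F (ι → F)) := fun _ _ => trivial
  set U := comp Q T ⊤ x x' with hU
  have hUT : ∀ v ∈ U, T v ∈ U := fun v hv => KPair.comp_map h hT hv
  have hUnd : IsNondegenerateOn (polar ⇑Q) U := hp.comp_nondeg h hT (nondeg_top hQ)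
  have hUd : 6 ≤ Module.finrank F U := by
    have := KPair.finrank_comp (x := x) (x' := x') h hT
    rw [finrank_top, Module.finrank_fintype_fun_eq_card, ← hU] at this
    omega
  have hN := h.N_ne_zero hz0
  have hstep : ∀ b w, InLine Q M x b → w ∈ U → Q w = 0 →
      InLine Q M x (polar ⇑Q w b • T w - polar ⇑Q (T w) b • w) := fun b w hb hw hwQ =>
    inLine_step h hQ hn hM hb hwQ (mem_comp.1 hw).2.1 (mem_comp.1 hw).2.2.1
  obtain ⟨z', hpz⟩ := exists_kPair h hUT hQ hUnd hz hz0 hzQ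
  obtain ⟨e1, e2, e3, e4, e5, e6, e7, e8, e9, e10⟩ := hpz.products h
  set U' := comp Q T U z z' with hU'
  have hU'T : ∀ v ∈ U', T v ∈ U' := fun v hv => KPair.comp_map h hUT hv
  have hU'd : 2 ≤ Module.finrank F U' := by
    have := KPair.finrank_comp (x := z) (x' := z') h hUT
    rw [← hU'] at this
    omega
  have h0 := hstep z z' hzL hpz.mem' hpz.sing'
  rw [e7, e9, one_smul] at h0
  -- the images of the complement
  have hf : ∀ u ∈ U', InLine Q M x (T u - a • u - Q u • (T z - a • z)) := by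
    intro u hu
    obtain ⟨u1, u2, u3, u4, u5⟩ := mem_comp.1 hu
    have hQs : Q (z' + u + -(Q u) • z) = 0 := by
      rw [QuadraticMap.map_add (⇑Q), QuadraticMap.map_add (⇑Q), hpz.sing', u4, QuadraticMap.map_smul, hzQ,
        polar_add_left, polar_smul_right, polar_smul_right, e7, polar_comm _ u z, u2]
      simp
    have h1 := (hstep z (z' + u + -(Q u) • z) hzL
      (U.add_mem (U.add_mem hpz.mem' u1) (U.smul_mem _ hz)) hQs).sub h0
    have q1 : polar ⇑Q u z = 0 := by rw [polar_comm, u2]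
    have q2 : polar ⇑Q (T u) z = 0 := by rw [polar_comm, h.polar_right, u2, u3]; ring
    simp only [map_add, map_smul, polar_add_left, polar_smul_left, q1, q2, e7, e9, e1, e5, smul_zero,
      add_zero, one_smul] at h1
    convert h1 using 1
    module
  obtain ⟨u₀, hu₀, hu₀0⟩ := Submodule.exists_mem_ne_zero_of_ne_bot (p := U')
    fun e => by rw [e, finrank_bot] at hU'd; omega
  obtain ⟨-, r, hr, hur⟩ := hpz.comp_nondeg h hUT hUnd u₀ hu₀ hu₀0
  have hTa : InLine Q M x (T z - a • z) := by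
    have h1 := ((hf _ (U'.add_mem hu₀ hr)).sub (hf u₀ hu₀)).sub (hf r hr)
    have h2 := h1.smul (-(polar ⇑Q u₀ r)⁻¹)
    convert h2 using 1
    rw [map_add, QuadraticMap.map_add (⇑Q)]
    match_scalars <;> field_simp <;> ring
  have hTz : InLine Q M x (T z) := by
    have := hTa.add (hzL.smul a)
    rwa [sub_add_cancel] at this
  have hin : ∀ u ∈ U', InLine Q M x u := by
    intro u hu
    have h1 := ((hf (T u) (hU'T u hu)).add (hTa.smul (Q (T u)))).smul (-N)⁻¹
    convert h1 using 1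
    rw [h.sq, show a • T u - N • u - a • T u - Q (T u) • (T z - a • z) + Q (T u) • (T z - a • z) = (-N) • u by
      module, smul_smul, inv_mul_cancel₀ (neg_ne_zero.2 hN), one_smul]
  have hz' : InLine Q M x z' := by
    have h1 := (hstep (T z) z' hTz hpz.mem' hpz.sing').smul (-N)⁻¹
    convert h1 using 1
    rw [e8, e10, zero_smul, zero_sub, ← neg_smul, smul_smul, inv_mul_cancel₀ (neg_ne_zero.2 hN), one_smul]
  have hTz' : InLine Q M x (T z') := by
    have := h0.add (hz'.smul a)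
    rwa [sub_add_cancel] at this
  intro u hu
  obtain ⟨k', hk', k, hk, w, hw, rfl⟩ := hpz.split h hUT hu
  obtain ⟨α, β, rfl⟩ := mem_kSpan.1 hk'
  obtain ⟨γ, δ, rfl⟩ := mem_kSpan.1 hk
  exact (((hz'.smul α).add (hTz'.smul β)).add ((hzL.smul γ).add (hTz.smul δ))).add (hin w hw)

/-- A line which is not stable under the field gives all lines orthogonal to the `K`-line. -/
theorem inLine_perp {x y : ι → F} (hx0 : x ≠ 0) (hxQ : Q x = 0) (hy : InLine Q M x y)
    (hyK : y ∉ kSpan T x) {q : ι → F} (h1 : polar ⇑Q x q = 0) (h2 : polar ⇑Q (T x) q = 0) :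
    InLine Q M x q := by
  have hT : ∀ v ∈ (⊤ : Submodule F (ι → F)), T v ∈ (⊤ : Submodule F (ι → F)) := fun _ _ => trivial
  obtain ⟨x', hp⟩ := exists_kPair h hT hQ (nondeg_top hQ) trivial hx0 hxQ
  set U := comp Q T ⊤ x x' with hU
  have hUT : ∀ v ∈ U, T v ∈ U := fun v hv => KPair.comp_map h hT hv
  have hUnd : IsNondegenerateOn (polar ⇑Q) U := hp.comp_nondeg h hT (nondeg_top hQ)
  have hUd : 6 ≤ Module.finrank F U := by
    have := KPair.finrank_comp (x := x) (x' := x') h hT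
    rw [finrank_top, Module.finrank_fintype_fun_eq_card, ← hU] at this
    omega
  have hKx : ∀ k ∈ kSpan T x, InLine Q M x k := fun k hk => by
    obtain ⟨α, β, rfl⟩ := mem_kSpan.1 hk
    exact ((InLine.self hxQ).smul α).add ((hM x hxQ).smul β)
  obtain ⟨w₀, hw₀, hw₀0, hw₀Q, -⟩ :=
    exists_singular_in (Q := Q) (W := U) (![] : Fin 0 → ι → F) (by omega)
  have hne : ∀ w ∈ U, w ≠ 0 → ∀ α β : F, α ≠ 0 ∨ β ≠ 0 → α • T w - β • w ≠ 0 := by
    intro w _ hw0 α β hαβ e
    obtain ⟨r1, r2⟩ := LinearIndependent.pair_iff.1 (h.li_pair hw0) (-β) α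
      (by rw [← e]; module)
    rcases hαβ with h' | h'
    · exact h' r2
    · exact h' (neg_eq_zero.1 r1)
  obtain ⟨z, hz, hz0, hzQ, hzL⟩ : ∃ z ∈ U, z ≠ 0 ∧ Q z = 0 ∧ InLine Q M x z := by
    have hmk : ∀ w ∈ U, Q w = 0 → ∀ α β : F, α • T w - β • w ∈ U ∧ Q (α • T w - β • w) = 0 :=
      fun w hw hwQ α β => ⟨U.sub_mem (U.smul_mem _ (hUT w hw)) (U.smul_mem _ hw), by
        rw [sub_eq_add_neg, ← neg_smul, QuadraticMap.map_add (⇑Q), QuadraticMap.map_smul,
          QuadraticMap.map_smul, polar_smul_left, polar_smul_right, h.norm, hwQ, polar_comm, h.selfp, hwQ]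
        simp⟩
    obtain ⟨hyx0, hyx⟩ : polar ⇑Q x y = 0 ∧ True := by
      obtain ⟨-, hh, -⟩ := hy 1
      rw [one_smul] at hh
      exact ⟨hh, trivial⟩
    by_cases hTy : polar ⇑Q (T x) y = 0
    · obtain ⟨k, hk, u, hu, rfl⟩ := hp.split_perp h hT (y := y) trivial hyx0 hTy
      have hu0 : u ≠ 0 := fun e => hyK (by rw [e, add_zero]; exact hk)
      obtain ⟨w, hw, hwu⟩ : ∃ w ∈ {w | w ∈ U ∧ Q w = 0}, polar ⇑Q u w ≠ 0 := by
        by_contra hc
        push Not at hc
        obtain ⟨-, r, hr, hur⟩ := hUnd u hu hu0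
        exact hur ((Submodule.span_le (p := LinearMap.ker (QuadraticMap.polarBilin Q u))).2
          (fun w hw => hc w hw) (le_span_singular hQ hUnd hw₀ hw₀0 hw₀Q hr))
      have hl := inLine_step h hQ hn hM hy hw.2 (mem_comp.1 hw.1).2.1 (mem_comp.1 hw.1).2.2.1
      refine ⟨_, (hmk w hw.1 hw.2 _ _).1, hne w hw.1 (fun e => hwu (by rw [e, polar_zero_right])) _ _
        (Or.inl ?_), (hmk w hw.1 hw.2 _ _).2, hl⟩
      obtain ⟨α, β, rfl⟩ := mem_kSpan.1 hk
      obtain ⟨-, w1, w2, -, -⟩ := mem_comp.1 hw.1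
      rw [polar_comm, polar_add_left, polar_add_left, polar_smul_left, polar_smul_left, w1, w2]
      simpa using hwu
    by_cases hw₀y : polar ⇑Q (T w₀) y = 0
    swap
    · exact ⟨_, (hmk w₀ hw₀ hw₀Q _ _).1, hne w₀ hw₀ hw₀0 _ _ (Or.inr hw₀y), (hmk w₀ hw₀ hw₀Q _ _).2,
        inLine_step h hQ hn hM hy hw₀Q (mem_comp.1 hw₀).2.1 (mem_comp.1 hw₀).2.2.1⟩
    obtain ⟨-, w1, w2, -, -⟩ := mem_comp.1 hw₀
    obtain ⟨e1, e2, e3, e4, e5, e6, e7, e8, e9, e10⟩ := hp.products h
    have hl := inLine_step h hQ hn hM hy (w := w₀ + x)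
      (by rw [QuadraticMap.map_add (⇑Q), hw₀Q, hxQ, polar_comm, w1, add_zero, add_zero])
      (by rw [polar_add_right, w1, e1, add_zero]) (by rw [polar_add_right, w2, e5, add_zero])
    set α := polar ⇑Q (w₀ + x) y
    set β := polar ⇑Q (T (w₀ + x)) y with hβ
    have hl2 := hl.sub (((hM x hxQ).smul α).sub ((InLine.self hxQ).smul β))
    refine ⟨_, (hmk w₀ hw₀ hw₀Q α β).1, hne w₀ hw₀ hw₀0 α β (Or.inr ?_), (hmk w₀ hw₀ hw₀Q _ _).2, ?_⟩
    · rw [hβ, map_add, polar_add_left, hw₀y, zero_add]; exact hTy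
    · convert hl2 using 1
      rw [map_add]
      module
  obtain ⟨k, hk, u, hu, rfl⟩ := hp.split_perp h hT (y := q) trivial h1 h2
  exact (hKx k hk).add (comp_le_line h hQ hn hM hp hz hz0 hzQ hzL u hu)

/-- One line which is not stable under the field gives all Eichler elements. -/
theorem full_of_kLine {x y : ι → F} (hx0 : x ≠ 0) (hxQ : Q x = 0) (hy : InLine Q M x y)
    (hyK : y ∉ kSpan T x) : Full Q M x := by
  have hT : ∀ v ∈ (⊤ : Submodule F (ι → F)), T v ∈ (⊤ : Submodule F (ι → F)) := fun _ _ => trivial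
  obtain ⟨x', hp⟩ := exists_kPair h hT hQ (nondeg_top hQ) trivial hx0 hxQ
  obtain ⟨e1, e2, e3, e4, e5, e6, e7, e8, e9, e10⟩ := hp.products h
  set U := comp Q T ⊤ x x' with hU
  have hUT : ∀ v ∈ U, T v ∈ U := fun v hv => KPair.comp_map h hT hv
  have hUnd : IsNondegenerateOn (polar ⇑Q) U := hp.comp_nondeg h hT (nondeg_top hQ)
  have hUd : 6 ≤ Module.finrank F U := by
    have := KPair.finrank_comp (x := x) (x' := x') h hT
    rw [finrank_top, Module.finrank_fintype_fun_eq_card, ← hU] at this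
    omega
  obtain ⟨z, hz, hz0, hzQ, -⟩ := exists_singular_in (Q := Q) (W := U) (![] : Fin 0 → ι → F) (by omega)
  obtain ⟨-, z1, z2, z3, z4⟩ := mem_comp.1 hz
  have hxz : x ∉ kSpan T z := fun hm => by
    have hxU : x ∈ U := (Submodule.span_le (p := U)).2 (by
      rintro v (rfl | rfl)
      · exact hz
      · exact hUT z hz) hm
    have := (mem_comp.1 hxU).2.2.2.1
    rw [e7] at this
    exact one_ne_zero this
  have hzx : InLine Q M z x := (inLine_perp h hQ hn hM hx0 hxQ hy hyK z1 z2).symm hzQ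
  obtain ⟨z', hpz⟩ := exists_kPair h hUT hQ hUnd hz hz0 hzQ
  have hli : LinearIndependent F ![x, T x, z, T z] := by
    rw [Fintype.linearIndependent_iff]
    intro c hc
    rw [Fin.sum_univ_four] at hc
    obtain ⟨c0, c1, c2, c3⟩ := h.li_four hx0 (hp.not_mem_kSpan h hT hz hz0).1
      (α := c 0) (β := c 1) (γ := c 2) (δ := c 3) (by
        rw [← add_assoc]; exact hc)
    intro i; fin_cases i <;> assumption
  obtain ⟨w, hw⟩ := Forms.exists_polar_eq hQ hli ![0, 1, 0, 0]
  have w1 : polar ⇑Q x w = 0 := hw 0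
  have w2 : polar ⇑Q (T x) w = 1 := hw 1
  have w3 : polar ⇑Q z w = 0 := hw 2
  have w4 : polar ⇑Q (T z) w = 0 := hw 3
  obtain ⟨hzQ', hzw, hm⟩ := inLine_perp h hQ hn hM hz0 hzQ hzx hxz w3 w4 1
  obtain ⟨-, q1, q2, -, -⟩ := mem_comp.1 hpz.mem'
  have hq := (inLine_perp h hQ hn hM hx0 hxQ hy hyK q1 q2).map hm (Q_eichlerGL hzQ' hzw)
  have hgx : (eichlerGL Q z ((1 : F) • w) hzQ' hzw : Matrix ι ι F) *ᵥ x = x := by
    rw [eichlerGL_mulVec, one_smul, polar_comm _ z x, z1, polar_comm _ w x, w1]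
    simp
  set r := (eichlerGL Q z ((1 : F) • w) hzQ' hzw : Matrix ι ι F) *ᵥ z' with hr
  rw [hgx] at hq
  have r2 : polar ⇑Q (T x) r = 1 := by
    rw [hr, eichlerGL_mulVec, one_smul, hpz.one, one_smul, polar_sub_right, polar_add_right, q2, w2,
      polar_smul_right, z2]
    simp
  have r1 : polar ⇑Q x r = 0 := by
    rw [hr, eichlerGL_mulVec, one_smul, hpz.one, one_smul, polar_sub_right, polar_add_right, q1, w1,
      polar_smul_right, z1]
    simp
  intro b hxQ' hb
  have h3 := (inLine_perp h hQ hn hM hx0 hxQ hy hyK (q := b - polar ⇑Q (T x) b • r)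
    (by rw [polar_sub_right, polar_smul_right, hb, r1, smul_zero, sub_zero])
    (by rw [polar_sub_right, polar_smul_right, r2, smul_eq_mul, mul_one, sub_self])).add
    (hq.smul (polar ⇑Q (T x) b))
  rw [sub_add_cancel] at h3
  obtain ⟨_, hh, hmem⟩ := h3 1
  convert hmem using 1
  simp

theorem omega_le_of_kLine {x y : ι → F} (hx0 : x ≠ 0) (hxQ : Q x = 0) (hy : InLine Q M x y)
    (hyK : y ∉ kSpan T x) : Cfsg.Geo.omegaGL ⇑Q ≤ M := by
  have hT : ∀ v ∈ (⊤ : Submodule F (ι → F)), T v ∈ (⊤ : Submodule F (ι → F)) := fun _ _ => trivial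
  obtain ⟨x', hp⟩ := exists_kPair h hT hQ (nondeg_top hQ) trivial hx0 hxQ
  set U := comp Q T ⊤ x x' with hU
  have hUnd : IsNondegenerateOn (polar ⇑Q) U := hp.comp_nondeg h hT (nondeg_top hQ)
  have hUd : 6 ≤ Module.finrank F U := by
    have := KPair.finrank_comp (x := x) (x' := x') h hT
    rw [finrank_top, Module.finrank_fintype_fun_eq_card, ← hU] at this
    omega
  have hUT : ∀ v ∈ U, T v ∈ U := fun v hv => KPair.comp_map h hT hv
  obtain ⟨z, hz, hz0, hzQ, -⟩ := exists_singular_in (Q := Q) (W := U) (![] : Fin 0 → ι → F) (by omega)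
  obtain ⟨z', hz', hz'Q, hzz'⟩ := exists_partner_in hQ hUnd hz hz0 hzQ
  have hFull : ∀ v ∈ U, v ≠ 0 → Q v = 0 → Full Q M v := by
    intro v hv hv0 hvQ
    refine full_of_kLine h hQ hn hM hv0 hvQ ((inLine_perp h hQ hn hM hx0 hxQ hy hyK (mem_comp.1 hv).2.1
      (mem_comp.1 hv).2.2.1).symm hvQ) fun hm => ?_
    have hxU : x ∈ U := (Submodule.span_le (p := U)).2 (by
      rintro u (rfl | rfl)
      · exact hv
      · exact hUT v hv) hm
    have := (mem_comp.1 hxU).2.2.2.1
    rw [(hp.products h).2.2.2.2.2.2.1] at this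
    exact one_ne_zero this
  have hz'0 : z' ≠ 0 := fun e => by rw [e, polar_zero_right] at hzz'; exact zero_ne_one hzz'
  refine omega_le_of_eichler hQ (by omega) fun e b he hb => ?_
  by_cases he0 : e = 0
  · subst he0
    convert M.one_mem
    refine gl_ext' fun v => ?_
    rw [eichlerGL_mulVec]; simp
  exact full_all hQ (hFull z hz hz0 hzQ) (hFull z' hz' hz'0 hz'Q) hzQ hz'Q
    (by rw [hzz']; exact one_ne_zero) he he0 b he hb

end Ten

section Main

variable [Fintype F]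

theorem isMaximalIn_unitaryField_ten (hQ : (QuadraticMap.polarBilin Q).Nondegenerate)
    (hn : 10 ≤ Fintype.card ι) (K : Subalgebra F (Matrix ι ι F)) (θ : Matrix ι ι F) {a N : F}
    (hspan : ∀ k : Matrix ι ι F, k ∈ K ↔ ∃ α β : F, α • 1 + β • θ = k)
    (h : KStr Q (Matrix.mulVecLin θ) a N) :
    Cfsg.Geo.IsMaximalIn (Cfsg.Geo.omegaGL ⇑Q)
      (Cfsg.Geo.subalgebraNormalizer K ⊓ Cfsg.Geo.omegaGL ⇑Q) := by
  classical
  set T := Matrix.mulVecLin θ with hTdef
  set P := Cfsg.Geo.subalgebraNormalizer K ⊓ Cfsg.Geo.omegaGL ⇑Q with hP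
  have hTm : ∀ v : ι → F, T v = θ *ᵥ v := fun v => rfl
  have hT : ∀ v ∈ (⊤ : Submodule F (ι → F)), T v ∈ (⊤ : Submodule F (ι → F)) := fun _ _ => trivial
  have hn' : 7 ≤ Fintype.card ι := by omega
  have hiso : ∀ g ∈ Cfsg.Geo.omegaGL ⇑Q, ∀ y, Q ((g : Matrix ι ι F) *ᵥ y) = Q y := by
    rintro _ ⟨g, -, rfl⟩ y
    exact Orth.mem_isometryGroup_iff.1 g.2 y
  have hginv : ∀ (g : GL ι F) (v : ι → F),
      (g : Matrix ι ι F) *ᵥ (((g⁻¹ : GL ι F) : Matrix ι ι F) *ᵥ v) = v := fun g v => by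
    rw [mulVec_mulVec, Units.mul_inv, one_mulVec]
  have hginv' : ∀ (g : GL ι F) (v : ι → F),
      ((g⁻¹ : GL ι F) : Matrix ι ι F) *ᵥ ((g : Matrix ι ι F) *ᵥ v) = v := fun g v => by
    rw [mulVec_mulVec, Units.inv_mul, one_mulVec]
  have hMP : ∀ u, Q u = 0 → InLine Q P u (T u) := by
    intro u huQ s
    have hp : polar ⇑Q u (s • T u) = 0 := by rw [polar_smul_right, h.selfp, huQ, mul_zero, smul_zero]
    refine ⟨huQ, hp, ?_, E_mem_omega hQ hn' huQ hp⟩
    set g := eichlerGL Q u (s • T u) huQ hp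
    have hc : (g : Matrix ι ι F) * θ = θ * (g : Matrix ι ι F) :=
      Matrix.ext_iff_mulVec.mpr fun v => by
        rw [← mulVec_mulVec, ← mulVec_mulVec]; exact (eichler_comm h huQ s hp v).symm
    have hc' : ((g⁻¹ : GL ι F) : Matrix ι ι F) * θ = θ * ((g⁻¹ : GL ι F) : Matrix ι ι F) := by
      calc ((g⁻¹ : GL ι F) : Matrix ι ι F) * θ
          = ((g⁻¹ : GL ι F) : Matrix ι ι F) * ((θ * (g : Matrix ι ι F)) * ((g⁻¹ : GL ι F) : Matrix ι ι F)) := by
            rw [mul_assoc θ, Units.mul_inv, mul_one]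
        _ = θ * ((g⁻¹ : GL ι F) : Matrix ι ι F) := by
            rw [← hc, ← mul_assoc, ← mul_assoc, Units.inv_mul, one_mul]
    intro k
    constructor
    · intro hk
      obtain ⟨α, β, rfl⟩ := (hspan k).1 hk
      rw [hspan]
      refine ⟨α, β, ?_⟩
      rw [mul_add, Matrix.mul_smul, Matrix.mul_smul, mul_one, hc, add_mul, Matrix.smul_mul, Matrix.smul_mul,
        mul_assoc θ, Units.mul_inv, mul_one]
    · intro hk
      obtain ⟨α, β, e⟩ := (hspan _).1 hk
      rw [hspan]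
      refine ⟨α, β, ?_⟩
      have e' := congrArg (fun m => ((g⁻¹ : GL ι F) : Matrix ι ι F) * m * (g : Matrix ι ι F)) e
      simp only [← mul_assoc, Units.inv_mul, one_mul] at e'
      rw [mul_assoc k, Units.inv_mul, mul_one] at e'
      rw [← e', mul_add, Matrix.mul_smul, Matrix.mul_smul, mul_one, hc', add_mul, Matrix.smul_mul,
        Matrix.smul_mul, mul_assoc θ, Units.inv_mul, mul_one]
  -- a singular vector and its complement
  obtain ⟨x, -, hx0, hxQ, -⟩ := exists_singular_in (Q := Q) (W := ⊤) (![] : Fin 0 → ι → F)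
    (by rw [finrank_top, Module.finrank_fintype_fun_eq_card]; omega)
  obtain ⟨x', hp⟩ := exists_kPair h hT hQ (nondeg_top hQ) trivial hx0 hxQ
  obtain ⟨e1, e2, e3, e4, e5, e6, e7, e8, e9, e10⟩ := hp.products h
  set U := comp Q T ⊤ x x' with hU
  have hUT : ∀ v ∈ U, T v ∈ U := fun v hv => KPair.comp_map h hT hv
  have hUnd := hp.comp_nondeg h hT (nondeg_top hQ)
  have hUd : 6 ≤ Module.finrank F U := by
    have := KPair.finrank_comp (x := x) (x' := x') h hT
    rw [finrank_top, Module.finrank_fintype_fun_eq_card, ← hU] at this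
    omega
  obtain ⟨u, hu, hu0, huQ, -⟩ := exists_singular_in (Q := Q) (W := U) (![] : Fin 0 → ι → F) (by omega)
  refine ⟨lt_of_le_of_ne inf_le_right fun heq => ?_, fun M hPM hMK => ?_⟩
  · obtain ⟨-, u1, u2, u3, u4⟩ := mem_comp.1 hu
    have hm : eichlerGL Q x u hxQ u1 ∈ P := heq ▸ E_mem_omega hQ hn' hxQ u1
    set g := eichlerGL Q x u hxQ u1
    obtain ⟨α, β, e⟩ := (hspan _).1 ((hm.1 θ).1 ((hspan θ).2 ⟨0, 1, by simp⟩))
    have e' := congrArg (fun A => A *ᵥ ((g : Matrix ι ι F) *ᵥ x')) e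
    try simp only at e'
    rw [add_mulVec, smul_mulVec, smul_mulVec, one_mulVec, ← mulVec_mulVec, hginv', ← mulVec_mulVec,
      eichlerGL_mulVec, eichlerGL_mulVec, hp.one, mulVec_sub, mulVec_add, mulVec_smul, mulVec_smul] at e'
    simp only [← hTm] at e'
    rw [e3, huQ, polar_comm (⇑Q) u x', u3] at e'
    have q : polar ⇑Q u (T x') = 0 := by rw [polar_comm, u4]
    rw [q] at e'
    simp only [zero_mul, add_zero, zero_smul, sub_zero, one_smul] at e'
    have hU' : α • u + β • T u - a • u ∈ U :=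
      U.sub_mem (U.add_mem (U.smul_mem _ hu) (U.smul_mem _ (hUT u hu))) (U.smul_mem _ hu)
    have heqv : α • u + β • T u - a • u = T x' - α • x' - β • T x' := by
      rw [sub_eq_sub_iff_add_eq_add] at *
      linear_combination (norm := module) e'
    obtain ⟨-, r1, r2, -, -⟩ := mem_comp.1 hU'
    rw [heqv, polar_sub_right, polar_sub_right, polar_smul_right, polar_smul_right, hp.one, e3] at r1
    rw [heqv, polar_sub_right, polar_sub_right, polar_smul_right, polar_smul_right, hp.zero, e4] at r2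
    simp only [smul_eq_mul, mul_one, mul_zero, sub_zero] at r1 r2
    have hN := h.N_ne_zero hx0
    have hβ : β = 1 := mul_right_cancel₀ hN (by rw [one_mul]; linear_combination -r2)
    have hα : α = 0 := by rw [hβ] at r1; linear_combination -r1
    rw [hα, hβ] at heqv
    have h9 : T u - a • u = 0 := by linear_combination (norm := module) heqv
    exact hu0 (h.noeig u a (sub_eq_zero.1 h9))
  by_cases hle : M ≤ P
  · exact Or.inl (le_antisymm hle hPM)
  obtain ⟨g, hgM, hgP⟩ := SetLike.not_le_iff_exists.mp hle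
  refine Or.inr (le_antisymm hMK ?_)
  have hg := hiso g (hMK hgM)
  have hM : ∀ v, Q v = 0 → InLine Q M v (T v) := fun v hv s => by
    obtain ⟨p, q, hm⟩ := hMP v hv s
    exact ⟨p, q, hPM hm⟩
  by_cases hstab : ∀ v, v ≠ 0 → Q v = 0 →
      (g : Matrix ι ι F) *ᵥ T v ∈ kSpan T ((g : Matrix ι ι F) *ᵥ v)
  swap
  · push Not at hstab
    obtain ⟨v, hv0, hvQ, hv⟩ := hstab
    refine Ten.omega_le_of_kLine h hQ hn hM (fun e => hv0 ?_) (by rw [hg, hvQ])
      ((hM v hvQ).map hgM hg) hv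
    rw [← hginv' g v, e, mulVec_zero]
  exfalso
  set S : (ι → F) →ₗ[F] (ι → F) :=
    (Matrix.mulVecLin (g : Matrix ι ι F)).comp (T.comp (Matrix.mulVecLin ((g⁻¹ : GL ι F) : Matrix ι ι F)))
    with hS
  have hSK : ∀ w, w ≠ 0 → Q w = 0 → ∃ α β : F, α • w + β • T w = S w := by
    intro w hw0 hwQ
    have h7 := hstab (((g⁻¹ : GL ι F) : Matrix ι ι F) *ᵥ w)
      (fun e => hw0 (by rw [← hginv g w, e, mulVec_zero])) (by rw [← hg, hginv, hwQ])
    rw [hginv] at h7
    exact mem_kSpan.1 h7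
  obtain ⟨α, β, hαβ⟩ := hSK x hx0 hxQ
  have hcoef : ∀ w, w ∉ kSpan T x → Q w = 0 → polar ⇑Q x w = 0 → S w = α • w + β • T w := by
    intro w hw hwQ hxw
    obtain ⟨γ, δ, hγ⟩ := hSK w (fun e => hw (e ▸ Submodule.zero_mem _)) hwQ
    obtain ⟨p, q, hpq⟩ := hSK (x + w) (fun e => hw (by
      rw [eq_neg_of_add_eq_zero_right e]; exact Submodule.neg_mem _ (self_mem_kSpan x)))
      (by rw [QuadraticMap.map_add (⇑Q), hxQ, hwQ, hxw, add_zero, add_zero])
    rw [map_add, map_add, ← hαβ, ← hγ] at hpq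
    obtain ⟨c0, c1, c2, c3⟩ := h.li_four hx0 hw (α := p - α) (β := q - β) (γ := p - γ) (δ := q - δ)
      (by linear_combination (norm := module) hpq)
    rw [← hγ, ← sub_eq_zero.1 c2, ← sub_eq_zero.1 c3, sub_eq_zero.1 c0, sub_eq_zero.1 c1]
  have hSU : ∀ w ∈ U, Q w = 0 → S w = α • w + β • T w := fun w hw hwQ => by
    by_cases hw0 : w = 0
    · subst hw0; simp
    exact hcoef w (hp.not_mem_kSpan h hT hw hw0).1 hwQ (mem_comp.1 hw).2.1
  -- transfer the coefficients back to every singular vector orthogonal to one of the complement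
  have hback : ∀ w, Q w = 0 → polar ⇑Q u w = 0 → u ∉ kSpan T w → w ≠ 0 → S w = α • w + β • T w := by
    intro w hwQ huw hwu hw0
    obtain ⟨γ, δ, hγ⟩ := hSK w hw0 hwQ
    obtain ⟨p, q, hpq⟩ := hSK (w + u) (fun e => hwu (by
      rw [eq_neg_of_add_eq_zero_right e]; exact Submodule.neg_mem _ (self_mem_kSpan w)))
      (by rw [QuadraticMap.map_add (⇑Q), huQ, hwQ, polar_comm, huw, add_zero, add_zero])
    rw [map_add, map_add, hSU u hu huQ, ← hγ] at hpq
    obtain ⟨c0, c1, c2, c3⟩ := h.li_four hw0 hwu (α := p - γ) (β := q - δ) (γ := p - α) (δ := q - β)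
      (by linear_combination (norm := module) hpq)
    rw [← hγ, ← sub_eq_zero.1 c2, ← sub_eq_zero.1 c3, sub_eq_zero.1 c0, sub_eq_zero.1 c1]
  obtain ⟨-, u1, u2, u3, u4⟩ := mem_comp.1 hu
  have hux := (hp.not_mem_kSpan h hT hu hu0).1
  have hux' := (hp.not_mem_kSpan h hT hu hu0).2
  have hx'0 : x' ≠ 0 := fun e => by
    have := hp.one; rw [e, polar_zero_right] at this; exact zero_ne_one this
  have hTne : ∀ v, v ≠ 0 → T v ≠ 0 := fun v hv e => hv (h.noeig v 0 (by rw [e, zero_smul]))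
  have hTspan : ∀ v, v ≠ 0 → u ∉ kSpan T v → u ∉ kSpan T (T v) := fun v _ huv hm => huv
    ((Submodule.span_le (p := kSpan T v)).2 (by
      rintro z (rfl | rfl)
      · exact map_mem_kSpan_self v
      · exact h.map_mem_kSpan (map_mem_kSpan_self v)) hm)
  have sx := hback x hxQ (by rw [polar_comm, u1]) hux hx0
  have sTx := hback (T x) (by rw [h.norm, hxQ, mul_zero]) (by rw [polar_comm, u2]) (hTspan x hx0 hux) (hTne x hx0)
  have sx' := hback x' hp.sing' (by rw [polar_comm, u3]) hux' hx'0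
  have sTx' := hback (T x') (by rw [h.norm, hp.sing', mul_zero]) (by rw [polar_comm, u4])
    (hTspan x' hx'0 hux') (hTne x' hx'0)
  have hSall : ∀ v, S v = α • v + β • T v := by
    intro v
    obtain ⟨k', hk', k, hk, w, hw, rfl⟩ := hp.split h hT (y := v) trivial
    obtain ⟨p, q, rfl⟩ := mem_kSpan.1 hk'
    obtain ⟨p', q', rfl⟩ := mem_kSpan.1 hk
    have hwS : S w = α • w + β • T w := by
      have h' := (Submodule.span_le (p := LinearMap.ker (S - α • LinearMap.id - β • T))).2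
        (fun z hz => by simp [hSU z hz.1 hz.2]) (le_span_singular hQ hUnd hu hu0 huQ hw)
      rw [LinearMap.mem_ker, LinearMap.sub_apply, LinearMap.sub_apply] at h'
      simp only [LinearMap.smul_apply, LinearMap.id_coe, id_eq] at h'
      linear_combination (norm := module) h'
    simp only [map_add, map_smul, sx, sTx, sx', sTx', hwS]
    module
  refine hgP ⟨?_, hMK hgM⟩
  have hmaps : ∀ k ∈ K, (g : Matrix ι ι F) * k * ((g⁻¹ : GL ι F) : Matrix ι ι F) ∈ K := by
    intro k hk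
    obtain ⟨p, q, rfl⟩ := (hspan k).1 hk
    refine (hspan _).2 ⟨p + q * α, q * β, Matrix.ext_iff_mulVec.mpr fun v => ?_⟩
    have hv := hSall v
    simp only [hS, LinearMap.comp_apply, mulVecLin_apply] at hv
    simp only [add_mulVec, smul_mulVec, one_mulVec, ← mulVec_mulVec, mulVec_add, mulVec_smul, hginv,
      ← hTm]
    simp only [hTm] at hv ⊢
    rw [hv]
    module
  intro k
  refine ⟨hmaps k, fun hk => ?_⟩
  let φ : K → K := fun y => ⟨_, hmaps y.1 y.2⟩
  have hinj : Function.Injective φ := fun y z e => Subtype.ext (by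
    have := congrArg (fun m : K => ((g⁻¹ : GL ι F) : Matrix ι ι F) * m.1 * (g : Matrix ι ι F)) e
    simpa [φ, ← mul_assoc, mul_assoc _ _ (g : Matrix ι ι F)] using this)
  haveI : Fintype K := Fintype.ofFinite K
  obtain ⟨y, hy⟩ := (Finite.injective_iff_surjective.1 hinj) ⟨_, hk⟩
  have := congrArg (fun m : K => ((g⁻¹ : GL ι F) : Matrix ι ι F) * m.1 * (g : Matrix ι ι F)) hy
  have hyk : y.1 = k := by simpa [φ, ← mul_assoc, mul_assoc _ _ (g : Matrix ι ι F)] using this
  exact hyk ▸ y.2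


end Main

end Cfsg.Agent.Lib.SingMax
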