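import Cfsg.Agent.Lib.FormMax.OrthBasic
import Cfsg.Agent.Lib.Forms.CharTwoPoints
import Cfsg.Agent.Lib.Forms.Stab
import Cfsg.Agent.Lib.Orth.Omega

/-!
Maximality in `Ω` of the stabiliser of a totally singular subspace, by Eichler elements,
in every characteristic.
-/

set_option autoImplicit false
set_option linter.unusedSectionVars false

namespace Cfsg.Agent.Lib.SingMax

open Matrix QuadraticMap
open Cfsg.Agent.Lib.FormMax.OrthSL (eichlerGL eichlerGL_mulVec Q_eichlerGL)

variable {ι : Type} [Fintype ι] [DecidableEq ι] {F : Type*} [Field F]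
  {Q : QuadraticForm F (ι → F)}

local notation "E" => eichlerGL Q
local notation "mat" g:max => ((g : GL ι F) : Matrix ι ι F)

theorem gl_ext' {g h : GL ι F} (e : ∀ x, (g : Matrix ι ι F) *ᵥ x = (h : Matrix ι ι F) *ᵥ x) :
    g = h := Units.ext (Matrix.ext_iff_mulVec.mpr e)

theorem polar_of_iso {g : GL ι F} (hg : ∀ y, Q ((g : Matrix ι ι F) *ᵥ y) = Q y) (x y : ι → F) :
    polar ⇑Q ((g : Matrix ι ι F) *ᵥ x) ((g : Matrix ι ι F) *ᵥ y) = polar ⇑Q x y := by
  simp only [QuadraticMap.polar, ← mulVec_add, hg]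

/-- The isometry given by an Eichler element. -/
noncomputable def eIso (Q : QuadraticForm F (ι → F)) (e a : ι → F) (he : Q e = 0)
    (ha : polar ⇑Q e a = 0) : ↥(Cfsg.isometryGroup F ⇑Q) :=
  ⟨eichlerGL Q e a he ha, Orth.mem_isometryGroup_iff.2 (Q_eichlerGL he ha)⟩

theorem E_add {e a b : ι → F} (he : Q e = 0) (ha : polar ⇑Q e a = 0) (hb : polar ⇑Q e b = 0) :
    E e a he ha * E e b he hb = E e (a + b) he (by rw [polar_add_right, ha, hb, add_zero]) :=
  Units.ext (FormMax.OrthSL.eichlerMat_mul he ha hb)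

theorem conj_E {g : GL ι F} (hg : ∀ y, Q ((g : Matrix ι ι F) *ᵥ y) = Q y) {e a : ι → F}
    (he : Q e = 0) (ha : polar ⇑Q e a = 0) :
    g * E e a he ha * g⁻¹ = E ((g : Matrix ι ι F) *ᵥ e) ((g : Matrix ι ι F) *ᵥ a)
      (by rw [hg, he]) (by rw [polar_of_iso hg, ha]) := by
  rw [mul_inv_eq_iff_eq_mul]
  refine gl_ext' fun x => ?_
  rw [Units.val_mul, Units.val_mul, ← mulVec_mulVec, ← mulVec_mulVec, eichlerGL_mulVec,
    eichlerGL_mulVec, mulVec_sub, mulVec_add, mulVec_smul, mulVec_smul, polar_of_iso hg,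
    polar_of_iso hg, hg]

/-- An Eichler element moving a vector to another of the same value. -/
theorem exists_moveE {v x x' : ι → F} (hv : Q v = 0) (hQ' : Q x' = Q x) {t : F} (ht : t ≠ 0)
    (hvx : polar ⇑Q v x = t) (hvx' : polar ⇑Q v x' = t) :
    ∃ a, ∃ ha : polar ⇑Q v a = 0, (E v a hv ha : Matrix ι ι F) *ᵥ x = x' := by
  refine ⟨t⁻¹ • (x' - x), by rw [polar_smul_right, polar_sub_right, hvx, hvx', sub_self, smul_zero], ?_⟩
  rw [eichlerGL_mulVec, hvx, smul_smul, mul_inv_cancel₀ ht, one_smul]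
  have : polar ⇑Q (t⁻¹ • (x' - x)) x + Q (t⁻¹ • (x' - x)) * t = 0 := by
    rw [polar_smul_left, polar_sub_left, polar_self, QuadraticMap.map_smul, sub_eq_add_neg x' x,
      QuadraticMap.map_add (⇑Q), QuadraticMap.map_neg, polar_neg_right, hQ']
    simp only [smul_eq_mul, two_smul]
    field_simp
    ring
  rw [this, zero_smul, sub_zero]
  abel

section Omega

variable [Finite F] (hQ : (QuadraticMap.polarBilin Q).Nondegenerate) (hn : 7 ≤ Fintype.card ι)
include hQ hn

theorem exists_transitive_two [CharP F 2] {x x' : ι → F} (hx : Q x ≠ 0) (h : Q x' = Q x) :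
    ∃ v a, ∃ (hv : Q v = 0) (ha : polar ⇑Q v a = 0), (E v a hv ha : Matrix ι ι F) *ᵥ x = x' := by
  by_cases hxx : x' = x
  · refine ⟨0, 0, map_zero Q, by simp, ?_⟩
    rw [eichlerGL_mulVec, hxx]; simp
  obtain ⟨v₀, hv₀⟩ := Forms.exists_polar_eq hQ
    (Forms.linearIndependent_pair_of_value (Ne.symm hxx) h.symm hx) ![1, 1]
  have hd := Forms.le_finrank_perp_range hQ ![x, x', v₀]
  rw [Module.finrank_fintype_fun_eq_card] at hd
  obtain ⟨s, hs, -, hsQ⟩ := Forms.exists_value_char_two hQ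
    (K := Forms.perp (QuadraticMap.polarBilin Q) (Submodule.span F (Set.range ![x, x', v₀])))
    (by rw [Module.finrank_fintype_fun_eq_card]; omega) (by omega) (-Q v₀)
  have hp := Forms.mem_perp_range.mp hs
  have h1 : polar ⇑Q x v₀ = 1 := hv₀ 0
  have h2 : polar ⇑Q x' v₀ = 1 := hv₀ 1
  have h3 : polar ⇑Q x s = 0 := hp 0
  have h4 : polar ⇑Q x' s = 0 := hp 1
  have h5 : polar ⇑Q v₀ s = 0 := hp 2
  have hv : Q (v₀ + s) = 0 := by rw [QuadraticMap.map_add (⇑Q), hsQ, h5]; ring
  obtain ⟨a, ha, hax⟩ := exists_moveE (x := x) (x' := x') hv h (t := 1) one_ne_zero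
    (by rw [polar_comm, polar_add_right, h1, h3, add_zero])
    (by rw [polar_comm, polar_add_right, h2, h4, add_zero])
  exact ⟨_, a, hv, ha, hax⟩

theorem eIso_mem_omega_two [CharP F 2] {e a : ι → F} (he : Q e = 0) (ha : polar ⇑Q e a = 0) :
    eIso Q e a he ha ∈ Cfsg.Omega F ⇑Q := by
  refine (QuotientGroup.eq_one_iff _).1 ?_
  show Abelianization.of (eIso Q e a he ha) = 1
  by_cases hdep : ∃ c : F, a = c • e
  · obtain ⟨c, rfl⟩ := hdep
    convert map_one Abelianization.of
    refine Subtype.ext (gl_ext' fun x => ?_)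
    show (E e (c • e) he ha : Matrix ι ι F) *ᵥ x = _
    rw [eichlerGL_mulVec, polar_smul_left, QuadraticMap.map_smul, he, smul_zero, zero_mul, add_zero,
      smul_smul, mul_comm, smul_eq_mul, add_sub_cancel_right]
    simp
  push Not at hdep
  have he0 : e ≠ 0 ∨ e = 0 := (em (e = 0)).symm
  rcases he0 with he0 | rfl
  swap
  · convert map_one Abelianization.of
    refine Subtype.ext (gl_ext' fun x => ?_)
    show (E 0 a he ha : Matrix ι ι F) *ᵥ x = _
    rw [eichlerGL_mulVec]; simp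
  have hli : LinearIndependent F ![e, a] :=
    (LinearIndependent.pair_iff' he0).mpr fun c h => hdep c h.symm
  obtain ⟨b₀, hb₀⟩ := Forms.exists_polar_eq hQ hli ![0, Q a]
  have hd := Forms.le_finrank_perp_range hQ ![e, a, b₀]
  rw [Module.finrank_fintype_fun_eq_card] at hd
  obtain ⟨s, hs, -, hsQ⟩ := Forms.exists_value_char_two hQ
    (K := Forms.perp (QuadraticMap.polarBilin Q) (Submodule.span F (Set.range ![e, a, b₀])))
    (by rw [Module.finrank_fintype_fun_eq_card]; omega) (by omega) (1 - Q b₀)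
  have hp := Forms.mem_perp_range.mp hs
  have h1 : polar ⇑Q e b₀ = 0 := hb₀ 0
  have h2 : polar ⇑Q a b₀ = Q a := hb₀ 1
  have h3 : polar ⇑Q e s = 0 := hp 0
  have h4 : polar ⇑Q a s = 0 := hp 1
  have h5 : polar ⇑Q b₀ s = 0 := hp 2
  set b := b₀ + s with hb
  have heb : polar ⇑Q e b = 0 := by rw [hb, polar_add_right, h1, h3, add_zero]
  have hbQ : Q b = 1 := by rw [hb, QuadraticMap.map_add (⇑Q), hsQ, h5]; ring
  have habQ : Q (a + b) = 1 := by
    rw [QuadraticMap.map_add (⇑Q), hbQ, hb, polar_add_right, h2, h4, add_zero,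
      add_comm (Q a) 1, add_assoc, CharTwo.add_self_eq_zero, add_zero]
  have heab : polar ⇑Q e (a + b) = 0 := by rw [polar_add_right, ha, heb, add_zero]
  have hind : ∀ y, Q y = 1 → LinearIndependent F ![e, y] := fun y hy =>
    (LinearIndependent.pair_iff' he0).mpr fun c h => by
      rw [← h, QuadraticMap.map_smul, he, smul_zero] at hy
      exact zero_ne_one hy
  obtain ⟨f, hf, hfi⟩ := Forms.witt_family_quad hQ ![e, b] ![e, a + b] (hind b hbQ) (hind _ habQ)
    (fun i => by fin_cases i <;> simp [hbQ, habQ])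
    (fun i j => by fin_cases i <;> fin_cases j <;>
      simp [Forms.polar_self_char_two, heb, heab, hbQ, habQ, polar_comm (⇑Q) b e, polar_comm (⇑Q) (a + b) e,
        -QuadraticMap.polar_add_right, -QuadraticMap.polar_add_left])
  set g := Forms.isoMk f hf with hg
  have hge : ((g : GL ι F) : Matrix ι ι F) *ᵥ e = e := by
    rw [hg, Forms.isoMk_mulVec]; exact hfi 0
  have hgb : ((g : GL ι F) : Matrix ι ι F) *ᵥ b = a + b := by
    rw [hg, Forms.isoMk_mulVec]; exact hfi 1
  have hconj : g * eIso Q e b he heb * g⁻¹ = eIso Q e (a + b) he heab := by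
    refine Subtype.ext ?_
    have := conj_E (Orth.mem_isometryGroup_iff.1 g.2) he heb
    simp only [hge, hgb] at this
    exact this
  have hadd : eIso Q e a he ha * eIso Q e b he heb = eIso Q e (a + b) he heab :=
    Subtype.ext (E_add he ha heb)
  have h6 := congrArg Abelianization.of (hadd.trans hconj.symm)
  rw [map_mul, map_mul, map_mul, map_inv, mul_right_comm, mul_inv_cancel, one_mul] at h6
  exact mul_eq_right.mp h6

theorem eIso_mem_omega {e a : ι → F} (he : Q e = 0) (ha : polar ⇑Q e a = 0) :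
    eIso Q e a he ha ∈ Cfsg.Omega F ⇑Q := by
  by_cases h2 : (2 : F) = 0
  · haveI : CharP F 2 := CharTwo.of_one_ne_zero_of_two_eq_zero one_ne_zero h2
    exact eIso_mem_omega_two hQ hn he ha
  have hh : polar ⇑Q e ((2 : F)⁻¹ • a) = 0 := by rw [polar_smul_right, ha, smul_zero]
  have hsq : eIso Q e a he ha = eIso Q e _ he hh * eIso Q e _ he hh := by
    refine Subtype.ext ?_
    show E e a he ha = E e _ he hh * E e _ he hh
    rw [E_add]
    congr 1
    rw [← add_smul, ← two_mul, mul_inv_cancel₀ h2, one_smul]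
  rw [Orth.mem_omega_iff h2 hQ (by omega), hsq, map_mul, map_mul]
  exact ⟨Int.units_mul_self _, Int.units_mul_self _⟩

theorem E_mem_omega {e a : ι → F} (he : Q e = 0) (ha : polar ⇑Q e a = 0) :
    E e a he ha ∈ Cfsg.Geo.omegaGL ⇑Q :=
  Subgroup.mem_map_of_mem _ (eIso_mem_omega hQ hn he ha)

/-- A subgroup containing all Eichler elements contains `Ω`. -/
theorem omega_le_of_eichler {M : Subgroup (GL ι F)}
    (hM : ∀ e a (he : Q e = 0) (ha : polar ⇑Q e a = 0), E e a he ha ∈ M) :
    Cfsg.Geo.omegaGL ⇑Q ≤ M := by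
  rw [Cfsg.Geo.omegaGL, Subgroup.map_le_iff_le_comap]
  by_cases h2 : (2 : F) = 0
  swap
  · rw [Orth.omega_eq_siegelGroup h2 hQ (by omega), Orth.siegelGroup, Subgroup.closure_le]
    intro g hg
    obtain ⟨u, v, hu, hv, huv, c, rfl⟩ := Orth.exists_eq_siegel hg
    have hc : polar ⇑Q u (c • v) = 0 := by rw [polar_smul_right, huv, smul_zero]
    show (Orth.siegel Q u v hu hv huv c : GL ι F) ∈ M
    convert hM u (c • v) hu hc using 1
    refine gl_ext' fun x => ?_
    rw [eichlerGL_mulVec, show ((Orth.siegel Q u v hu hv huv c : GL ι F) : Matrix ι ι F) *ᵥ x = _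
      from Orth.app_siegel hu hv huv c x, QuadraticMap.map_smul, hv, polar_smul_left]
    simp only [smul_eq_mul]
    module
  haveI : CharP F 2 := CharTwo.of_one_ne_zero_of_two_eq_zero one_ne_zero h2
  set S : Set ↥(Cfsg.isometryGroup F ⇑Q) :=
    {g | ∃ e a, ∃ (he : Q e = 0) (ha : polar ⇑Q e a = 0), g = eIso Q e a he ha} with hS
  set N := Subgroup.closure S with hN
  have hNM : N ≤ M.comap (Cfsg.isometryGroup F ⇑Q).subtype := by
    rw [hN, Subgroup.closure_le]
    rintro _ ⟨e, a, he, ha, rfl⟩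
    exact hM e a he ha
  refine le_trans ?_ hNM
  haveI hnorm : N.Normal := by
    refine ⟨fun x hx g => ?_⟩
    induction hx using Subgroup.closure_induction with
    | mem x hx =>
      obtain ⟨e, a, he, ha, rfl⟩ := hx
      have hg := Orth.mem_isometryGroup_iff.1 g.2
      exact Subgroup.subset_closure ⟨((g : GL ι F) : Matrix ι ι F) *ᵥ e, ((g : GL ι F) : Matrix ι ι F) *ᵥ a,
        (hg e).trans he, (polar_of_iso hg e a).trans ha, Subtype.ext (conj_E hg he ha)⟩
    | one => simp
    | mul x y _ _ hx hy =>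
      have e : g * (x * y) * g⁻¹ = (g * x * g⁻¹) * (g * y * g⁻¹) := by group
      exact e ▸ mul_mem hx hy
    | inv x _ hx =>
      have e : g * x⁻¹ * g⁻¹ = (g * x * g⁻¹)⁻¹ := by group
      exact e ▸ inv_mem hx
  set q := QuotientGroup.mk' N with hq
  have hd := Forms.le_finrank_perp_range hQ (![] : Fin 0 → ι → F)
  rw [Module.finrank_fintype_fun_eq_card] at hd
  obtain ⟨x₀, -, -, hx₀⟩ := Forms.exists_value_char_two hQ
    (K := Forms.perp (QuadraticMap.polarBilin Q) (Submodule.span F (Set.range (![] : Fin 0 → ι → F))))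
    (by rw [Module.finrank_fintype_fun_eq_card]; omega) (by omega) 1
  have hx₀0 : Q x₀ ≠ 0 := hx₀ ▸ one_ne_zero
  set r := q (Forms.reflElem hx₀0) with hr
  have hrefl : ∀ (v : ι → F) (hv : Q v ≠ 0), q (Forms.reflElem hv) = r := by
    intro v hv
    obtain ⟨s, hs⟩ := surjective_frobenius F 2 (Q v)⁻¹
    rw [frobenius_def, pow_two] at hs
    have hs0 : s ≠ 0 := fun h => hv (inv_eq_zero.1 (by rw [← hs, h, mul_zero]))
    have hsv : Q (s • v) = Q x₀ := by
      rw [QuadraticMap.map_smul, smul_eq_mul, hs, inv_mul_cancel₀ hv, hx₀]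
    obtain ⟨e, a, he, ha, hmove⟩ := exists_transitive_two hQ hn hx₀0 hsv
    have hE : q (eIso Q e a he ha) = 1 :=
      (QuotientGroup.eq_one_iff _).2 (Subgroup.subset_closure ⟨e, a, he, ha, rfl⟩)
    have hcj : eIso Q e a he ha * Forms.reflElem hx₀0 * (eIso Q e a he ha)⁻¹ = Forms.reflElem hv := by
      rw [mul_inv_eq_iff_eq_mul]
      refine Subtype.ext (gl_ext' fun y => ?_)
      rw [Subgroup.coe_mul, Subgroup.coe_mul, Units.val_mul, Units.val_mul, ← mulVec_mulVec,
        ← mulVec_mulVec, Forms.reflElem_mulVec, Forms.reflElem_mulVec, mulVec_sub, mulVec_smul]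
      show _ - _ • ((E e a he ha : Matrix ι ι F) *ᵥ x₀) = _ - _ • v
      have hp := polar_of_iso (Q_eichlerGL he ha) x₀ y
      rw [hmove] at hp
      rw [hmove, smul_smul, ← hp, polar_smul_left, hx₀, inv_one, one_mul, smul_eq_mul]
      show _ = (E e a he ha : Matrix ι ι F) *ᵥ y - ((Q v)⁻¹ * polar ⇑Q v ((E e a he ha : Matrix ι ι F) *ᵥ y)) • v
      rw [← hs]
      congr 2
      ring
    rw [← hcj, map_mul, map_mul, map_inv, hE, one_mul, inv_one, mul_one]
  have hall : ∀ g, q g ∈ Subgroup.zpowers r := by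
    intro g
    induction g using Forms.isometry_induction hQ (Or.inr (by omega)) with
    | h1 => rw [map_one]; exact one_mem _
    | hr v hv g hg => rw [map_mul, hrefl v hv]; exact mul_mem (Subgroup.mem_zpowers r) hg
  rw [Cfsg.Omega, commutator_eq_closure, Subgroup.closure_le]
  rintro g ⟨x, y, rfl⟩
  refine (QuotientGroup.eq_one_iff _).1 ?_
  show q _ = 1
  rw [map_commutatorElement, commutatorElement_eq_one_iff_mul_comm]
  obtain ⟨i, hi⟩ := Subgroup.mem_zpowers_iff.1 (hall x)
  obtain ⟨j, hj⟩ := Subgroup.mem_zpowers_iff.1 (hall y)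
  rw [← hi, ← hj, ← _root_.zpow_add, ← _root_.zpow_add, add_comm]

end Omega

/-- The centre `e` is full in `M`. -/
def Full (Q : QuadraticForm F (ι → F)) (M : Subgroup (GL ι F)) (e : ι → F) : Prop :=
  ∀ a (he : Q e = 0) (ha : polar ⇑Q e a = 0), eichlerGL Q e a he ha ∈ M

variable {M : Subgroup (GL ι F)}

theorem Full.map {g : GL ι F} (hgM : g ∈ M) (hg : ∀ y, Q ((g : Matrix ι ι F) *ᵥ y) = Q y)
    {e : ι → F} (h : Full Q M e) : Full Q M ((g : Matrix ι ι F) *ᵥ e) := by
  intro a he ha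
  have hinv : (g : Matrix ι ι F) *ᵥ (((g⁻¹ : GL ι F) : Matrix ι ι F) *ᵥ a) = a := by
    rw [mulVec_mulVec, Units.mul_inv, one_mulVec]
  have he' : Q e = 0 := by rw [← hg, he]
  have ha' : polar ⇑Q e (((g⁻¹ : GL ι F) : Matrix ι ι F) *ᵥ a) = 0 := by
    rw [← polar_of_iso hg, hinv, ha]
  have h1 := M.mul_mem (M.mul_mem hgM (h _ he' ha')) (M.inv_mem hgM)
  rw [conj_E hg] at h1
  simpa only [hinv] using h1

theorem Full.smul {e : ι → F} (h : Full Q M e) {s : F} (hs : s ≠ 0) : Full Q M (s • e) := by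
  intro a he ha
  have he' : Q e = 0 := by
    rw [QuadraticMap.map_smul, smul_eq_mul] at he
    exact (mul_eq_zero.1 he).resolve_left (mul_ne_zero hs hs)
  have ha' : polar ⇑Q e (s • a) = 0 := by
    rw [polar_smul_right, ← polar_smul_left]; exact ha
  convert h (s • a) he' ha' using 1
  refine gl_ext' fun x => ?_
  rw [eichlerGL_mulVec, eichlerGL_mulVec]
  simp only [polar_smul_left, QuadraticMap.map_smul, smul_eq_mul]
  module

/-- Two full centres which are not orthogonal give all singular vectors. -/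
theorem full_cover {u x : ι → F} (hu : Full Q M u) (hx : Full Q M x) (huQ : Q u = 0) (hxQ : Q x = 0)
    (hux : polar ⇑Q u x ≠ 0) {y : ι → F} (hyQ : Q y = 0) (huy : polar ⇑Q u y ≠ 0) : Full Q M y := by
  set s := polar ⇑Q u x / polar ⇑Q u y with hs
  have hs0 : s ≠ 0 := div_ne_zero hux huy
  obtain ⟨a, ha, hax⟩ := exists_moveE huQ (x := x) (x' := s • y)
    (by rw [QuadraticMap.map_smul, hyQ, hxQ, smul_zero]) hux rfl
    (by rw [polar_smul_right, smul_eq_mul, hs, div_mul_cancel₀ _ huy])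
  have h1 := (hax ▸ hx.map (hu a huQ ha) (Q_eichlerGL huQ ha)).smul (inv_ne_zero hs0)
  rwa [smul_smul, inv_mul_cancel₀ hs0, one_smul] at h1

theorem full_all (hQ : (QuadraticMap.polarBilin Q).Nondegenerate)
    {u x : ι → F} (hu : Full Q M u) (hx : Full Q M x) (huQ : Q u = 0) (hxQ : Q x = 0)
    (hux : polar ⇑Q u x ≠ 0) {y : ι → F} (hyQ : Q y = 0) (hy0 : y ≠ 0) : Full Q M y := by
  by_cases huy : polar ⇑Q u y = 0
  swap
  · exact full_cover hu hx huQ hxQ hux hyQ huy
  by_cases hxy : polar ⇑Q x y = 0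
  swap
  · exact full_cover hx hu hxQ huQ (by rwa [polar_comm]) hyQ hxy
  have hu0 : u ≠ 0 := fun h => hux (by rw [h, polar_zero_left])
  have hli : LinearIndependent F ![u, y] := (LinearIndependent.pair_iff' hu0).mpr fun c h => by
    rw [← h, polar_smul_right, polar_comm, smul_eq_mul] at hxy
    exact hy0 (by rw [← h, (mul_eq_zero.1 hxy).resolve_right hux, zero_smul])
  obtain ⟨a, ha⟩ := Forms.exists_polar_eq hQ hli ![0, 1]
  have ha1 : polar ⇑Q u a = 0 := ha 0
  have ha2 : polar ⇑Q y a = 1 := ha 1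
  set z := (E u a huQ ha1 : Matrix ι ι F) *ᵥ x with hz
  have hzQ : Q z = 0 := by rw [hz, Q_eichlerGL, hxQ]
  have hzF : Full Q M z := hx.map (hu a huQ ha1) (Q_eichlerGL huQ ha1)
  have huz : polar ⇑Q z u = polar ⇑Q u x := by
    rw [hz, eichlerGL_mulVec, polar_sub_left, polar_add_left, polar_smul_left, polar_smul_left,
      polar_comm _ a u, ha1, polar_self, huQ, polar_comm _ x u]
    simp
  have hzy : polar ⇑Q z y = polar ⇑Q u x := by
    rw [hz, eichlerGL_mulVec, polar_sub_left, polar_add_left, polar_smul_left, polar_smul_left,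
      polar_comm _ a y, ha2, huy, hxy]
    simp
  exact full_cover hzF hu hzQ huQ (huz ▸ hux) hyQ (hzy ▸ hux)

theorem isMaximalIn_singular [Finite F] (hQ : (QuadraticMap.polarBilin Q).Nondegenerate)
    (hn : 7 ≤ Fintype.card ι) (W : Submodule F (ι → F)) (hW0 : W ≠ ⊥)
    (hW : Cfsg.Geo.IsTotallySingularQuad (⇑Q) W)
    (hexc : 2 * (Module.finrank F W + 1) = Fintype.card ι →
      ∀ U : Submodule F (ι → F), Cfsg.Geo.IsTotallySingularQuad (⇑Q) U →
        2 * Module.finrank F U ≠ Fintype.card ι) :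
    Cfsg.Geo.IsMaximalIn (Cfsg.Geo.omegaGL ⇑Q)
      (Cfsg.Geo.subspaceStabilizer W ⊓ Cfsg.Geo.omegaGL ⇑Q) := by
  have good := Forms.IsGoodForm.of_quadratic hQ
  have hiso : ∀ g ∈ Cfsg.Geo.omegaGL ⇑Q, ∀ y, Q ((g : Matrix ι ι F) *ᵥ y) = Q y := by
    rintro _ ⟨g, -, rfl⟩ y
    exact Orth.mem_isometryGroup_iff.1 g.2 y
  have hperp : ∀ v, v ∈ Forms.perp (QuadraticMap.polarBilin Q) W ↔ ∀ w ∈ W, polar ⇑Q w v = 0 :=
    fun v => ⟨fun h w hw => h w hw, fun h w hw => h w hw⟩
  have hWW : ∀ u ∈ W, ∀ w ∈ W, polar ⇑Q u w = 0 := fun u hu w hw => by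
    simp [QuadraticMap.polar, hW u hu, hW w hw, hW _ (W.add_mem hu hw)]
  have hdW : 2 * Module.finrank F W ≤ Fintype.card ι := by
    have h1 := Submodule.finrank_mono (show W ≤ Forms.perp (QuadraticMap.polarBilin Q) W from
      fun v hv => (hperp v).2 fun w hw => hWW w hw v hv)
    have h2 := good.finrank_add_finrank_perp W
    rw [Module.finrank_fintype_fun_eq_card] at h2
    omega
  set P := Cfsg.Geo.subspaceStabilizer W ⊓ Cfsg.Geo.omegaGL ⇑Q with hP
  have hstab : ∀ e a (he : Q e = 0) (ha : polar ⇑Q e a = 0),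
      (∀ w ∈ W, (E e a he ha : Matrix ι ι F) *ᵥ w ∈ W) → E e a he ha ∈ P := fun e a he ha h =>
    ⟨Forms.mem_stabilizing_of_mapsTo (toMat := Cfsg.glToMat ι F) W fun w hw => by simpa using h w hw,
      E_mem_omega hQ hn he ha⟩
  have hWfull : ∀ u ∈ W, Full Q P u := fun u hu a he ha => hstab u a he ha fun w hw => by
    rw [eichlerGL_mulVec, hWW u hu w hw, zero_smul, add_zero, mul_zero, add_zero]
    exact W.sub_mem hw (W.smul_mem _ hu)
  obtain ⟨u, huW, hu0⟩ := W.ne_bot_iff.mp hW0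
  have huQ : Q u = 0 := hW u huW
  refine ⟨lt_of_le_of_ne inf_le_right fun heq => ?_, fun M hPM hMK => ?_⟩
  · obtain ⟨x, hxQ, hux⟩ := Orth.exists_partner hQ hu0 huQ
    have hsub : Forms.perp (QuadraticMap.polarBilin Q) (F ∙ x) ≤ W ⊔ (F ∙ x) := by
      intro b hb
      have hxb : polar ⇑Q x b = 0 := hb x (Submodule.mem_span_singleton_self x)
      have hm : E x b hxQ hxb ∈ P := heq ▸ E_mem_omega hQ hn hxQ hxb
      have h1 := (Forms.mem_stabilizing_submodule_iff (toMat := Cfsg.glToMat ι F) W).1 hm.1 u huW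
      simp only [Units.coeHom_apply] at h1
      rw [eichlerGL_mulVec, polar_comm _ x u, hux, one_smul, mul_one] at h1
      rw [Submodule.mem_sup]
      refine ⟨_, W.sub_mem h1 huW, (polar ⇑Q b u + Q b) • x,
        Submodule.smul_mem _ _ (Submodule.mem_span_singleton_self x), ?_⟩
      abel
    have h1 := Submodule.finrank_mono hsub
    have h2 := Submodule.finrank_add_le_finrank_add_finrank W (F ∙ x)
    have h3 := good.finrank_add_finrank_perp (F ∙ x)
    have h4 : Module.finrank F (F ∙ x) ≤ 1 := by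
      simpa [Set.finrank] using finrank_span_le_card ({x} : Set (ι → F))
    rw [Module.finrank_fintype_fun_eq_card] at h3
    omega
  by_cases hMP : M ≤ P
  · exact Or.inl (le_antisymm hMP hPM)
  obtain ⟨g, hgM, hgP⟩ := SetLike.not_le_iff_exists.mp hMP
  refine Or.inr (le_antisymm hMK ?_)
  have hgW : ¬ ∀ w ∈ W, (g : Matrix ι ι F) *ᵥ w ∈ W := fun h =>
    hgP ⟨Forms.mem_stabilizing_of_mapsTo (toMat := Cfsg.glToMat ι F) W fun w hw => by simpa using h w hw,
      hMK hgM⟩
  push Not at hgW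
  obtain ⟨w₀, hw₀, hgw₀⟩ := hgW
  have hWM : ∀ v ∈ W, Full Q M v := fun v hv a he ha => hPM (hWfull v hv a he ha)
  set x := (g : Matrix ι ι F) *ᵥ w₀ with hx
  have hxQ : Q x = 0 := by rw [hx, hiso g (hMK hgM), hW w₀ hw₀]
  have hxF : Full Q M x := (hWM w₀ hw₀).map hgM (hiso g (hMK hgM))
  obtain ⟨v, hvW, v', hv'F, hv'Q, hvv'⟩ :
      ∃ v ∈ W, ∃ v', Full Q M v' ∧ Q v' = 0 ∧ polar ⇑Q v v' ≠ 0 := by
    by_cases hxp : ∃ v ∈ W, polar ⇑Q v x ≠ 0
    · obtain ⟨v, hv, hvx⟩ := hxp
      exact ⟨v, hv, x, hxF, hxQ, hvx⟩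
    push Not at hxp
    have hx0 : x ≠ 0 := fun h => hgw₀ (h ▸ W.zero_mem)
    obtain ⟨y, hy, hxy⟩ : ∃ y ∈ Forms.perp (QuadraticMap.polarBilin Q) W, polar ⇑Q y x ≠ 0 := by
      by_contra hc
      push Not at hc
      exact hgw₀ (good.perp_perp W ▸ (fun y hy => hc y hy :
        x ∈ Forms.perp (QuadraticMap.polarBilin Q) (Forms.perp (QuadraticMap.polarBilin Q) W)))
    set z := y - (Q y / polar ⇑Q y x) • x with hz
    have hzW : ∀ w ∈ W, polar ⇑Q w z = 0 := fun w hw => by
      rw [hz, polar_sub_right, polar_smul_right, (hperp y).1 hy w hw, hxp w hw, smul_zero, sub_zero]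
    have hzQ : Q z = 0 := by
      rw [hz, sub_eq_add_neg, QuadraticMap.map_add (⇑Q), QuadraticMap.map_neg, QuadraticMap.map_smul,
        polar_neg_right, polar_smul_right, hxQ, smul_zero, add_zero, smul_eq_mul,
        div_mul_cancel₀ _ hxy, add_neg_cancel]
    have hzx : polar ⇑Q z x ≠ 0 := by
      rw [hz, polar_sub_left, polar_smul_left, polar_self, hxQ, nsmul_zero, smul_zero, sub_zero]
      exact hxy
    set K := Forms.perp (QuadraticMap.polarBilin Q) (W ⊔ (F ∙ z)) with hK
    have hKmem : ∀ b ∈ K, (∀ w ∈ W, polar ⇑Q w b = 0) ∧ polar ⇑Q z b = 0 := fun b hb =>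
      ⟨fun w hw => hb w (Submodule.mem_sup_left hw),
        hb z (Submodule.mem_sup_right (Submodule.mem_span_singleton_self z))⟩
    obtain ⟨a, haK, haQ⟩ : ∃ a ∈ K, Q a ≠ 0 := by
      by_contra hc
      push Not at hc
      have hzW' : z ∉ W := fun h => hzx (hxp z h)
      have hzsup : x ∉ W ⊔ (F ∙ z) := fun h => by
        obtain ⟨w, hw, c', hc', he⟩ := Submodule.mem_sup.1 h
        obtain ⟨c, rfl⟩ := Submodule.mem_span_singleton.1 hc'
        have h0 : polar ⇑Q z x = 0 := by
          rw [← he, polar_add_right, polar_comm _ z w, hzW w hw, polar_smul_right, polar_self, hzQ]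
          simp
        exact hzx h0
      have hlt1 : Module.finrank F W < Module.finrank F (W ⊔ (F ∙ z) : Submodule F (ι → F)) :=
        Submodule.finrank_lt_finrank_of_lt (lt_of_le_of_ne le_sup_left fun h =>
          hzW' (h ▸ Submodule.mem_sup_right (Submodule.mem_span_singleton_self z)))
      have hlt2 : Module.finrank F (W ⊔ (F ∙ z) : Submodule F (ι → F)) <
          Module.finrank F (W ⊔ (F ∙ z) ⊔ (F ∙ x) : Submodule F (ι → F)) :=
        Submodule.finrank_lt_finrank_of_lt (lt_of_le_of_ne le_sup_left fun h =>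
          hzsup (h ▸ Submodule.mem_sup_right (Submodule.mem_span_singleton_self x)))
      have hle : W ⊔ (F ∙ z) ⊔ (F ∙ x) ≤ Forms.perp (QuadraticMap.polarBilin Q) W := by
        refine sup_le (sup_le (fun w hw => (hperp w).2 fun w' hw' => hWW w' hw' w hw) ?_) ?_
        · rw [Submodule.span_singleton_le_iff_mem]; exact (hperp z).2 hzW
        · rw [Submodule.span_singleton_le_iff_mem]; exact (hperp x).2 hxp
      have h1 := Submodule.finrank_mono hle
      have h2 := good.finrank_add_finrank_perp W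
      have h3 := good.finrank_add_finrank_perp (W ⊔ (F ∙ z))
      have h4 := good.finrank_add_finrank_perp K
      have h5 : K ≤ Forms.perp (QuadraticMap.polarBilin Q) K := fun b hb c hc' => by
        simp [QuadraticMap.polar, hc b hb, hc c hc', hc _ (K.add_mem hc' hb)]
      have h6 := Submodule.finrank_mono h5
      have h7 := Submodule.finrank_add_le_finrank_add_finrank W (F ∙ z)
      have h8 : Module.finrank F (F ∙ z) ≤ 1 := by
        simpa [Set.finrank] using finrank_span_le_card ({z} : Set (ι → F))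
      rw [Module.finrank_fintype_fun_eq_card] at h2 h3 h4
      rw [← hK] at h3
      exact hexc (by omega) K hc (by omega)
    obtain ⟨haW, hza⟩ := hKmem a haK
    have hE : E z a hzQ hza ∈ P := hstab z a hzQ hza fun w hw => by
      rw [eichlerGL_mulVec, polar_comm _ z w, hzW w hw, polar_comm _ a w, haW w hw]
      simpa using hw
    set y' := (E z a hzQ hza : Matrix ι ι F) *ᵥ x with hy'
    have hy'F : Full Q M y' := hxF.map (hPM hE) (Q_eichlerGL hzQ hza)
    have hy'Q : Q y' = 0 := by rw [hy', Q_eichlerGL, hxQ]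
    have hxy' : polar ⇑Q x y' ≠ 0 := by
      have : polar ⇑Q x y' = -(Q a * polar ⇑Q z x * polar ⇑Q z x) := by
        rw [hy', eichlerGL_mulVec, polar_sub_right, polar_add_right, polar_smul_right,
          polar_smul_right, polar_self, hxQ, polar_comm _ x a, polar_comm _ x z]
        simp only [smul_eq_mul, nsmul_zero]
        ring
      rw [this, neg_ne_zero]
      exact mul_ne_zero (mul_ne_zero haQ hzx) hzx
    have huy' : polar ⇑Q u y' = 0 := by
      rw [hy', eichlerGL_mulVec, polar_sub_right, polar_add_right, polar_smul_right,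
        polar_smul_right, hxp u huW, haW u huW, hzW u huW]
      simp
    have hli : LinearIndependent F ![x, u] := (LinearIndependent.pair_iff' hx0).mpr fun c h => by
      have h0 : polar ⇑Q u y' = c * polar ⇑Q x y' := by rw [← h, polar_smul_left, smul_eq_mul]
      rw [huy', eq_comm, mul_eq_zero] at h0
      exact hu0 (by rw [← h, h0.resolve_right hxy', zero_smul])
    obtain ⟨b, hb⟩ := Forms.exists_polar_eq hQ hli ![0, 1]
    have hb1 : polar ⇑Q x b = 0 := hb 0
    have hb2 : polar ⇑Q u b = 1 := hb 1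
    refine ⟨u, huW, _, hy'F.map (hxF b hxQ hb1) (Q_eichlerGL hxQ hb1), by rw [Q_eichlerGL, hy'Q], ?_⟩
    rw [eichlerGL_mulVec, polar_sub_right, polar_add_right, polar_smul_right, polar_smul_right,
      huy', hb2, hxp u huW]
    simpa using hxy'
  refine omega_le_of_eichler hQ hn fun e a he ha => ?_
  by_cases he0 : e = 0
  · subst he0
    convert M.one_mem
    refine gl_ext' fun y => ?_
    rw [eichlerGL_mulVec]; simp
  exact full_all hQ (hWM v hvW) hv'F (hW v hvW) hv'Q hvv' he he0 a he ha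

end Cfsg.Agent.Lib.SingMax
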