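import Cfsg.Agent.Lib.SingMax.NonDeg

/-!
The stabiliser of a non-degenerate subspace is maximal in `Ω`: the general statement.
-/

set_option autoImplicit false
set_option linter.unusedSectionVars false

namespace Cfsg.Agent.Lib.SingMax

open Matrix QuadraticMap
open Cfsg.Agent.Lib.MaxClass
open Cfsg.Geo (IsNondegenerateOn)

variable {ι : Type} [Fintype ι] [DecidableEq ι] {F : Type*} [Field F] [Finite F]
  {Q : QuadraticForm F (ι → F)} (hQ : (QuadraticMap.polarBilin Q).Nondegenerate)
  {W : Submodule F (ι → F)} (hW : IsNondegenerateOn (polar ⇑Q) W)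
include hQ hW

/-- Two isometric orthogonal halves of even dimension give plus type. -/
theorem plusType_of_swap {j : ℕ} (hj : Module.finrank F W = j * 2)
    (hn : 2 * Module.finrank F W = Fintype.card ι) {g : GL ι F}
    (hg : ∀ y, Q ((g : Matrix ι ι F) *ᵥ y) = Q y)
    (hswap : ∀ w ∈ W, (g : Matrix ι ι F) *ᵥ w ∈ polarPerp Q W) :
    Cfsg.Geo.IsPlusTypeOn (⇑Q) ⊤ := by
  have hdis := (isCompl_polarPerp hQ hW).disjoint
  by_cases h2 : (2 : F) = 0
  · let f : W →ₗ[F] (ι → F) := W.subtype + (Matrix.mulVecLin (g : Matrix ι ι F)).comp W.subtype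
    have hf : Function.Injective f := by
      rw [← LinearMap.ker_eq_bot, LinearMap.ker_eq_bot']
      intro w hw
      have h1 : (w : ι → F) + (g : Matrix ι ι F) *ᵥ (w : ι → F) = 0 := hw
      have h2 : (w : ι → F) ∈ polarPerp Q W := by
        rw [eq_neg_of_add_eq_zero_left h1]
        exact Submodule.neg_mem _ (hswap _ w.2)
      exact Subtype.ext (Submodule.disjoint_def.1 hdis _ w.2 h2)
    refine ⟨LinearMap.range f, le_top, ?_, ?_⟩
    · rintro _ ⟨w, rfl⟩
      show Q ((w : ι → F) + (g : Matrix ι ι F) *ᵥ (w : ι → F)) = 0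
      rw [QuadraticMap.map_add (⇑Q), hg, mem_polarPerp.1 (hswap _ w.2) _ w.2, add_zero, ← two_mul, h2,
        zero_mul]
    · rw [LinearMap.finrank_range_of_inj hf, finrank_top, Module.finrank_fintype_fun_eq_card, hn]
  haveI : Invertible (2 : F) := invertibleOfNonzero h2
  let Q' : QuadraticForm F W := Q.comp W.subtype
  have hs : (QuadraticMap.polarBilin Q').IsSymm := ⟨fun x y => polar_comm (⇑Q') x y⟩
  obtain ⟨b₀, hb₀⟩ := LinearMap.BilinForm.exists_orthogonal_basis hs
  let b := b₀.reindex ((finCongr hj).trans finProdFinEquiv.symm)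
  have hor : ∀ i i', i ≠ i' → polar ⇑Q (b i : ι → F) (b i' : ι → F) = 0 := by
    intro i i' hii
    simp only [b, Module.Basis.reindex_apply]
    exact hb₀ (fun h => hii (((finCongr hj).trans finProdFinEquiv.symm).symm.injective h))
  have hne : ∀ i, Q (b i : ι → F) ≠ 0 := by
    intro i hi
    obtain ⟨⟨x, hx, hxb⟩, -⟩ := hW _ (b i).2 (fun h => b.ne_zero i (Subtype.ext h))
    apply hxb
    have hz : (QuadraticMap.polarBilin Q' (b i)) = 0 := by
      refine b.ext fun i' => ?_
      rw [QuadraticMap.polarBilin_apply_apply, LinearMap.zero_apply]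
      show polar ⇑Q (b i : ι → F) (b i' : ι → F) = 0
      rcases eq_or_ne i i' with rfl | h
      · rw [Orth.polar_self_zero hi]
      · exact hor _ _ h
    rw [polar_comm]
    exact LinearMap.congr_fun hz ⟨x, hx⟩
  have hval : ∀ p : Fin j, ∃ α β : F,
      Q (α • (b (p, 0) : ι → F) + β • (b (p, 1) : ι → F)) = -Q (b (p, 0) : ι → F) := fun p =>
    Orth.exists_value_of_orth h2 (hne _) (hne _) (hor _ _ (by simp)) _
  choose α β hαβ using hval
  let t : Fin j × Fin 2 → (ι → F) := fun i =>
    if i.2 = 0 then α i.1 • (b (i.1, 0) : ι → F) + β i.1 • (b (i.1, 1) : ι → F)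
    else (-(β i.1 * Q (b (i.1, 1) : ι → F)) / Q (b (i.1, 0) : ι → F)) • (b (i.1, 0) : ι → F)
      + α i.1 • (b (i.1, 1) : ι → F)
  have htW : ∀ i, t i ∈ W := fun i => by
    dsimp only [t]
    split <;> exact W.add_mem (W.smul_mem _ (b _).2) (W.smul_mem _ (b _).2)
  let v : Fin j × Fin 2 → (ι → F) := fun i => (b i : ι → F) + (g : Matrix ι ι F) *ᵥ t i
  have hpair : ∀ i i', polar ⇑Q (v i) (v i') = polar ⇑Q (b i : ι → F) (b i' : ι → F) + polar ⇑Q (t i) (t i') := by
    intro i i'
    show polar ⇑Q (_ + _) (_ + _) = _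
    rw [polar_add_left, polar_add_right, polar_add_right, mem_polarPerp.1 (hswap _ (htW i')) _ (b i).2,
      polar_comm (⇑Q) ((g : Matrix ι ι F) *ᵥ t i) (b i' : ι → F),
      mem_polarPerp.1 (hswap _ (htW i)) _ (b i').2, polar_of_iso hg]
    ring
  have hzero : ∀ i i', polar ⇑Q (v i) (v i') = 0 := by
    rintro ⟨p, a⟩ ⟨p', a'⟩
    rw [hpair]
    by_cases hp : p = p'
    swap
    · rw [hor _ _ (by simp [hp]), zero_add]
      dsimp only [t]
      split <;> split <;>
        simp [hor _ _ (show (p, (0 : Fin 2)) ≠ (p', 0) by simp [hp]),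
          hor _ _ (show (p, (0 : Fin 2)) ≠ (p', 1) by simp [hp]),
          hor _ _ (show (p, (1 : Fin 2)) ≠ (p', 0) by simp [hp]),
          hor _ _ (show (p, (1 : Fin 2)) ≠ (p', 1) by simp [hp])]
    subst hp
    have hs := hαβ p
    rw [QuadraticMap.map_add (⇑Q), QuadraticMap.map_smul, QuadraticMap.map_smul, polar_smul_left,
      polar_smul_right, hor _ _ (show (p, (0 : Fin 2)) ≠ (p, 1) by simp)] at hs
    simp only [smul_eq_mul, mul_zero, add_zero] at hs
    have h01 := hor _ _ (show (p, (0 : Fin 2)) ≠ (p, 1) by simp)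
    have h10 := hor _ _ (show (p, (1 : Fin 2)) ≠ (p, 0) by simp)
    have hA := hne (p, 0)
    fin_cases a <;> fin_cases a'
    all_goals
      simp [t, h01, h10, Orth.polar_self_eq, polar_add_left, polar_add_right, polar_smul_left,
        polar_smul_right, QuadraticMap.map_add (⇑Q), QuadraticMap.map_smul]
    · linear_combination 2 * hs
    · field_simp
      ring
    · field_simp
      ring
    · field_simp
      linear_combination (2 * Q (b (p, 1) : ι → F)) * hs
  refine ⟨Submodule.span F (Set.range v), le_top, ?_, ?_⟩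
  · intro y hy
    have key : ∀ y ∈ Submodule.span F (Set.range v), ∀ i, polar ⇑Q (v i) y = 0 := by
      intro y hy i
      induction hy using Submodule.span_induction with
      | mem z hz => obtain ⟨i', rfl⟩ := hz; exact hzero i i'
      | zero => simp
      | add a c _ _ ha hc => rw [polar_add_right, ha, hc, add_zero]
      | smul c a _ ha => rw [polar_smul_right, ha, smul_zero]
    have hyy : polar ⇑Q y y = 0 := by
      have : ∀ z ∈ Submodule.span F (Set.range v), polar ⇑Q z y = 0 := by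
        intro z hz
        induction hz using Submodule.span_induction with
        | mem z hz => obtain ⟨i', rfl⟩ := hz; exact key y hy i'
        | zero => simp
        | add a c _ _ ha hc => rw [polar_add_left, ha, hc, add_zero]
        | smul c a _ ha => rw [polar_smul_left, ha, smul_zero]
      exact this y hy
    rw [Orth.polar_self_eq] at hyy
    exact (mul_eq_zero.1 hyy).resolve_left h2
  · have hli : LinearIndependent F v := by
      rw [Fintype.linearIndependent_iff]
      intro c hc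
      refine Fintype.linearIndependent_iff.1 b.linearIndependent c (Subtype.ext ?_)
      rw [Submodule.coe_sum, Submodule.coe_zero]
      simp only [Submodule.coe_smul]
      refine Submodule.disjoint_def.1 hdis _ (Submodule.sum_mem _ fun i _ => W.smul_mem _ (b i).2) ?_
      have h1 : (∑ i, c i • (b i : ι → F)) = -∑ i, c i • (g : Matrix ι ι F) *ᵥ t i := by
        rw [eq_neg_iff_add_eq_zero, ← Finset.sum_add_distrib]
        simpa [v, smul_add] using hc
      rw [h1]
      exact Submodule.neg_mem _ (Submodule.sum_mem _ fun i _ => Submodule.smul_mem _ _ (hswap _ (htW i)))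
    rw [finrank_span_eq_card hli, finrank_top, Module.finrank_fintype_fun_eq_card, ← hn, hj]
    simp

theorem stab_eq_perp : Cfsg.Geo.subspaceStabilizer W ⊓ Cfsg.Geo.omegaGL ⇑Q =
    Cfsg.Geo.subspaceStabilizer (polarPerp Q W) ⊓ Cfsg.Geo.omegaGL ⇑Q := by
  have hle : Cfsg.Geo.omegaGL ⇑Q ≤ Cfsg.isometryGroup F ⇑Q := Subgroup.map_subtype_le _
  refine le_antisymm (le_inf ((inf_le_inf_left _ hle).trans (stabilizer_le_polarPerp W)) inf_le_right)
    (le_inf ?_ inf_le_right)
  conv_rhs => rw [← polarPerp_polarPerp hQ W]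
  exact (inf_le_inf_left _ hle).trans (stabilizer_le_polarPerp _)

theorem isMaximalIn_nondegenerate [Fintype F] (hn : 13 ≤ Fintype.card ι) (hW0 : W ≠ ⊥) (hW1 : W ≠ ⊤)
    (hswap : 2 * Module.finrank F W = Fintype.card ι → ∀ g : GL ι F,
      (∀ y, Q ((g : Matrix ι ι F) *ᵥ y) = Q y) → ¬ ∀ w ∈ W, (g : Matrix ι ι F) *ᵥ w ∈ polarPerp Q W)
    (hexW : ¬ (Fintype.card F ≤ 3 ∧ Module.finrank F W = 2 ∧ Cfsg.Geo.IsPlusTypeOn (⇑Q) W))
    (hexU : ¬ (Fintype.card F ≤ 3 ∧ Module.finrank F (polarPerp Q W) = 2 ∧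
      Cfsg.Geo.IsPlusTypeOn (⇑Q) (polarPerp Q W))) :
    Cfsg.Geo.IsMaximalIn (Cfsg.Geo.omegaGL ⇑Q)
      (Cfsg.Geo.subspaceStabilizer W ⊓ Cfsg.Geo.omegaGL ⇑Q) := by
  have hiso : ∀ g ∈ Cfsg.Geo.omegaGL ⇑Q, ∀ y, Q ((g : Matrix ι ι F) *ᵥ y) = Q y := by
    rintro _ ⟨g, -, rfl⟩ y
    exact Orth.mem_isometryGroup_iff.1 g.2 y
  have hdU := finrank_polarPerp hQ W
  have hdW := Submodule.finrank_le W
  rw [Module.finrank_fintype_fun_eq_card] at hdW
  by_cases hbig : Fintype.card ι ≤ 2 * Module.finrank F W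
  · exact isMaximalIn_nondeg hQ (by omega) hW (by omega) hW1 hbig
      (fun he g hg => hswap he g (hiso g hg)) hexU
  rw [stab_eq_perp hQ hW]
  refine isMaximalIn_nondeg hQ (by omega) (nondegenerateOn_polarPerp hQ hW) (by omega) (fun h => hW0 ?_)
    (by omega) (fun he => absurd he (by omega)) (by rwa [polarPerp_polarPerp hQ W])
  rw [h, finrank_top, Module.finrank_fintype_fun_eq_card] at hdU
  exact Submodule.finrank_eq_zero.1 (by omega)

end Cfsg.Agent.Lib.SingMax
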