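import Cfsg.Agent.Lib.SingMax.Basic
import Cfsg.Agent.Lib.MaxClass.OrthMax

/-!
Singular vectors inside non-degenerate subspaces of an orthogonal space.
-/

set_option autoImplicit false
set_option linter.unusedSectionVars false

namespace Cfsg.Agent.Lib.SingMax

open Matrix QuadraticMap
open Cfsg.Agent.Lib.FormMax.OrthSL (eichlerGL eichlerGL_mulVec Q_eichlerGL)
open Cfsg.Agent.Lib.MaxClass
open Cfsg.Geo (IsNondegenerateOn)

variable {ι : Type} [Fintype ι] [DecidableEq ι] {F : Type*} [Field F] [Finite F]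
  {Q : QuadraticForm F (ι → F)}

/-- A finite field of characteristic two has square roots. -/
theorem exists_sqrt_two (h2 : (2 : F) = 0) (x : F) : ∃ a : F, a * a = x := by
  haveI : CharP F 2 := CharTwo.of_one_ne_zero_of_two_eq_zero one_ne_zero h2
  obtain ⟨a, ha⟩ := surjective_frobenius F 2 x
  exact ⟨a, by rw [← ha, frobenius_def, pow_two]⟩

/-- In characteristic two, an orthogonal pair spans a line with a singular vector. -/
theorem exists_singular_line (h2 : (2 : F) = 0) {y z : ι → F} (hy : Q y ≠ 0)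
    (hyz : polar ⇑Q y z = 0) : ∃ a : F, Q (z + a • y) = 0 := by
  obtain ⟨a, ha⟩ := exists_sqrt_two h2 (-Q z / Q y)
  refine ⟨a, ?_⟩
  rw [QuadraticMap.map_add (⇑Q), QuadraticMap.map_smul, polar_smul_right, polar_comm _ z y, hyz,
    smul_zero, add_zero, smul_eq_mul, ha, div_mul_cancel₀ _ hy, add_neg_cancel]

/-- Three dimensions contain a singular vector. -/
theorem exists_singular_sub {K : Submodule F (ι → F)} (hK : 3 ≤ Module.finrank F K) :
    ∃ z ∈ K, z ≠ 0 ∧ Q z = 0 := by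
  by_cases h2 : (2 : F) = 0
  swap
  · let L : (Fin (Module.finrank F K) → F) →ₗ[F] (ι → F) :=
      K.subtype.comp (Module.finBasis F K).equivFun.symm.toLinearMap
    obtain ⟨c, hc0, hc⟩ := FormMax.OrthSL.exists_zero_fin h2 hK (Q.comp L)
    refine ⟨L c, ((Module.finBasis F K).equivFun.symm c).2, fun e => hc0 ?_, hc⟩
    exact (Module.finBasis F K).equivFun.symm.injective
      ((Subtype.ext e : (Module.finBasis F K).equivFun.symm c = 0).trans (map_zero _).symm)
  by_contra hc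
  push Not at hc
  obtain ⟨y, hy, hy0⟩ := K.ne_bot_iff.mp (fun h => by rw [h, finrank_bot] at hK; omega)
  have hyQ := hc y hy hy0
  obtain ⟨z, hz, hzy⟩ : ∃ z ∈ K ⊓ LinearMap.ker (QuadraticMap.polarBilin Q y), z ∉ F ∙ y := by
    by_contra h
    push Not at h
    have h1 := Submodule.finrank_mono (show K ⊓ LinearMap.ker (QuadraticMap.polarBilin Q y) ≤ F ∙ y from h)
    rw [finrank_span_singleton hy0] at h1
    have h2' := (QuadraticMap.polarBilin Q y).finrank_range_add_finrank_ker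
    have h3 := Submodule.finrank_le (LinearMap.range (QuadraticMap.polarBilin Q y))
    rw [Module.finrank_self] at h3
    have h4 := Submodule.finrank_sup_add_finrank_inf_eq K (LinearMap.ker (QuadraticMap.polarBilin Q y))
    have h5 := Submodule.finrank_le (K ⊔ LinearMap.ker (QuadraticMap.polarBilin Q y))
    omega
  obtain ⟨hzK, hzp⟩ := Submodule.mem_inf.1 hz
  rw [LinearMap.mem_ker, QuadraticMap.polarBilin_apply_apply] at hzp
  obtain ⟨a, ha⟩ := exists_singular_line h2 hyQ hzp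
  refine hc _ (K.add_mem hzK (K.smul_mem a hy)) (fun e => hzy ?_) ha
  rw [eq_neg_of_add_eq_zero_left e]
  exact Submodule.neg_mem _ (Submodule.smul_mem _ _ (Submodule.mem_span_singleton_self y))

/-- A singular vector in a large subspace, orthogonal to some given vectors. -/
theorem exists_singular_in {W : Submodule F (ι → F)} {k : ℕ} (c : Fin k → ι → F)
    (hd : k + 3 ≤ Module.finrank F W) :
    ∃ z ∈ W, z ≠ 0 ∧ Q z = 0 ∧ ∀ i, polar ⇑Q (c i) z = 0 := by
  have h1 := ((FormMax.OrthSL.conds Q c).domRestrict W).finrank_range_add_finrank_ker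
  have h3 : Module.finrank F ((FormMax.OrthSL.conds Q c).domRestrict W).range ≤ k := by
    simpa using Submodule.finrank_le ((FormMax.OrthSL.conds Q c).domRestrict W).range
  obtain ⟨z, hz, hz0, hzQ⟩ := exists_singular_sub (Q := Q)
    (K := ((FormMax.OrthSL.conds Q c).domRestrict W).ker.map W.subtype)
    (by rw [Submodule.finrank_map_subtype_eq]; omega)
  obtain ⟨w, hw, rfl⟩ := hz
  exact ⟨w, w.2, hz0, hzQ, FormMax.OrthSL.conds_eq (LinearMap.mem_ker.1 hw)⟩

section NonDeg

variable (hQ : (QuadraticMap.polarBilin Q).Nondegenerate) {W : Submodule F (ι → F)}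
  (hW : IsNondegenerateOn (polar ⇑Q) W)
include hQ hW

theorem isCompl_polarPerp : IsCompl W (polarPerp Q W) := by
  refine Submodule.isCompl_iff_disjoint _ _ ?_ |>.2 ?_
  · have h := finrank_polarPerp hQ W
    rw [Module.finrank_fintype_fun_eq_card]
    omega
  rw [Submodule.disjoint_def]
  intro v hv hvU
  by_contra hv0
  obtain ⟨⟨x, hx, hxv⟩, -⟩ := hW v hv hv0
  exact hxv (mem_polarPerp.1 hvU x hx)

theorem exists_split (v : ι → F) : ∃ w ∈ W, ∃ u ∈ polarPerp Q W, v = w + u := by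
  obtain ⟨w, hw, u, hu, h⟩ := Submodule.mem_sup.1
    ((isCompl_polarPerp hQ hW).sup_eq_top ▸ Submodule.mem_top : v ∈ W ⊔ polarPerp Q W)
  exact ⟨w, hw, u, hu, h.symm⟩

/-- A vector of `W` with prescribed products. -/
theorem exists_polar_in {k : ℕ} {u : Fin k → ι → F} (hu : LinearIndependent F u) (huW : ∀ i, u i ∈ W)
    (c : Fin k → F) : ∃ a ∈ W, ∀ i, polar ⇑Q (u i) a = c i := by
  obtain ⟨r, hr⟩ := Forms.exists_polar_eq hQ hu c
  obtain ⟨w, hw, z, hz, rfl⟩ := exists_split hQ hW r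
  exact ⟨w, hw, fun i => by rw [← hr i, polar_add_right, mem_polarPerp.1 hz _ (huW i), add_zero]⟩

/-- A singular partner inside `W`. -/
theorem exists_partner_in {e : ι → F} (he : e ∈ W) (he0 : e ≠ 0) (heQ : Q e = 0) :
    ∃ f ∈ W, Q f = 0 ∧ polar ⇑Q e f = 1 := by
  obtain ⟨a, ha, h⟩ := exists_polar_in hQ hW (u := ![e])
    (linearIndependent_unique_iff.mpr (by simpa using he0)) (fun i => by fin_cases i; simpa using he) ![1]
  have h1 : polar ⇑Q e a = 1 := h 0
  refine ⟨a - Q a • e, W.sub_mem ha (W.smul_mem _ he), ?_, ?_⟩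
  · rw [sub_eq_add_neg, QuadraticMap.map_add (⇑Q), QuadraticMap.map_neg, QuadraticMap.map_smul,
      polar_neg_right, polar_smul_right, polar_comm _ a e, h1, heQ]
    simp
  · rw [polar_sub_right, h1, polar_smul_right, Orth.polar_self_zero heQ, smul_zero, sub_zero]

/-- A non-degenerate subspace with a singular vector is spanned by its singular vectors. -/
theorem le_span_singular {e : ι → F} (he : e ∈ W) (he0 : e ≠ 0) (heQ : Q e = 0) :
    W ≤ Submodule.span F {z | z ∈ W ∧ Q z = 0} := by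
  obtain ⟨f, hf, hfQ, hef⟩ := exists_partner_in hQ hW he he0 heQ
  intro y hy
  set y₀ := y - polar ⇑Q f y • e - polar ⇑Q e y • f with hy₀
  have hy₀W : y₀ ∈ W := W.sub_mem (W.sub_mem hy (W.smul_mem _ he)) (W.smul_mem _ hf)
  have h1 : polar ⇑Q e y₀ = 0 := by
    rw [hy₀, polar_sub_right, polar_sub_right, polar_smul_right, polar_smul_right,
      Orth.polar_self_zero heQ, hef]
    simp
  have hz : (eichlerGL Q e y₀ heQ h1 : Matrix ι ι F) *ᵥ f ∈ {z | z ∈ W ∧ Q z = 0} := by
    refine ⟨?_, by rw [Q_eichlerGL, hfQ]⟩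
    rw [eichlerGL_mulVec]
    exact W.sub_mem (W.add_mem hf (W.smul_mem _ hy₀W)) (W.smul_mem _ he)
  have he' := Submodule.subset_span (R := F) (s := {z | z ∈ W ∧ Q z = 0}) ⟨he, heQ⟩
  have hf' := Submodule.subset_span (R := F) (s := {z | z ∈ W ∧ Q z = 0}) ⟨hf, hfQ⟩
  have hz' := Submodule.subset_span (R := F) hz
  rw [eichlerGL_mulVec, hef, one_smul] at hz'
  have h2 := Submodule.add_mem _ (Submodule.sub_mem _ hz' hf')
    (Submodule.smul_mem _ (polar ⇑Q y₀ f + Q y₀ * 1) he')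
  have h3 := Submodule.add_mem _ (Submodule.add_mem _ h2 (Submodule.smul_mem _ (polar ⇑Q f y) he'))
    (Submodule.smul_mem _ (polar ⇑Q e y) hf')
  convert h3 using 1
  rw [hy₀]
  abel

/-- An invariant subspace of a non-degenerate subspace, apart from the small plus planes. -/
theorem eq_of_value_closed [Fintype F]
    (hex : ¬ (Fintype.card F ≤ 3 ∧ Module.finrank F W = 2 ∧ Cfsg.Geo.IsPlusTypeOn (⇑Q) W))
    (L : Submodule F (ι → F)) (hLW : L ≤ W) {u₀ : ι → F} (hu : u₀ ∈ L) (hu0 : u₀ ≠ 0)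
    (hcl : ∀ x ∈ L, ∀ y ∈ W, x ≠ 0 → y ≠ 0 → Q y = Q x → y ∈ L) : W ≤ L := by
  have hsing : ∀ z ∈ L, z ≠ 0 → Q z = 0 → W ≤ L := fun z hz hz0 hzQ =>
    (le_span_singular hQ hW (hLW hz) hz0 hzQ).trans (Submodule.span_le.2 fun y hy => by
      by_cases hy0 : y = 0
      · rw [hy0]; exact L.zero_mem
      exact hcl z hz y hy.1 hz0 hy0 (hy.2.trans hzQ.symm))
  by_cases hc : Q u₀ = 0
  · exact hsing u₀ hu hu0 hc
  have hu₀W := hLW hu
  -- reflections spread `L`
  have hrefl : ∀ z ∈ L, Q z ≠ 0 → ∀ w ∈ W, Q w ≠ 0 → polar ⇑Q w z ≠ 0 → w ∈ L := by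
    intro z hz hzQ w hw hwQ hwz
    have hz' : z - ((Q w)⁻¹ * polar ⇑Q w z) • w ∈ L := by
      refine hcl z hz _ (W.sub_mem (hLW hz) (W.smul_mem _ hw)) (fun h => hzQ (by rw [h, map_zero])) ?_ ?_
      · intro h
        have h' := congrArg ⇑Q (sub_eq_zero.1 h)
        rw [QuadraticMap.map_smul, smul_eq_mul] at h'
        have h'' := congrArg (polar ⇑Q w) (sub_eq_zero.1 h)
        rw [polar_smul_right, polar_self, smul_eq_mul, two_smul] at h''
        field_simp at h' h''
        exact one_ne_zero (show (1 : F) = 0 by linear_combination -h'')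
      · rw [sub_eq_add_neg, QuadraticMap.map_add (⇑Q), QuadraticMap.map_neg, QuadraticMap.map_smul,
          polar_neg_right, polar_smul_right, polar_comm _ z w, smul_eq_mul, smul_eq_mul]
        field_simp
        ring
    have h1 := L.sub_mem hz hz'
    rw [sub_sub_cancel] at h1
    exact (L.smul_mem_iff (mul_ne_zero (inv_ne_zero hwQ) hwz)).1 h1
  by_cases hperp : ∃ z ∈ W, z ≠ 0 ∧ Q z = 0 ∧ polar ⇑Q u₀ z = 0
  · obtain ⟨z, hzW, hz0, hzQ, huz⟩ := hperp
    have hQs : Q (u₀ + z) = Q u₀ := by rw [QuadraticMap.map_add (⇑Q), hzQ, huz, add_zero, add_zero]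
    have h1 := hcl u₀ hu _ (W.add_mem hu₀W hzW) hu0 (fun h => hc (by rw [← hQs, h, map_zero])) hQs
    exact hsing z (by simpa using L.sub_mem h1 hu) hz0 hzQ
  push Not at hperp
  set P := W ⊓ LinearMap.ker (QuadraticMap.polarBilin Q u₀) with hP
  have hPmem : ∀ y, y ∈ P ↔ y ∈ W ∧ polar ⇑Q u₀ y = 0 := fun y => by
    rw [hP, Submodule.mem_inf, LinearMap.mem_ker, QuadraticMap.polarBilin_apply_apply]
  have hPd : Module.finrank F P ≤ 2 := by
    by_contra h
    obtain ⟨z, hz, hz0, hzQ⟩ := exists_singular_sub (Q := Q) (K := P) (by omega)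
    exact hperp z ((hPmem z).1 hz).1 hz0 hzQ ((hPmem z).1 hz).2
  have hWP : Module.finrank F W ≤ Module.finrank F P + 1 := by
    have h2' := (QuadraticMap.polarBilin Q u₀).finrank_range_add_finrank_ker
    have h3 := Submodule.finrank_le (LinearMap.range (QuadraticMap.polarBilin Q u₀))
    rw [Module.finrank_self] at h3
    have h4 := Submodule.finrank_sup_add_finrank_inf_eq W (LinearMap.ker (QuadraticMap.polarBilin Q u₀))
    have h5 := Submodule.finrank_le (W ⊔ LinearMap.ker (QuadraticMap.polarBilin Q u₀))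
    rw [← hP] at h4
    omega
  by_cases hex' : ∃ f ∈ W, f ≠ 0 ∧ Q f = 0
  swap
  · push Not at hex'
    intro y hy
    by_cases hy0 : y = 0
    · rw [hy0]; exact L.zero_mem
    by_cases huy : polar ⇑Q y u₀ = 0
    swap
    · exact hrefl u₀ hu hc y hy (hex' y hy hy0) huy
    obtain ⟨r, hr, hur⟩ := (hW u₀ hu₀W hu0).1
    have h1 : y + r ∈ W := W.add_mem hy hr
    have h2 : polar ⇑Q (y + r) u₀ ≠ 0 := by rw [polar_add_left, huy, zero_add]; exact hur
    have hyr0 : y + r ≠ 0 := fun h => h2 (by rw [h, polar_zero_left])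
    have hr0 : r ≠ 0 := fun h => hur (by rw [h, polar_zero_left])
    simpa using L.sub_mem (hrefl u₀ hu hc _ h1 (hex' _ h1 hyr0) h2)
      (hrefl u₀ hu hc r hr (hex' r hr hr0) hur)
  obtain ⟨f, hfW, hf0, hfQ⟩ := hex'
  have huf := hperp f hfW hf0 hfQ
  by_cases hq : Fintype.card F ≤ 3
  swap
  · classical
    obtain ⟨a, ha⟩ : ∃ a : F, a ∉ ({0, 1, -1} : Finset F) := by
      by_contra h
      push Not at h
      have h1 := Finset.card_le_card (fun a _ => h a : Finset.univ ⊆ ({0, 1, -1} : Finset F))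
      have h2 := Finset.card_le_three (a := (0 : F)) (b := 1) (c := -1)
      rw [Finset.card_univ] at h1
      omega
    simp only [Finset.mem_insert, Finset.mem_singleton, not_or] at ha
    set b := Q u₀ * (1 - a * a) / (a * polar ⇑Q u₀ f) with hb
    have hb0 : b ≠ 0 := div_ne_zero (mul_ne_zero hc (sub_ne_zero.2 fun h => by
      rcases mul_self_eq_one_iff.1 h.symm with r | r
      · exact ha.2.1 r
      · exact ha.2.2 r)) (mul_ne_zero ha.1 huf)
    have hQs : Q (a • u₀ + b • f) = Q u₀ := by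
      rw [QuadraticMap.map_add (⇑Q), QuadraticMap.map_smul, QuadraticMap.map_smul, hfQ,
        polar_smul_left, polar_smul_right, hb]
      simp only [smul_eq_mul]
      have ha0 := ha.1
      have hd : a * polar ⇑Q u₀ f ≠ 0 := mul_ne_zero ha0 huf
      linear_combination div_mul_cancel₀ (Q u₀ * (1 - a * a)) hd
    have h1 := hcl u₀ hu _ (W.add_mem (W.smul_mem a hu₀W) (W.smul_mem b hfW)) hu0
      (fun h => hc (by rw [← hQs, h, map_zero])) hQs
    have h2 := L.sub_mem h1 (L.smul_mem a hu)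
    rw [add_sub_cancel_left] at h2
    exact hsing f ((L.smul_mem_iff hb0).1 h2) hf0 hfQ
  have hWd2 : Module.finrank F W ≠ 2 := fun h => hex ⟨hq, h, F ∙ f, by
    rwa [Submodule.span_singleton_le_iff_mem], fun y hy => by
    obtain ⟨c, rfl⟩ := Submodule.mem_span_singleton.1 hy
    rw [QuadraticMap.map_smul, hfQ, smul_zero], by rw [finrank_span_singleton hf0, h]⟩
  have hW2 : 2 ≤ Module.finrank F W := by
    by_contra h
    have hWeq : F ∙ u₀ = W := Submodule.eq_of_le_of_finrank_le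
      (by rwa [Submodule.span_singleton_le_iff_mem]) (by rw [finrank_span_singleton hu0]; omega)
    rw [← hWeq, Submodule.mem_span_singleton] at hfW
    obtain ⟨c, rfl⟩ := hfW
    rw [QuadraticMap.map_smul, smul_eq_mul] at hfQ
    rcases mul_eq_zero.1 ((mul_eq_zero.1 hfQ).resolve_right hc) with r | r <;> exact hf0 (by rw [r, zero_smul])
  have h2 : (2 : F) ≠ 0 := by
    intro h2
    have hu₀P : u₀ ∈ P := (hPmem u₀).2 ⟨hu₀W, by rw [Orth.polar_self_eq, h2, zero_mul]⟩
    have hle : P ≤ F ∙ u₀ := fun y hy => by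
      obtain ⟨hyW, huy⟩ := (hPmem y).1 hy
      obtain ⟨a, ha⟩ := exists_singular_line h2 hc huy
      by_cases h0 : y + a • u₀ = 0
      · rw [eq_neg_of_add_eq_zero_left h0]
        exact Submodule.neg_mem _ (Submodule.smul_mem _ _ (Submodule.mem_span_singleton_self _))
      · exact absurd (by rw [polar_add_right, huy, polar_smul_right, Orth.polar_self_eq, h2, zero_mul,
          smul_zero, add_zero]) (hperp _ (W.add_mem hyW (W.smul_mem a hu₀W)) h0 ha)
    have := Submodule.finrank_mono hle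
    rw [finrank_span_singleton hu0] at this
    omega
  -- dimension three in odd characteristic
  have hu₀P : u₀ ∉ P := fun h => by
    have := ((hPmem u₀).1 h).2
    rw [Orth.polar_self_eq] at this
    exact mul_ne_zero h2 hc this
  have hPan : ∀ y ∈ P, y ≠ 0 → Q y ≠ 0 := fun y hy hy0 hyQ =>
    hperp y ((hPmem y).1 hy).1 hy0 hyQ ((hPmem y).1 hy).2
  obtain ⟨p₁, hp₁, hp₁0⟩ := P.ne_bot_iff.mp (fun h => by rw [h, finrank_bot] at hWP; omega)
  obtain ⟨p₂, hp₂, hp₁₂, hp₂0⟩ : ∃ y ∈ P, polar ⇑Q p₁ y = 0 ∧ y ≠ 0 := by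
    obtain ⟨y, hy, hy'⟩ : ∃ y ∈ P, y ∉ F ∙ p₁ := by
      by_contra h
      push Not at h
      have := Submodule.finrank_mono (show P ≤ F ∙ p₁ from h)
      rw [finrank_span_singleton hp₁0] at this
      omega
    refine ⟨y - (polar ⇑Q p₁ y / polar ⇑Q p₁ p₁) • p₁, P.sub_mem hy (P.smul_mem _ hp₁), ?_, ?_⟩
    · rw [polar_sub_right, polar_smul_right, smul_eq_mul, div_mul_cancel₀ _ (by
        rw [Orth.polar_self_eq]; exact mul_ne_zero h2 (hPan p₁ hp₁ hp₁0)), sub_self]
    · intro h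
      exact hy' (sub_eq_zero.1 h ▸ Submodule.smul_mem _ _ (Submodule.mem_span_singleton_self _))
  obtain ⟨a, b, hab⟩ := Orth.exists_value_of_orth h2 (hPan p₁ hp₁ hp₁0) (hPan p₂ hp₂ hp₂0) hp₁₂ (Q u₀)
  set z := a • p₁ + b • p₂ with hz
  have hzP : z ∈ P := P.add_mem (P.smul_mem a hp₁) (P.smul_mem b hp₂)
  have hz0 : z ≠ 0 := fun h => hc (by rw [← hab, h, map_zero])
  have hzL : z ∈ L := hcl u₀ hu z ((hPmem z).1 hzP).1 hu0 hz0 hab
  have hzz : polar ⇑Q z z ≠ 0 := by
    rw [Orth.polar_self_eq]; exact mul_ne_zero h2 (hPan z hzP hz0)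
  have hPL : P ≤ L := fun y hy => by
    by_cases hy0 : y = 0
    · rw [hy0]; exact L.zero_mem
    by_cases hyz : polar ⇑Q y z = 0
    swap
    · exact hrefl z hzL (hPan z hzP hz0) y ((hPmem y).1 hy).1 (hPan y hy hy0) hyz
    have hne : polar ⇑Q (y + z) z ≠ 0 := by rw [polar_add_left, hyz, zero_add]; exact hzz
    have h0 : y + z ≠ 0 := fun h => hne (by rw [h, polar_zero_left])
    simpa using L.sub_mem (hrefl z hzL (hPan z hzP hz0) _ ((hPmem _).1 (P.add_mem hy hzP)).1
      (hPan _ (P.add_mem hy hzP) h0) hne) hzL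
  intro y hy
  have huu : polar ⇑Q u₀ u₀ ≠ 0 := by rw [Orth.polar_self_eq]; exact mul_ne_zero h2 hc
  have h1 := L.add_mem (hPL ((hPmem (y - (polar ⇑Q u₀ y / polar ⇑Q u₀ u₀) • u₀)).2
    ⟨W.sub_mem hy (W.smul_mem _ hu₀W), by
      rw [polar_sub_right, polar_smul_right, smul_eq_mul, div_mul_cancel₀ _ huu, sub_self]⟩))
    (L.smul_mem (polar ⇑Q u₀ y / polar ⇑Q u₀ u₀) hu)
  rwa [sub_add_cancel] at h1

end NonDeg

end Cfsg.Agent.Lib.SingMax
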