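import Cfsg.Agent.Lib.SingMax.NonDegMain
import Cfsg.Agent.Lib.NonMax.Decomp

/-!
Intermediate subgroups over the stabilisers of small orthogonal decompositions with members of plus type.
-/

set_option autoImplicit false
set_option linter.unusedSectionVars false

namespace Cfsg.Agent.Lib.SingMax

open Matrix QuadraticMap
open Cfsg.Agent.Lib.FormMax.OrthSL (eichlerGL eichlerGL_mulVec Q_eichlerGL)
open Cfsg.Agent.Lib.NonMax (fnStab IsCompFamily exists_between exists_compFamily)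

variable {ι : Type} [Fintype ι] [DecidableEq ι] {F : Type*} [Field F] [Finite F]
  {Q : QuadraticForm F (ι → F)}

/-- `Ω` is transitive on the vectors of a given non-zero value. -/
theorem exists_omega_move (hQ : (QuadraticMap.polarBilin Q).Nondegenerate) (hn : 7 ≤ Fintype.card ι)
    {x y : ι → F} (hx : Q x ≠ 0) (h : Q y = Q x) :
    ∃ g ∈ Cfsg.Geo.omegaGL ⇑Q, (g : Matrix ι ι F) *ᵥ x = y := by
  by_cases h2 : (2 : F) = 0
  · haveI : CharP F 2 := CharTwo.of_one_ne_zero_of_two_eq_zero one_ne_zero h2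
    obtain ⟨v, a, hv, ha, hvx⟩ := exists_transitive_two hQ hn hx h
    exact ⟨_, E_mem_omega hQ hn hv ha, hvx⟩
  obtain ⟨g, hg, hgx⟩ := Orth.siegel_transitive h2 hQ (by omega) hx h
  exact ⟨_, Subgroup.mem_map_of_mem _ (Orth.siegelGroup_le_omega h2 hQ (by omega) hg), hgx⟩

/-- Two reflections in vectors of equal value give an element of `Ω`. -/
theorem exists_refl_pair (hQ : (QuadraticMap.polarBilin Q).Nondegenerate) {w w' : ι → F} (hw : Q w ≠ 0)
    (h : Q w' = Q w) :
    ∃ g ∈ Cfsg.Geo.omegaGL ⇑Q, ∀ v, (g : Matrix ι ι F) *ᵥ v =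
      (v - ((Q w')⁻¹ * polar ⇑Q w' v) • w') -
        ((Q w)⁻¹ * polar ⇑Q w (v - ((Q w')⁻¹ * polar ⇑Q w' v) • w')) • w := by
  have hw' : Q w' ≠ 0 := h ▸ hw
  obtain ⟨c, hc⟩ := Forms.exists_conj_reflElem hQ hw hw' h.symm
  have hmem : Forms.reflElem hw * Forms.reflElem hw' ∈ Cfsg.Omega F ⇑Q := by
    refine (QuotientGroup.eq_one_iff _).1 ?_
    show Abelianization.of _ = 1
    rw [← hc, map_mul, map_mul, map_mul, map_inv, mul_comm (Abelianization.of c), mul_inv_cancel_right,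
      ← map_mul, Forms.reflElem_mul_self, map_one]
  refine ⟨_, Subgroup.mem_map_of_mem _ hmem, fun v => ?_⟩
  rw [Subgroup.coe_subtype, Subgroup.coe_mul, Units.val_mul, ← mulVec_mulVec, Forms.reflElem_mulVec,
    Forms.reflElem_mulVec]

/-- Orthogonal hyperbolic planes forming a decomposition. -/
structure PlaneFrame (Q : QuadraticForm F (ι → F)) {t : ℕ} (D : Fin t → Submodule F (ι → F))
    (e f : Fin t → ι → F) : Prop where
  span_eq : ∀ i, D i = Submodule.span F {e i, f i}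
  Qe : ∀ i, Q (e i) = 0
  Qf : ∀ i, Q (f i) = 0
  one : ∀ i, polar ⇑Q (e i) (f i) = 1
  orth : ∀ i j, i ≠ j → ∀ u ∈ D i, ∀ v ∈ D j, polar ⇑Q u v = 0

section Frame

variable {t : ℕ} {D : Fin t → Submodule F (ι → F)} {e f : Fin t → ι → F} (hF : PlaneFrame Q D e f)
include hF

theorem PlaneFrame.mem_e (i : Fin t) : e i ∈ D i := hF.span_eq i ▸ Submodule.subset_span (by simp)
theorem PlaneFrame.mem_f (i : Fin t) : f i ∈ D i := hF.span_eq i ▸ Submodule.subset_span (by simp)

theorem PlaneFrame.ef (i j : Fin t) : polar ⇑Q (e i) (f j) = if i = j then 1 else 0 := by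
  split
  · next h => rw [h, hF.one]
  · next h => exact hF.orth i j h _ (hF.mem_e i) _ (hF.mem_f j)

theorem PlaneFrame.fe (i j : Fin t) : polar ⇑Q (f i) (e j) = if i = j then 1 else 0 := by
  rw [polar_comm, hF.ef]
  exact if_congr eq_comm rfl rfl

theorem PlaneFrame.ee (i j : Fin t) : polar ⇑Q (e i) (e j) = 0 := by
  by_cases h : i = j
  · rw [h, Orth.polar_self_zero (hF.Qe j)]
  · exact hF.orth i j h _ (hF.mem_e i) _ (hF.mem_e j)

theorem PlaneFrame.ff (i j : Fin t) : polar ⇑Q (f i) (f j) = 0 := by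
  by_cases h : i = j
  · rw [h, Orth.polar_self_zero (hF.Qf j)]
  · exact hF.orth i j h _ (hF.mem_f i) _ (hF.mem_f j)

theorem PlaneFrame.image {g : GL ι F} (hg : ∀ y, Q ((g : Matrix ι ι F) *ᵥ y) = Q y) {i j : Fin t}
    (hgD : ∀ v ∈ D i, (g : Matrix ι ι F) *ᵥ v ∈ D j) :
    ∃ c : F, c ≠ 0 ∧ (((g : Matrix ι ι F) *ᵥ e i = c • e j ∧ (g : Matrix ι ι F) *ᵥ f i = c⁻¹ • f j) ∨
      ((g : Matrix ι ι F) *ᵥ e i = c • f j ∧ (g : Matrix ι ι F) *ᵥ f i = c⁻¹ • e j)) := by
  obtain ⟨a, b, hab⟩ := Submodule.mem_span_pair.1 (hF.span_eq j ▸ hgD _ (hF.mem_e i))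
  obtain ⟨a', b', hab'⟩ := Submodule.mem_span_pair.1 (hF.span_eq j ▸ hgD _ (hF.mem_f i))
  have h1 := congrArg ⇑Q hab
  rw [hg, hF.Qe, QuadraticMap.map_add (⇑Q), QuadraticMap.map_smul, QuadraticMap.map_smul, hF.Qe, hF.Qf,
    polar_smul_left, polar_smul_right, hF.one] at h1
  simp only [smul_eq_mul, mul_zero, zero_add, mul_one] at h1
  have h2 := congrArg ⇑Q hab'
  rw [hg, hF.Qf, QuadraticMap.map_add (⇑Q), QuadraticMap.map_smul, QuadraticMap.map_smul, hF.Qe, hF.Qf,
    polar_smul_left, polar_smul_right, hF.one] at h2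
  simp only [smul_eq_mul, mul_zero, zero_add, mul_one] at h2
  have h3 : a * b' + b * a' = 1 := by
    have h := polar_of_iso hg (e i) (f i)
    rw [← hab, ← hab', hF.one] at h
    simp only [polar_add_left, polar_add_right, polar_smul_left, polar_smul_right, smul_eq_mul, hF.ee,
      hF.ff, hF.one, polar_comm (⇑Q) (f j) (e j)] at h
    linear_combination h
  rcases mul_eq_zero.1 h1 with ha | hb
  · subst ha
    rw [zero_mul, zero_add] at h3
    have hb : b ≠ 0 := left_ne_zero_of_mul_eq_one h3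
    have ha' : a' = b⁻¹ := eq_inv_of_mul_eq_one_right h3
    have hb' : b' = 0 := (mul_eq_zero.1 h2).resolve_left (ha' ▸ inv_ne_zero hb)
    exact ⟨b, hb, Or.inr ⟨by rw [← hab, zero_smul, zero_add],
      by rw [← hab', hb', ha', zero_smul, add_zero]⟩⟩
  · subst hb
    rw [zero_mul, add_zero] at h3
    have ha : a ≠ 0 := left_ne_zero_of_mul_eq_one h3
    have hb' : b' = a⁻¹ := eq_inv_of_mul_eq_one_right h3
    have ha' : a' = 0 := (mul_eq_zero.1 h2).resolve_right (hb' ▸ inv_ne_zero ha)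
    exact ⟨a, ha, Or.inl ⟨by rw [← hab, zero_smul, add_zero],
      by rw [← hab', hb', ha', zero_smul, zero_add]⟩⟩

/-- Coordinates are carried along by the stabiliser. -/
theorem PlaneFrame.coords {g : GL ι F} (hgD : g ∈ Cfsg.Geo.decompositionStabilizer D)
    (hg : ∀ y, Q ((g : Matrix ι ι F) *ᵥ y) = Q y) :
    ∃ σ : Equiv.Perm (Fin t), ∀ i, ∃ c : F, c ≠ 0 ∧
      ((∀ v, polar ⇑Q ((g : Matrix ι ι F) *ᵥ v) (f (σ i)) = c * polar ⇑Q v (f i) ∧
          polar ⇑Q ((g : Matrix ι ι F) *ᵥ v) (e (σ i)) = c⁻¹ * polar ⇑Q v (e i)) ∨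
       (∀ v, polar ⇑Q ((g : Matrix ι ι F) *ᵥ v) (f (σ i)) = c * polar ⇑Q v (e i) ∧
          polar ⇑Q ((g : Matrix ι ι F) *ᵥ v) (e (σ i)) = c⁻¹ * polar ⇑Q v (f i))) := by
  obtain ⟨σ, hσ⟩ := hgD
  refine ⟨σ, fun i => ?_⟩
  obtain ⟨c, hc, hcase⟩ := hF.image hg (i := i) (j := σ i)
    (fun v hv => hσ i ▸ ⟨v, hv, Matrix.toLin'_apply _ _⟩)
  have key : ∀ {z w : ι → F} {d : F}, d ≠ 0 → (g : Matrix ι ι F) *ᵥ z = d • w →
      ∀ v, polar ⇑Q ((g : Matrix ι ι F) *ᵥ v) w = d⁻¹ * polar ⇑Q v z := by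
    intro z w d hd hz v
    have h := polar_of_iso hg v z
    rw [hz, polar_smul_right, smul_eq_mul] at h
    rw [← h, inv_mul_cancel_left₀ hd]
  rcases hcase with ⟨he, hf⟩ | ⟨he, hf⟩
  · refine ⟨c, hc, Or.inl fun v => ⟨?_, key hc he v⟩⟩
    rw [key (inv_ne_zero hc) hf v, inv_inv]
  · refine ⟨c⁻¹, inv_ne_zero hc, Or.inr fun v => ⟨key hc he v, ?_⟩⟩
    rw [key (inv_ne_zero hc) hf v]

/-- An image of `e i` with two non-zero second coordinates is outside the stabiliser. -/
theorem PlaneFrame.not_mem {g : GL ι F} (hg : ∀ y, Q ((g : Matrix ι ι F) *ᵥ y) = Q y) {i a b : Fin t}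
    (hab : a ≠ b) (ha : polar ⇑Q ((g : Matrix ι ι F) *ᵥ e i) (e a) ≠ 0)
    (hb : polar ⇑Q ((g : Matrix ι ι F) *ᵥ e i) (e b) ≠ 0) :
    g ∉ Cfsg.Geo.decompositionStabilizer D := by
  rintro ⟨σ, hσ⟩
  obtain ⟨c, hc, hcase⟩ := hF.image hg (i := i) (j := σ i)
    (fun v hv => hσ i ▸ ⟨v, hv, Matrix.toLin'_apply _ _⟩)
  rcases hcase with ⟨he, -⟩ | ⟨he, -⟩
  · rw [he, polar_smul_left, hF.ee, smul_zero] at ha
    exact ha rfl
  · rw [he, polar_smul_left, hF.fe] at ha hb
    have h1 : σ i = a := by by_contra h; rw [if_neg h, smul_zero] at ha; exact ha rfl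
    have h2 : σ i = b := by by_contra h; rw [if_neg h, smul_zero] at hb; exact hb rfl
    exact hab (h1.symm.trans h2)

theorem PlaneFrame.Q_pair (i : Fin t) : Q (e i + f i) = 1 := by
  rw [QuadraticMap.map_add (⇑Q), hF.Qe, hF.Qf, hF.one, zero_add, zero_add]

theorem PlaneFrame.pair_pair (i j : Fin t) (h : i ≠ j) : polar ⇑Q (e i + f i) (e j + f j) = 0 :=
  hF.orth i j h _ ((D i).add_mem (hF.mem_e i) (hF.mem_f i)) _ ((D j).add_mem (hF.mem_e j) (hF.mem_f j))

variable (hQ : (QuadraticMap.polarBilin Q).Nondegenerate) (hn : 7 ≤ Fintype.card ι) (ht : 5 ≤ t)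
include hQ hn ht

/-- The graph of a power map in the coordinates gives an intermediate subgroup. -/
theorem between_graph {m : ℕ} (hm : 0 < m) (hadd : ∀ x y : F, (x + y) ^ m = x ^ m + y ^ m)
    (hinv : ∀ c : F, c ≠ 0 → c ^ m = c⁻¹) (hmm : ∀ x : F, (x ^ m) ^ m = x)
    (hfix : ∀ x : F, (x + x ^ m) ^ m = x + x ^ m)
    {w : ι → F} (hw : ∃ s : List (Fin t), s.Nodup ∧ (⟨0, by omega⟩ : Fin t) ∈ s ∧ (⟨1, by omega⟩ : Fin t) ∈ s ∧
      (⟨4, by omega⟩ : Fin t) ∉ s ∧ w = (s.map fun i => e i + f i).sum) (hwQ : Q w = 1) :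
    ∃ K : Subgroup (GL ι F), Cfsg.Geo.decompositionStabilizer D ⊓ Cfsg.Geo.omegaGL ⇑Q < K ∧
      K < Cfsg.Geo.omegaGL ⇑Q := by
  classical
  let P : (ι → F) → Prop := fun v => ∀ i, polar ⇑Q v (e i) = polar ⇑Q v (f i) ^ m
  have hiso : ∀ g ∈ Cfsg.Geo.omegaGL ⇑Q, ∀ y, Q ((g : Matrix ι ι F) *ᵥ y) = Q y := by
    rintro _ ⟨g, -, rfl⟩ y
    exact Orth.mem_isometryGroup_iff.1 g.2 y
  have hHK : Cfsg.Geo.decompositionStabilizer D ⊓ Cfsg.Geo.omegaGL ⇑Q ≤
      fnStab P ⊓ Cfsg.Geo.omegaGL ⇑Q := by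
    refine fun g hg => ⟨fun v => propext ?_, hg.2⟩
    obtain ⟨σ, hσ⟩ := hF.coords hg.1 (hiso g hg.2)
    show (∀ i, _) ↔ (∀ i, _)
    constructor
    · intro h i
      obtain ⟨c, hc, hcase⟩ := hσ i
      rcases hcase with hcase | hcase <;> obtain ⟨h1, h2⟩ := hcase v <;> have h3 := h (σ i) <;>
        rw [h1, h2, mul_pow, hinv c hc] at h3 <;> have h4 := mul_left_cancel₀ (inv_ne_zero hc) h3
      · exact h4
      · rw [h4, hmm]
    · intro h j
      obtain ⟨i, rfl⟩ := σ.surjective j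
      obtain ⟨c, hc, hcase⟩ := hσ i
      rcases hcase with hcase | hcase <;> obtain ⟨h1, h2⟩ := hcase v <;>
        rw [h1, h2, mul_pow, hinv c hc, h i]
      rw [hmm]
  obtain ⟨s, hs, h0, h1, h4, rfl⟩ := hw
  set w := (s.map fun i => e i + f i).sum with hwdef
  have hwe : ∀ j, polar ⇑Q w (e j) = if j ∈ s then 1 else 0 := by
    intro j
    have : ∀ l : List (Fin t), l.Nodup → polar ⇑Q (l.map fun i => e i + f i).sum (e j) = if j ∈ l then 1 else 0 := by
      intro l hl
      induction l with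
      | nil => simp
      | cons i l ih =>
        obtain ⟨hi, hl'⟩ := List.nodup_cons.1 hl
        rw [List.map_cons, List.sum_cons, polar_add_left, polar_add_left, hF.ee, hF.fe, ih hl', zero_add]
        by_cases hij : i = j
        · subst hij; simp [hi]
        · simp [hij, Ne.symm hij]
    exact this s hs
  have hwf : ∀ j, polar ⇑Q w (f j) = if j ∈ s then 1 else 0 := by
    intro j
    have : ∀ l : List (Fin t), l.Nodup → polar ⇑Q (l.map fun i => e i + f i).sum (f j) = if j ∈ l then 1 else 0 := by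
      intro l hl
      induction l with
      | nil => simp
      | cons i l ih =>
        obtain ⟨hi, hl'⟩ := List.nodup_cons.1 hl
        rw [List.map_cons, List.sum_cons, polar_add_left, polar_add_left, hF.ff, hF.ef, ih hl', add_zero]
        by_cases hij : i = j
        · subst hij; simp [hi]
        · simp [hij, Ne.symm hij]
    exact this s hs
  set i₄ : Fin t := ⟨4, by omega⟩
  obtain ⟨g, hgΩ, hgv⟩ := exists_refl_pair hQ (w := w) (w' := e i₄ + f i₄) (by rw [hwQ]; exact one_ne_zero)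
    (by rw [hF.Q_pair, hwQ])
  -- reflections in vectors fixed by the power map keep the graph
  have hrefl : ∀ z : ι → F, (∀ j, polar ⇑Q z (e j) = polar ⇑Q z (f j)) →
      (∀ j, polar ⇑Q z (e j) = 0 ∨ polar ⇑Q z (e j) = 1) →
      (∀ v, P v → polar ⇑Q z v ^ m = polar ⇑Q z v) →
      ∀ v, P v → P (v - polar ⇑Q z v • z) := by
    intro z hz hz01 hzv v hv j
    have h01 : polar ⇑Q z (f j) ^ m = polar ⇑Q z (f j) := by
      rcases hz01 j with h | h <;> rw [← hz j, h]
      · exact zero_pow hm.ne'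
      · exact one_pow m
    simp only [sub_eq_add_neg, ← neg_smul, polar_add_left, polar_smul_left, smul_eq_mul]
    rw [hadd, mul_pow, h01, hv j, hz j, show (-polar ⇑Q z v) ^ m = -polar ⇑Q z v from ?_]
    have := hadd (polar ⇑Q z v) (-polar ⇑Q z v)
    rw [add_neg_cancel, zero_pow hm.ne', hzv v hv] at this
    linear_combination -this
  -- the value against `z` of a graph vector is fixed by the power map
  have hval : ∀ (l : List (Fin t)) v, P v →
      polar ⇑Q (l.map fun i => e i + f i).sum v ^ m = polar ⇑Q (l.map fun i => e i + f i).sum v := by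
    intro l v hv
    induction l with
    | nil => simp [hm.ne']
    | cons i l ih =>
      rw [List.map_cons, List.sum_cons, polar_add_left, hadd, ih, polar_add_left, polar_comm _ (e i) v,
        polar_comm _ (f i) v, hv i, add_comm (polar ⇑Q v (f i) ^ m) (polar ⇑Q v (f i)), hfix]
  have hu4 : ∀ j, polar ⇑Q (e i₄ + f i₄) (e j) = if i₄ = j then 1 else 0 := fun j => by
    rw [polar_add_left, hF.ee, hF.fe, zero_add]
  have hu4' : ∀ j, polar ⇑Q (e i₄ + f i₄) (f j) = if i₄ = j then 1 else 0 := fun j => by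
    rw [polar_add_left, hF.ff, hF.ef, add_zero]
  have hstep : ∀ v, P v → P ((g : Matrix ι ι F) *ᵥ v) := by
    intro v hv
    rw [hgv, hF.Q_pair, hwQ, inv_one, one_mul, one_mul]
    refine hrefl w (fun j => by rw [hwe, hwf]) (fun j => by rw [hwe]; split <;> simp)
      (fun v hv => hval s v hv) _ ?_
    exact hrefl _ (fun j => by rw [hu4, hu4']) (fun j => by rw [hu4]; split <;> simp)
      (fun v hv => by simpa using hval [i₄] v hv) v hv
  have hgK : g ∈ fnStab P ⊓ Cfsg.Geo.omegaGL ⇑Q := by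
    refine ⟨fun v => propext ⟨fun h => ?_, hstep v⟩, hgΩ⟩
    let φ : {v // P v} → {v // P v} := fun x => ⟨_, hstep x.1 x.2⟩
    have hinj : Function.Injective φ := fun x y hxy =>
      Subtype.ext (NonMax.mulVec_left_inj (congrArg Subtype.val hxy))
    haveI : Finite {v // P v} := Subtype.finite
    obtain ⟨⟨v', hv'⟩, hv''⟩ := (Finite.injective_iff_surjective.1 hinj) ⟨_, h⟩
    exact NonMax.mulVec_left_inj (congrArg Subtype.val hv'') ▸ hv'
  have hge : (g : Matrix ι ι F) *ᵥ e ⟨0, by omega⟩ = e ⟨0, by omega⟩ - w := by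
    rw [hgv, hF.Q_pair, hwQ, inv_one, one_mul, one_mul, hu4, if_neg (by simp [i₄]), zero_smul, sub_zero,
      hwe, if_pos h0, one_smul]
  refine exists_between hHK inf_le_right hgK ?_ ?_ ?_ (x := ?_)
  · refine fun h => hF.not_mem (hiso g hgΩ) (i := ⟨0, by omega⟩) (a := ⟨0, by omega⟩) (b := ⟨1, by omega⟩)
      (by simp) ?_ ?_ h.1 <;> rw [hge, polar_sub_left, hF.ee, hwe]
    · rw [if_pos h0]; simp
    · rw [if_pos h1]; simp
  · exact (exists_omega_move hQ hn (x := e ⟨0, by omega⟩ + f ⟨0, by omega⟩)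
      (y := e ⟨0, by omega⟩ + f ⟨0, by omega⟩ + e ⟨1, by omega⟩)
      (by rw [hF.Q_pair]; exact one_ne_zero)
      (by rw [QuadraticMap.map_add (⇑Q), hF.Qe, add_zero, polar_add_left, hF.ee, hF.fe,
        if_neg (by simp), add_zero, add_zero])).choose
  · exact (exists_omega_move hQ hn (x := e ⟨0, by omega⟩ + f ⟨0, by omega⟩)
      (y := e ⟨0, by omega⟩ + f ⟨0, by omega⟩ + e ⟨1, by omega⟩)
      (by rw [hF.Q_pair]; exact one_ne_zero)
      (by rw [QuadraticMap.map_add (⇑Q), hF.Qe, add_zero, polar_add_left, hF.ee, hF.fe,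
        if_neg (by simp), add_zero, add_zero])).choose_spec.1
  · intro h
    have hx := h.1 (e ⟨0, by omega⟩ + f ⟨0, by omega⟩)
    rw [(exists_omega_move hQ hn (x := e ⟨0, by omega⟩ + f ⟨0, by omega⟩)
      (y := e ⟨0, by omega⟩ + f ⟨0, by omega⟩ + e ⟨1, by omega⟩)
      (by rw [hF.Q_pair]; exact one_ne_zero)
      (by rw [QuadraticMap.map_add (⇑Q), hF.Qe, add_zero, polar_add_left, hF.ee, hF.fe,
        if_neg (by simp), add_zero, add_zero])).choose_spec.2] at hx
    have hP0 : P (e ⟨0, by omega⟩ + f ⟨0, by omega⟩) := fun j => by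
      rw [polar_add_left, polar_add_left, hF.ee, hF.fe, hF.ef, hF.ff, zero_add, add_zero]
      split <;> simp [hm.ne']
    have := (Eq.mpr hx hP0) ⟨1, by omega⟩
    rw [polar_add_left, polar_add_left, polar_add_left, polar_add_left, hF.ee, hF.ee, hF.ef, hF.fe, hF.ff,
      hF.ef, if_neg (by simp), if_pos rfl] at this
    simp at this

/-- Over five elements the monomial frame of square values gives an intermediate subgroup. -/
theorem between_five [Fintype F] (hq : Fintype.card F = 5) :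
    ∃ K : Subgroup (GL ι F), Cfsg.Geo.decompositionStabilizer D ⊓ Cfsg.Geo.omegaGL ⇑Q < K ∧
      K < Cfsg.Geo.omegaGL ⇑Q := by
  classical
  have h5 : (5 : F) = 0 := by
    have := Nat.cast_card_eq_zero F
    rw [hq] at this
    exact_mod_cast this
  have h2 : (2 : F) ≠ 0 := fun h => one_ne_zero (show (1 : F) = 0 by linear_combination h5 - 2 * h)
  have hpow : ∀ c : F, c ≠ 0 → c⁻¹ = c ∨ c⁻¹ = -c := by
    intro c hc
    have h := FiniteField.pow_card_sub_one_eq_one c hc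
    rw [hq] at h
    rcases mul_self_eq_one_iff.1 (show c * c * (c * c) = 1 by linear_combination h) with h' | h'
    · exact Or.inl (inv_eq_of_mul_eq_one_right h')
    · exact Or.inr (inv_eq_of_mul_eq_one_right (by linear_combination -h'))
  let s : (ι → F) → Fin t → F := fun v i => polar ⇑Q v (f i) + polar ⇑Q v (e i)
  let d : (ι → F) → Fin t → F := fun v i => polar ⇑Q v (f i) - polar ⇑Q v (e i)
  let φ : F → ℕ := fun z => if z = 0 then 0 else 1
  have hφ : ∀ c z : F, c ≠ 0 → φ (c * z) = φ z := fun c z hc => by simp [φ, hc]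
  let W : (ι → F) → ℕ := fun v => ∑ i, (φ (s v i) + φ (d v i))
  have hiso : ∀ g ∈ Cfsg.Geo.omegaGL ⇑Q, ∀ y, Q ((g : Matrix ι ι F) *ᵥ y) = Q y := by
    rintro _ ⟨g, -, rfl⟩ y
    exact Orth.mem_isometryGroup_iff.1 g.2 y
  have hHK : Cfsg.Geo.decompositionStabilizer D ⊓ Cfsg.Geo.omegaGL ⇑Q ≤
      fnStab W ⊓ Cfsg.Geo.omegaGL ⇑Q := by
    refine fun g hg => ⟨fun v => ?_, hg.2⟩
    obtain ⟨σ, hσ⟩ := hF.coords hg.1 (hiso g hg.2)
    show ∑ i, _ = ∑ i, _
    rw [← Equiv.sum_comp σ]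
    refine Finset.sum_congr rfl fun i _ => ?_
    obtain ⟨c, hc, hcase⟩ := hσ i
    have hn1 : ∀ z : F, φ (-z) = φ z := fun z => by simp [φ]
    rcases hcase with hcase | hcase <;> obtain ⟨h1, h2'⟩ := hcase v <;>
      simp only [s, d, h1, h2'] <;> rcases hpow c hc with h | h <;> rw [h]
    · rw [← mul_add, ← mul_sub, hφ c _ hc, hφ c _ hc]
    · rw [neg_mul, ← sub_eq_add_neg, sub_neg_eq_add, ← mul_add, ← mul_sub, hφ c _ hc, hφ c _ hc, add_comm]
    · rw [← mul_add, ← mul_sub, hφ c _ hc, hφ c _ hc, add_comm (polar ⇑Q v (e i)), ← hn1 (_ - _), neg_sub]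
    · rw [neg_mul, ← sub_eq_add_neg, sub_neg_eq_add, ← mul_add, ← mul_sub, hφ c _ hc, hφ c _ hc,
        add_comm (polar ⇑Q v (e i)), ← hn1 (_ - _), neg_sub, add_comm]
  let u : Fin t → ι → F := fun i => e i + f i
  have hue : ∀ i j, polar ⇑Q (u i) (e j) = if i = j then 1 else 0 := fun i j => by
    rw [polar_add_left, hF.ee, hF.fe, zero_add]
  have huf : ∀ i j, polar ⇑Q (u i) (f j) = if i = j then 1 else 0 := fun i j => by
    rw [polar_add_left, hF.ff, hF.ef, add_zero]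
  have hwQ : ∀ a b, a ≠ b → Q (u a - u b) = 2 := fun a b hab => by
    rw [sub_eq_add_neg, QuadraticMap.map_add (⇑Q), QuadraticMap.map_neg, polar_neg_right, hF.Q_pair, hF.Q_pair,
      hF.pair_pair a b hab]
    ring
  -- the reflection in a difference swaps two coordinates
  have hswap : ∀ a b, a ≠ b → ∀ v, W (v - ((2 : F)⁻¹ * polar ⇑Q (u a - u b) v) • (u a - u b)) = W v := by
    intro a b hab v
    set v' := v - ((2 : F)⁻¹ * polar ⇑Q (u a - u b) v) • (u a - u b) with hv'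
    have hl : polar ⇑Q (u a - u b) v = s v a - s v b := by
      rw [polar_sub_left, polar_add_left, polar_add_left, polar_comm _ (e a), polar_comm _ (f a),
        polar_comm _ (e b), polar_comm _ (f b)]
      simp only [s]; ring
    have hd' : ∀ i, d v' i = d v i := fun i => by
      simp only [d, hv', polar_sub_left, polar_smul_left, hue, huf]
      ring
    have hs' : ∀ i, s v' i = s v (Equiv.swap a b i) := by
      intro i
      have h0 : s v' i = s v i - (2 : F)⁻¹ * (s v a - s v b) *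
          (2 * ((if a = i then 1 else 0) - (if b = i then 1 else 0))) := by
        simp only [s] at hl ⊢
        simp only [hv', polar_sub_left, polar_smul_left, hue, huf, smul_eq_mul] at hl ⊢
        rw [hl]
        ring
      rw [h0]
      by_cases ha : a = i
      · subst ha
        rw [Equiv.swap_apply_left, if_pos rfl, if_neg hab.symm]
        field_simp; ring
      by_cases hb : b = i
      · subst hb
        rw [Equiv.swap_apply_right, if_pos rfl, if_neg ha]
        field_simp; ring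
      rw [Equiv.swap_apply_of_ne_of_ne (Ne.symm ha) (Ne.symm hb), if_neg ha, if_neg hb]
      ring
    show ∑ i, (φ (s v' i) + φ (d v' i)) = ∑ i, (φ (s v i) + φ (d v i))
    simp only [hs', hd', Finset.sum_add_distrib]
    rw [Equiv.sum_comp (Equiv.swap a b) (fun i => φ (s v i))]
  set i₀ : Fin t := ⟨0, by omega⟩
  set i₁ : Fin t := ⟨1, by omega⟩
  set i₂ : Fin t := ⟨2, by omega⟩
  set i₃ : Fin t := ⟨3, by omega⟩
  have h01 : i₀ ≠ i₁ := by simp [i₀, i₁]
  have h23 : i₂ ≠ i₃ := by simp [i₂, i₃]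
  obtain ⟨g, hgΩ, hgv⟩ := exists_refl_pair hQ (w := u i₀ - u i₁) (w' := u i₂ - u i₃)
    (by rw [hwQ _ _ h01]; exact h2) (by rw [hwQ _ _ h01, hwQ _ _ h23])
  have hgK : g ∈ fnStab W ⊓ Cfsg.Geo.omegaGL ⇑Q := ⟨fun v => by
    rw [hgv, hwQ _ _ h01, hwQ _ _ h23, hswap _ _ h01, hswap _ _ h23], hgΩ⟩
  have hge : (g : Matrix ι ι F) *ᵥ e i₀ = e i₀ - (2 : F)⁻¹ • (u i₀ - u i₁) := by
    rw [hgv, hwQ _ _ h01, hwQ _ _ h23, polar_sub_left, hue, hue, if_neg (by simp [i₂, i₀]),
      if_neg (by simp [i₃, i₀]), sub_zero, mul_zero, zero_smul, sub_zero, polar_sub_left, hue, hue,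
      if_pos rfl, if_neg h01.symm, sub_zero, mul_one]
  obtain ⟨x, hx, hxu⟩ := exists_omega_move hQ hn (x := u i₀) (y := u i₀ + e i₁)
    (by rw [hF.Q_pair]; exact one_ne_zero)
    (by rw [QuadraticMap.map_add (⇑Q), hF.Qe, add_zero, hue, if_neg h01, add_zero])
  refine exists_between hHK inf_le_right hgK ?_ hx ?_
  · refine fun h => hF.not_mem (hiso g hgΩ) (i := i₀) (a := i₀) (b := i₁) h01 ?_ ?_ h.1 <;>
      rw [hge, polar_sub_left, hF.ee, polar_smul_left, polar_sub_left, hue, hue, zero_sub, neg_ne_zero] <;>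
      simp [h01, h01.symm, h2]
  · intro h
    have hW := h.1 (u i₀)
    rw [hxu] at hW
    have e0 : ∀ i, s (u i₀) i = if i₀ = i then 2 else 0 := fun i => by
      simp only [s, hue, huf]
      split <;> ring
    have d0 : ∀ i, d (u i₀) i = 0 := fun i => by simp only [d, hue, huf, sub_self]
    have e1 : ∀ i, s (u i₀ + e i₁) i = (if i₀ = i then 2 else 0) + (if i₁ = i then 1 else 0) := fun i => by
      simp only [s, polar_add_left, hue, huf, hF.ee, hF.ef]
      split <;> split <;> ring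
    have d1 : ∀ i, d (u i₀ + e i₁) i = if i₁ = i then 1 else 0 := fun i => by
      simp only [d, polar_add_left, hue, huf, hF.ee, hF.ef]
      split <;> ring
    have w0 : W (u i₀) = 1 := by
      show ∑ i, (φ (s (u i₀) i) + φ (d (u i₀) i)) = 1
      rw [Finset.sum_eq_single i₀]
      · simp [e0, d0, φ, h2]
      · intro i _ hi; simp [e0, d0, φ, Ne.symm hi]
      · simp
    have w1 : W (u i₀ + e i₁) = 3 := by
      show ∑ i, (φ (s (u i₀ + e i₁) i) + φ (d (u i₀ + e i₁) i)) = 3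
      rw [Finset.sum_eq_add i₀ i₁ h01]
      · simp [e1, d1, φ, h01, h01.symm, h2]
      · intro i _ hi; simp [e1, d1, φ, Ne.symm hi.1, Ne.symm hi.2]
      · simp
      · simp
    omega

end Frame

/-- Over two elements the members of dimension four and plus type split canonically. -/
theorem between_four_two [Fintype F] (hQ : (QuadraticMap.polarBilin Q).Nondegenerate)
    (hn : 7 ≤ Fintype.card ι) (hq : Fintype.card F = 2) {t : ℕ} (ht : 2 ≤ t)
    {D : Fin t → Submodule F (ι → F)} (hind : iSupIndep D) (hsup : iSup D = ⊤)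
    (horth : ∀ i j, i ≠ j → ∀ u ∈ D i, ∀ v ∈ D j, polar ⇑Q u v = 0)
    (a b a' b' : Fin t → ι → F)
    (hspan : ∀ i, D i = Submodule.span F {a i, b i, a' i, b' i})
    (hQa : ∀ i, Q (a i) = 1) (hQb : ∀ i, Q (b i) = 1) (hQa' : ∀ i, Q (a' i) = 1) (hQb' : ∀ i, Q (b' i) = 1)
    (hab : ∀ i, polar ⇑Q (a i) (b i) = 1) (hab' : ∀ i, polar ⇑Q (a' i) (b' i) = 1)
    (h1 : ∀ i, polar ⇑Q (a i) (a' i) = 0) (h2 : ∀ i, polar ⇑Q (a i) (b' i) = 0)
    (h3 : ∀ i, polar ⇑Q (b i) (a' i) = 0) (h4 : ∀ i, polar ⇑Q (b i) (b' i) = 0) :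
    ∃ K : Subgroup (GL ι F), Cfsg.Geo.decompositionStabilizer D ⊓ Cfsg.Geo.omegaGL ⇑Q < K ∧
      K < Cfsg.Geo.omegaGL ⇑Q := by
  classical
  have hF2 : ∀ z : F, z = 0 ∨ z = 1 := by
    intro z
    by_contra hc
    push Not at hc
    have h := Finset.card_le_univ ({0, 1, z} : Finset F)
    rw [Finset.card_insert_of_notMem (by simp [hc.1.symm]), Finset.card_insert_of_notMem (by simp [hc.2.symm]),
      Finset.card_singleton, hq] at h
    omega
  have two : (2 : F) = 0 := by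
    have := Nat.cast_card_eq_zero F
    rw [hq] at this
    exact_mod_cast this
  haveI : CharP F 2 := CharTwo.of_one_ne_zero_of_two_eq_zero one_ne_zero two
  obtain ⟨π, hπ⟩ := exists_compFamily hind hsup
  have hma : ∀ i, a i ∈ D i := fun i => hspan i ▸ Submodule.subset_span (by simp)
  have hmb : ∀ i, b i ∈ D i := fun i => hspan i ▸ Submodule.subset_span (by simp)
  have hma' : ∀ i, a' i ∈ D i := fun i => hspan i ▸ Submodule.subset_span (by simp)
  have hmb' : ∀ i, b' i ∈ D i := fun i => hspan i ▸ Submodule.subset_span (by simp)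
  -- the number of minus planes met by a component
  let N : (ι → F) → Fin t → ℕ := fun v i =>
    (if polar ⇑Q v (a i) = 0 ∧ polar ⇑Q v (b i) = 0 then 0 else 1) +
    (if polar ⇑Q v (a' i) = 0 ∧ polar ⇑Q v (b' i) = 0 then 0 else 1)
  have hpi : ∀ v i, ∀ z ∈ D i, polar ⇑Q v z = polar ⇑Q (π i v) z := by
    intro v i z hz
    conv_lhs => rw [← hπ.sum v]
    rw [polar_comm, polar_comm _ (π i v) z]
    show QuadraticMap.polarBilin Q z (∑ j, π j v) = _
    rw [map_sum, Finset.sum_eq_single i]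
    · rfl
    · intro j _ hj
      exact horth i j (Ne.symm hj) z hz _ (hπ.mem j v)
    · simp
  let φ : (ι → F) → ℕ := fun z => if z = 0 then 0 else if Q z = 1 then 1 else 2
  have hN : ∀ v i, N v i = φ (π i v) := by
    intro v i
    obtain ⟨α, z1, hz1, e1⟩ := Submodule.mem_span_insert.1 (hspan i ▸ hπ.mem i v)
    obtain ⟨β, z2, hz2, rfl⟩ := Submodule.mem_span_insert.1 hz1
    obtain ⟨α', β', rfl⟩ := Submodule.mem_span_pair.1 hz2
    have pa : polar ⇑Q v (a i) = β := by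
      rw [hpi v i _ (hma i), e1]
      simp [polar_comm (⇑Q) (b i) (a i), polar_comm (⇑Q) (a' i) (a i), polar_comm (⇑Q) (b' i) (a i), hab, h1, h2,
        Forms.polar_self_char_two, two]
    have pb : polar ⇑Q v (b i) = α := by
      rw [hpi v i _ (hmb i), e1]
      simp [polar_comm (⇑Q) (a' i) (b i), polar_comm (⇑Q) (b' i) (b i), hab, h3, h4,
        Forms.polar_self_char_two, two]
    have pa' : polar ⇑Q v (a' i) = β' := by
      rw [hpi v i _ (hma' i), e1]
      simp [h1, h3, hab', polar_comm (⇑Q) (b' i) (a' i), Forms.polar_self_char_two, two]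
    have pb' : polar ⇑Q v (b' i) = α' := by
      rw [hpi v i _ (hmb' i), e1]
      simp [h2, h4, hab', Forms.polar_self_char_two, two]
    have hQv : Q (π i v) = α * α + β * β + α * β + (α' * α' + β' * β' + α' * β') := by
      rw [e1]
      simp [QuadraticMap.map_add (⇑Q), QuadraticMap.map_smul, hQa, hQb, hQa', hQb', hab, hab', h1, h2, h3, h4]
      ring
    have hzero : π i v = 0 ↔ (β = 0 ∧ α = 0) ∧ (β' = 0 ∧ α' = 0) := by
      constructor
      · intro h
        rw [← pa, ← pb, ← pa', ← pb', hpi v i _ (hma i), hpi v i _ (hmb i), hpi v i _ (hma' i),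
          hpi v i _ (hmb' i), h]
        simp
      · rintro ⟨⟨rfl, rfl⟩, rfl, rfl⟩
        rw [e1]; simp
    simp only [N, φ, pa, pb, pa', pb', hzero, hQv]
    have h11 : (1 : F) + 1 = 0 := by rw [one_add_one_eq_two, two]
    rcases hF2 α with rfl | rfl <;> rcases hF2 β with rfl | rfl <;> rcases hF2 α' with rfl | rfl <;>
      rcases hF2 β' with rfl | rfl <;> simp [h11]
  let W : (ι → F) → ℕ := fun v => ∑ i, N v i
  have hiso : ∀ g ∈ Cfsg.Geo.omegaGL ⇑Q, ∀ y, Q ((g : Matrix ι ι F) *ᵥ y) = Q y := by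
    rintro _ ⟨g, -, rfl⟩ y
    exact Orth.mem_isometryGroup_iff.1 g.2 y
  have hHK : Cfsg.Geo.decompositionStabilizer D ⊓ Cfsg.Geo.omegaGL ⇑Q ≤
      fnStab W ⊓ Cfsg.Geo.omegaGL ⇑Q := by
    refine fun g hg => ⟨fun v => ?_, hg.2⟩
    obtain ⟨σ, hσ⟩ := hg.1
    show ∑ i, _ = ∑ i, _
    rw [← Equiv.sum_comp σ]
    refine Finset.sum_congr rfl fun i _ => ?_
    rw [hN, hN, hπ.comp_perm hσ]
    simp only [φ, hiso g hg.2]
    refine if_congr ⟨fun h => ?_, fun h => by rw [h, mulVec_zero]⟩ rfl rfl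
    exact NonMax.mulVec_left_inj (g := g) (by rw [h, mulVec_zero])
  set i₀ : Fin t := ⟨0, by omega⟩
  set i₁ : Fin t := ⟨1, by omega⟩
  have h01 : i₀ ≠ i₁ := by simp [i₀, i₁]
  set u := a i₀ + a i₁ with hu
  set w := b i₀ + b i₁ with hw
  have huQ : Q u = 0 := by
    rw [hu, QuadraticMap.map_add (⇑Q), hQa, hQa, horth _ _ h01 _ (hma _) _ (hma _), add_zero,
      one_add_one_eq_two, two]
  have huw : polar ⇑Q u w = 0 := by
    rw [hu, hw, polar_add_left, polar_add_right, polar_add_right, hab, hab, horth _ _ h01 _ (hma _) _ (hmb _),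
      horth _ _ h01.symm _ (hma _) _ (hmb _), add_zero, zero_add, one_add_one_eq_two, two]
  have hwQ : Q w = 0 := by
    rw [hw, QuadraticMap.map_add (⇑Q), hQb, hQb, horth _ _ h01 _ (hmb _) _ (hmb _), add_zero,
      one_add_one_eq_two, two]
  set g := eichlerGL Q u w huQ huw with hg
  have hgv : ∀ v, (g : Matrix ι ι F) *ᵥ v = v + polar ⇑Q u v • w - polar ⇑Q w v • u := fun v => by
    rw [hg, eichlerGL_mulVec, hwQ, zero_mul, add_zero]
  -- the two planes are exchanged
  have hgA : ∀ v i, polar ⇑Q ((g : Matrix ι ι F) *ᵥ v) (a i) = polar ⇑Q v (a (Equiv.swap i₀ i₁ i)) ∧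
      polar ⇑Q ((g : Matrix ι ι F) *ᵥ v) (b i) = polar ⇑Q v (b (Equiv.swap i₀ i₁ i)) ∧
      polar ⇑Q ((g : Matrix ι ι F) *ᵥ v) (a' i) = polar ⇑Q v (a' i) ∧
      polar ⇑Q ((g : Matrix ι ι F) *ᵥ v) (b' i) = polar ⇑Q v (b' i) := by
    intro v i
    have sub_eq : ∀ x y : F, x - y = x + y := fun x y => CharTwo.sub_eq_add x y
    have key : ∀ (c : Fin t → ι → F), (∀ j, c j ∈ D j) →
        polar ⇑Q ((g : Matrix ι ι F) *ᵥ v) (c i) = polar ⇑Q v (c i) +
          polar ⇑Q u v * ((if i₀ = i then polar ⇑Q (b i) (c i) else 0) +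
            (if i₁ = i then polar ⇑Q (b i) (c i) else 0)) +
          polar ⇑Q w v * ((if i₀ = i then polar ⇑Q (a i) (c i) else 0) +
            (if i₁ = i then polar ⇑Q (a i) (c i) else 0)) := by
      intro c hc
      have one : ∀ (d : Fin t → ι → F), (∀ j, d j ∈ D j) → ∀ j,
          polar ⇑Q (d j) (c i) = if j = i then polar ⇑Q (d i) (c i) else 0 := by
        intro d hd j
        split
        · next h => rw [h]
        · next h => exact horth j i h _ (hd j) _ (hc i)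
      rw [hgv, polar_sub_left, sub_eq, polar_add_left, polar_smul_left, polar_smul_left, hu, hw]
      simp only [polar_add_left, smul_eq_mul]
      rw [one b hmb i₀, one b hmb i₁, one a hma i₀, one a hma i₁]
    have hba : polar ⇑Q (b i) (a i) = 1 := by rw [polar_comm, hab]
    have key2 : polar ⇑Q u v = polar ⇑Q v (a i₀) + polar ⇑Q v (a i₁) ∧
        polar ⇑Q w v = polar ⇑Q v (b i₀) + polar ⇑Q v (b i₁) := by
      constructor <;> rw [polar_comm _ _ v] <;> simp [hu, hw]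
    obtain ⟨ku, kw⟩ := key2
    refine ⟨?_, ?_, ?_, ?_⟩
    · rw [key a hma, hba, Forms.polar_self_char_two, ku]
      by_cases h0 : i₀ = i
      · subst h0
        rw [Equiv.swap_apply_left, if_pos rfl, if_neg h01.symm]
        simp only [ite_self, add_zero, mul_zero, mul_one]
        linear_combination (polar ⇑Q v (a i₀)) * two
      by_cases hi1 : i₁ = i
      · subst hi1
        rw [Equiv.swap_apply_right, if_pos rfl, if_neg h01]
        simp only [ite_self, zero_add, add_zero, mul_zero, mul_one]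
        linear_combination (polar ⇑Q v (a i₁)) * two
      rw [Equiv.swap_apply_of_ne_of_ne (Ne.symm h0) (Ne.symm hi1), if_neg h0, if_neg hi1]
      simp
    · rw [key b hmb, hab, Forms.polar_self_char_two, kw]
      simp only [ite_self, add_zero, mul_zero]
      by_cases h0 : i₀ = i
      · subst h0
        rw [Equiv.swap_apply_left, if_pos rfl, if_neg h01.symm]
        simp only [ite_self, add_zero, mul_zero, mul_one]
        linear_combination (polar ⇑Q v (b i₀)) * two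
      by_cases hi1 : i₁ = i
      · subst hi1
        rw [Equiv.swap_apply_right, if_pos rfl, if_neg h01]
        simp only [ite_self, zero_add, add_zero, mul_zero, mul_one]
        linear_combination (polar ⇑Q v (b i₁)) * two
      rw [Equiv.swap_apply_of_ne_of_ne (Ne.symm h0) (Ne.symm hi1), if_neg h0, if_neg hi1]
      simp
    · rw [key a' hma', h1, h3]; simp
    · rw [key b' hmb', h2, h4]; simp
  have hgK : g ∈ fnStab W ⊓ Cfsg.Geo.omegaGL ⇑Q := by
    refine ⟨fun v => ?_, E_mem_omega hQ hn huQ huw⟩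
    show ∑ i, N ((g : Matrix ι ι F) *ᵥ v) i = ∑ i, N v i
    simp only [N, (hgA v _).1, (hgA v _).2.1, (hgA v _).2.2.1, (hgA v _).2.2.2, Finset.sum_add_distrib]
    rw [Equiv.sum_comp (Equiv.swap i₀ i₁)
      (fun i => if polar ⇑Q v (a i) = 0 ∧ polar ⇑Q v (b i) = 0 then 0 else 1)]
  obtain ⟨x, hx, hxa⟩ := exists_omega_move hQ hn (x := a i₀) (y := a i₀ + (a i₁ + a' i₁))
    (by rw [hQa]; exact one_ne_zero)
    (by rw [QuadraticMap.map_add (⇑Q), QuadraticMap.map_add (⇑Q), hQa, hQa, hQa', h1, polar_add_right,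
      horth _ _ h01 _ (hma _) _ (hma _), horth _ _ h01 _ (hma _) _ (hma' _)]
        linear_combination two)
  refine exists_between hHK inf_le_right hgK (fun h => ?_) hx (fun h => ?_)
  · obtain ⟨σ, hσ⟩ := h.1
    have hm : ∀ z ∈ D i₀, (g : Matrix ι ι F) *ᵥ z ∈ D (σ i₀) := fun z hz =>
      hσ i₀ ▸ ⟨z, hz, Matrix.toLin'_apply _ _⟩
    have e1 : σ i₀ = i₀ := by
      by_contra hne
      have := horth _ _ hne _ (hm _ (hma' i₀)) _ (hmb' i₀)
      rw [(hgA _ i₀).2.2.2, hab'] at this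
      exact one_ne_zero this
    have e2 : σ i₀ = i₁ := by
      by_contra hne
      have := horth _ _ hne _ (hm _ (hma i₀)) _ (hmb i₁)
      rw [(hgA _ i₁).2.1, Equiv.swap_apply_right, hab] at this
      exact one_ne_zero this
    exact h01 (e1.symm.trans e2)
  · have hW := h.1 (a i₀)
    rw [hxa] at hW
    have h21 : (1 : F) ≠ 0 := one_ne_zero
    have nba : ∀ i, polar ⇑Q (a i) (b i) ≠ 0 := fun i => by rw [hab]; exact h21
    have nba' : ∀ i, polar ⇑Q (a' i) (b' i) ≠ 0 := fun i => by rw [hab']; exact h21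
    have haa : ∀ j i, j ≠ i → ∀ c ∈ D i, polar ⇑Q (a j) c = 0 := fun j i hji c hc =>
      horth j i hji _ (hma j) _ hc
    have ha'a : ∀ j i, j ≠ i → ∀ c ∈ D i, polar ⇑Q (a' j) c = 0 := fun j i hji c hc =>
      horth j i hji _ (hma' j) _ hc
    have w0 : W (a i₀) = 1 := by
      show ∑ i, N (a i₀) i = 1
      rw [Finset.sum_eq_single i₀]
      · simp [N, hab, h1, h2]
      · intro i _ hi
        simp [N, haa i₀ i (Ne.symm hi) _ (hma i), haa i₀ i (Ne.symm hi) _ (hmb i),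
          haa i₀ i (Ne.symm hi) _ (hma' i), haa i₀ i (Ne.symm hi) _ (hmb' i)]
      · simp
    have w1 : W (a i₀ + (a i₁ + a' i₁)) = 3 := by
      show ∑ i, N (a i₀ + (a i₁ + a' i₁)) i = 3
      rw [Finset.sum_eq_add i₀ i₁ h01]
      · simp [N, hab, hab', h1, h2, h3, polar_comm (⇑Q) (a' i₁) (a i₁), polar_comm (⇑Q) (a' i₁) (b i₁),
          haa i₀ i₁ h01 _ (hma i₁), haa i₀ i₁ h01 _ (hmb i₁), haa i₀ i₁ h01 _ (hma' i₁),
          haa i₀ i₁ h01 _ (hmb' i₁), haa i₁ i₀ h01.symm _ (hma i₀), haa i₁ i₀ h01.symm _ (hmb i₀),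
          haa i₁ i₀ h01.symm _ (hma' i₀), haa i₁ i₀ h01.symm _ (hmb' i₀), ha'a i₁ i₀ h01.symm _ (hma i₀),
          ha'a i₁ i₀ h01.symm _ (hmb i₀), ha'a i₁ i₀ h01.symm _ (hma' i₀), ha'a i₁ i₀ h01.symm _ (hmb' i₀),
          Forms.polar_self_char_two]
      · intro i _ hi
        simp [N, haa i₀ i (Ne.symm hi.1) _ (hma i), haa i₀ i (Ne.symm hi.1) _ (hmb i),
          haa i₀ i (Ne.symm hi.1) _ (hma' i), haa i₀ i (Ne.symm hi.1) _ (hmb' i),
          haa i₁ i (Ne.symm hi.2) _ (hma i), haa i₁ i (Ne.symm hi.2) _ (hmb i),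
          haa i₁ i (Ne.symm hi.2) _ (hma' i), haa i₁ i (Ne.symm hi.2) _ (hmb' i),
          ha'a i₁ i (Ne.symm hi.2) _ (hma i), ha'a i₁ i (Ne.symm hi.2) _ (hmb i),
          ha'a i₁ i (Ne.symm hi.2) _ (hma' i), ha'a i₁ i (Ne.symm hi.2) _ (hmb' i)]
      · simp
      · simp
    omega

end Cfsg.Agent.Lib.SingMax
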