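import Cfsg.Agent.Lib.SingMax.NonDegMain

/-!
The stabiliser of a non-degenerate subspace is maximal in odd characteristic: the larger part may have
dimension four and the smaller at most three.
-/

set_option autoImplicit false
set_option linter.unusedSectionVars false

namespace Cfsg.Agent.Lib.SingMax

open Matrix QuadraticMap
open Cfsg.Agent.Lib.FormMax.OrthSL (eichlerGL eichlerGL_mulVec Q_eichlerGL)
open Cfsg.Agent.Lib.MaxClass
open Cfsg.Geo (IsNondegenerateOn)

namespace Four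

variable {ι : Type} [Fintype ι] [DecidableEq ι] {F : Type*} [Field F]
  {Q : QuadraticForm F (ι → F)} {M : Subgroup (GL ι F)}

variable [Finite F] (hQ : (QuadraticMap.polarBilin Q).Nondegenerate) (hn : 7 ≤ Fintype.card ι)
  {W : Submodule F (ι → F)} (hW : IsNondegenerateOn (polar ⇑Q) W) (hk : 4 ≤ Module.finrank F W)
include hQ hn hW hk

theorem mem_stab_of {g : GL ι F} (hg : g ∈ Cfsg.Geo.omegaGL ⇑Q)
    (h : ∀ w ∈ W, (g : Matrix ι ι F) *ᵥ w ∈ W) : g ∈ (Cfsg.Geo.subspaceStabilizer W ⊓ Cfsg.Geo.omegaGL ⇑Q) :=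
  ⟨Forms.mem_stabilizing_of_mapsTo (toMat := Cfsg.glToMat ι F) W fun w hw => by simpa using h w hw, hg⟩

theorem rootIn_stab {e a : ι → F} (he : e ∈ W) (ha : a ∈ W) (heQ : Q e = 0) (hea : polar ⇑Q e a = 0) :
    RootIn Q (Cfsg.Geo.subspaceStabilizer W ⊓ Cfsg.Geo.omegaGL ⇑Q) e a := by
  refine ⟨heQ, hea, mem_stab_of hQ hn hW hk (E_mem_omega hQ hn heQ hea) fun w hw => ?_⟩
  rw [eichlerGL_mulVec]
  exact W.sub_mem (W.add_mem hw (W.smul_mem _ ha)) (W.smul_mem _ he)

variable {U₀ : Submodule F (ι → F)}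

theorem fix_perp {e a u : ι → F} (he : e ∈ W) (ha : a ∈ W) (heQ : Q e = 0) (hea : polar ⇑Q e a = 0)
    (hu : u ∈ polarPerp Q W) : (eichlerGL Q e a heQ hea : Matrix ι ι F) *ᵥ u = u := by
  rw [eichlerGL_mulVec, mem_polarPerp.1 hu e he, mem_polarPerp.1 hu a ha]
  simp

/-- One step: two singular vectors with a common singular partner link to the same vectors. -/
theorem rootIn_partner (hPM : (Cfsg.Geo.subspaceStabilizer W ⊓ Cfsg.Geo.omegaGL ⇑Q) ≤ M) {z z' v u : ι → F} (hz : z ∈ W) (hz' : z' ∈ W) (hzQ : Q z = 0)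
    (hz'Q : Q z' = 0) (hvW : v ∈ W) (hvQ : Q v = 0) (hvz : polar ⇑Q v z = 1) (hvz' : polar ⇑Q v z' = 1)
    (hu : u ∈ polarPerp Q W) (h : RootIn Q M z u) : RootIn Q M z' u := by
  obtain ⟨b, hb, hbz⟩ := exists_moveE (x := z) (x' := z') hvQ (hz'Q.trans hzQ.symm) one_ne_zero hvz hvz'
  have hbW : b ∈ W → RootIn Q M z' u := fun hbW => by
    obtain ⟨hh1, hh2, hm⟩ := rootIn_stab hQ hn hW hk hvW hbW hvQ hb
    have := h.map (hPM hm) (Q_eichlerGL hh1 hh2)
    rwa [hbz, fix_perp hQ hn hW hk hvW hbW hvQ hb hu] at this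
  -- replace `b` by its part in `W`
  obtain ⟨w, hw, r, hr, hbr⟩ := exists_split hQ hW b
  have hvw : polar ⇑Q v w = 0 := by
    rw [hbr, polar_add_right, mem_polarPerp.1 hr v hvW, add_zero] at hb; exact hb
  have heq : (eichlerGL Q v w hvQ hvw : Matrix ι ι F) *ᵥ z = z' := by
    have hsplit := hbz
    rw [eichlerGL_mulVec, hvz, hbr, QuadraticMap.map_add (⇑Q), mem_polarPerp.1 hr w hw,
      polar_add_left, polar_comm _ r z, mem_polarPerp.1 hr z hz, one_smul] at hsplit
    have hr0 : r = 0 := by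
      have hmem : r ∈ W := by
        have e : r = z' - z - w + (polar ⇑Q w z + 0 + (Q w + Q r + 0) * 1) • v := by rw [← hsplit]; abel
        rw [e]
        exact W.add_mem (W.sub_mem (W.sub_mem hz' hz) hw) (W.smul_mem _ hvW)
      exact Submodule.disjoint_def.1 (isCompl_polarPerp hQ hW).disjoint r hmem hr
    rw [hr0] at hsplit
    rw [eichlerGL_mulVec, hvz, one_smul, ← hsplit]
    simp
  obtain ⟨hh1, hh2, hm⟩ := rootIn_stab hQ hn hW hk hvW hw hvQ hvw
  have := h.map (hPM hm) (Q_eichlerGL hh1 hh2)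
  rwa [heq, fix_perp hQ hn hW hk hvW hw hvQ hvw hu] at this


/-- One step: two independent orthogonal centres in `W` link to the same part of the complement. -/
theorem rootIn_step (hPM : (Cfsg.Geo.subspaceStabilizer W ⊓ Cfsg.Geo.omegaGL ⇑Q) ≤ M) {z z' u : ι → F} (hz : z ∈ W) (hz' : z' ∈ W) (hzQ : Q z = 0)
    (hz'Q : Q z' = 0) (hzz : polar ⇑Q z z' = 0) (hli : LinearIndependent F ![z, z'])
    (hu : u ∈ polarPerp Q W) (h : RootIn Q M z u) : RootIn Q M z' u := by
  obtain ⟨a, ha, hai⟩ := exists_polar_in hQ hW hli (fun i => by fin_cases i <;> simp [hz, hz']) ![1, 1]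
  have h1 : polar ⇑Q z a = 1 := hai 0
  have h2 : polar ⇑Q z' a = 1 := hai 1
  set v := a - Q a • z with hv
  have hvW : v ∈ W := W.sub_mem ha (W.smul_mem _ hz)
  have hvQ : Q v = 0 := by
    rw [hv, sub_eq_add_neg, QuadraticMap.map_add (⇑Q), QuadraticMap.map_neg, QuadraticMap.map_smul,
      polar_neg_right, polar_smul_right, polar_comm _ a z, h1, hzQ]
    simp
  have hvz : polar ⇑Q v z = 1 := by
    rw [hv, polar_sub_left, polar_smul_left, Orth.polar_self_zero hzQ, smul_zero, sub_zero,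
      polar_comm, h1]
  have hvz' : polar ⇑Q v z' = 1 := by
    rw [hv, polar_sub_left, polar_smul_left, hzz, smul_zero, sub_zero, polar_comm, h2]
  exact rootIn_partner hQ hn hW hk hPM hz hz' hzQ hz'Q hvW hvQ hvz hvz' hu h

theorem rootIn_nonorth (hPM : (Cfsg.Geo.subspaceStabilizer W ⊓ Cfsg.Geo.omegaGL ⇑Q) ≤ M) {z z' u : ι → F}
    (hz : z ∈ W) (hz' : z' ∈ W) (hzQ : Q z = 0) (hz'Q : Q z' = 0) (hzz : polar ⇑Q z z' ≠ 0)
    (hu : u ∈ polarPerp Q W) (h : RootIn Q M z u) : RootIn Q M z' u := by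
  obtain ⟨y, hy, hy0, hyQ, hc⟩ := exists_singular_in (Q := Q) (W := W) ![z - z'] (by omega)
  have hy1 : polar ⇑Q z y - polar ⇑Q z' y = 0 := by
    rw [← polar_sub_left]; exact hc 0
  by_cases hzy : polar ⇑Q z y = 0
  · have hz'y : polar ⇑Q z' y = 0 := by linear_combination hzy - hy1
    refine rootIn_step hQ hn hW hk hPM hy hz' hyQ hz'Q (by rw [polar_comm, hz'y]) ?_ hu
      (rootIn_step hQ hn hW hk hPM hz hy hzQ hyQ hzy ?_ hu h)
    · refine (LinearIndependent.pair_iff' hy0).mpr fun c e => hzz ?_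
      rw [← e, polar_smul_right, hzy, smul_zero]
    · refine (LinearIndependent.pair_iff' (fun h0 => hzz (by rw [h0, polar_zero_left]))).mpr fun c e => hy0 ?_
      rw [← e, polar_smul_right, polar_comm _ z' z, smul_eq_mul] at hz'y
      rw [← e, (mul_eq_zero.1 hz'y).resolve_right hzz, zero_smul]
  · refine rootIn_partner hQ hn hW hk hPM hz hz' hzQ hz'Q (W.smul_mem (polar ⇑Q z y)⁻¹ hy)
      (by rw [QuadraticMap.map_smul, hyQ, smul_zero]) ?_ ?_ hu h
    · rw [polar_smul_left, polar_comm _ y z, smul_eq_mul, inv_mul_cancel₀ hzy]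
    · rw [polar_smul_left, polar_comm _ y z', show polar ⇑Q z' y = polar ⇑Q z y by linear_combination -hy1,
        smul_eq_mul, inv_mul_cancel₀ hzy]

theorem rootIn_move (hPM : (Cfsg.Geo.subspaceStabilizer W ⊓ Cfsg.Geo.omegaGL ⇑Q) ≤ M) {z z' u : ι → F} (hz : z ∈ W) (hz' : z' ∈ W) (hz0 : z ≠ 0)
    (hz'0 : z' ≠ 0) (hzQ : Q z = 0) (hz'Q : Q z' = 0) (hu : u ∈ polarPerp Q W) (h : RootIn Q M z u) :
    RootIn Q M z' u := by
  by_cases hzz : polar ⇑Q z z' = 0
  swap
  · exact rootIn_nonorth hQ hn hW hk hPM hz hz' hzQ hz'Q hzz hu h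
  by_cases hdep : ∃ c : F, c • z = z'
  · obtain ⟨c, hc⟩ := hdep
    obtain ⟨f, hf, hfQ, hzf⟩ := exists_partner_in hQ hW hz hz0 hzQ
    refine rootIn_nonorth hQ hn hW hk hPM hf hz' hfQ hz'Q ?_ hu
      (rootIn_nonorth hQ hn hW hk hPM hz hf hzQ hfQ (by rw [hzf]; exact one_ne_zero) hu h)
    rw [← hc, polar_smul_right, polar_comm, hzf, smul_eq_mul, mul_one]
    exact fun h0 => hz'0 (by rw [← hc, h0, zero_smul])
  push Not at hdep
  exact rootIn_step hQ hn hW hk hPM hz hz' hzQ hz'Q hzz ((LinearIndependent.pair_iff' hz0).mpr hdep) hu h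

/-- The stabiliser induces every isometry of the complement. -/
theorem exists_stab_like (h : ↥(Cfsg.isometryGroup F ⇑Q))
    (hhW : ∀ w ∈ W, ((h : GL ι F) : Matrix ι ι F) *ᵥ w ∈ W)
    (hhU : ∀ u ∈ polarPerp Q W, ((h : GL ι F) : Matrix ι ι F) *ᵥ u ∈ polarPerp Q W) :
    ∃ g ∈ (Cfsg.Geo.subspaceStabilizer W ⊓ Cfsg.Geo.omegaGL ⇑Q), ∀ u ∈ polarPerp Q W, (g : Matrix ι ι F) *ᵥ u = ((h : GL ι F) : Matrix ι ι F) *ᵥ u := by
  obtain ⟨e, heW, he0, heQ, -⟩ := exists_singular_in (Q := Q) (W := W) (![] : Fin 0 → ι → F) (by omega)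
  obtain ⟨f, hfW, hfQ, hef⟩ := exists_partner_in hQ hW heW he0 heQ
  have hcov : ∀ x : ↥(Cfsg.isometryGroup F ⇑Q), ∃ s : ↥(Cfsg.isometryGroup F ⇑Q),
      Abelianization.of s = Abelianization.of x ∧
      (∀ w ∈ W, ((s : GL ι F) : Matrix ι ι F) *ᵥ w ∈ W) ∧
      (∀ u ∈ polarPerp Q W, ((s : GL ι F) : Matrix ι ι F) *ᵥ u = u) := by
    intro x
    induction x using Forms.isometry_induction hQ (Or.inr (by omega)) with
    | h1 => exact ⟨1, rfl, fun w hw => by simpa using hw, fun u _ => by simp⟩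
    | hr v hv g hg =>
      obtain ⟨s, hs, hsW, hsU⟩ := hg
      set w := e + Q v • f with hw
      have hwQ : Q w = Q v := by
        rw [hw, QuadraticMap.map_add (⇑Q), QuadraticMap.map_smul, heQ, hfQ, polar_smul_right, hef]
        simp
      have hwW : w ∈ W := W.add_mem heW (W.smul_mem _ hfW)
      have hw0 : Q w ≠ 0 := hwQ ▸ hv
      obtain ⟨c, hc⟩ := Forms.exists_conj_reflElem hQ hw0 hv hwQ
      refine ⟨Forms.reflElem hw0 * s, ?_, fun y hy => ?_, fun u hu => ?_⟩
      · rw [map_mul, map_mul, hs, ← hc, map_mul, map_mul, map_inv, mul_comm (Abelianization.of c),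
          mul_inv_cancel_right]
      · rw [Subgroup.coe_mul, Units.val_mul, ← mulVec_mulVec, Forms.reflElem_mulVec]
        exact W.sub_mem (hsW y hy) (W.smul_mem _ hwW)
      · rw [Subgroup.coe_mul, Units.val_mul, ← mulVec_mulVec, hsU u hu, Forms.reflElem_mulVec,
          mem_polarPerp.1 hu w hwW]
        simp
  obtain ⟨s, hs, hsW, hsU⟩ := hcov h⁻¹
  have hmem : s * h ∈ Cfsg.Omega F ⇑Q := by
    refine (QuotientGroup.eq_one_iff _).1 ?_
    show Abelianization.of (s * h) = 1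
    rw [map_mul, hs, ← map_mul, inv_mul_cancel, map_one]
  refine ⟨_, mem_stab_of hQ hn hW hk (Subgroup.mem_map_of_mem _ hmem) fun w hw => ?_, fun u hu => ?_⟩
  · rw [Subgroup.coe_subtype, Subgroup.coe_mul, Units.val_mul, ← mulVec_mulVec]
    exact hsW _ (hhW w hw)
  · rw [Subgroup.coe_subtype, Subgroup.coe_mul, Units.val_mul, ← mulVec_mulVec]
    exact hsU _ (hhU u hu)

/-- One link from `W` into the complement gives every Eichler element. -/
theorem full_of_link [Fintype F]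
    (hex : ¬ (Fintype.card F ≤ 3 ∧ Module.finrank F (polarPerp Q W) = 2 ∧
      Cfsg.Geo.IsPlusTypeOn (⇑Q) (polarPerp Q W)))
    (hPM : (Cfsg.Geo.subspaceStabilizer W ⊓ Cfsg.Geo.omegaGL ⇑Q) ≤ M) {e u₀ : ι → F} (he : e ∈ W) (he0 : e ≠ 0) (heQ : Q e = 0)
    (hu : u₀ ∈ polarPerp Q W) (hu0 : u₀ ≠ 0) (h : RootIn Q M e u₀) :
    Cfsg.Geo.omegaGL ⇑Q ≤ M := by
  have hU := nondegenerateOn_polarPerp hQ hW
  have hc := isCompl_polarPerp hQ hW
  let L : Submodule F (ι → F) :=
    { carrier := {u | u ∈ polarPerp Q W ∧ RootIn Q M e u}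
      zero_mem' := ⟨Submodule.zero_mem _, rootIn_zero heQ⟩
      add_mem' := fun {x y} hx hy => ⟨Submodule.add_mem _ hx.1 hy.1, hx.2.add hy.2⟩
      smul_mem' := fun c x hx => by
        refine ⟨Submodule.smul_mem _ c hx.1, ?_⟩
        by_cases hc0 : c = 0
        · rw [hc0, zero_smul]; exact rootIn_zero heQ
        · exact (rootIn_smul_iff hc0).1 (rootIn_move hQ hn hW hk hPM he (W.smul_mem c he) he0
            (smul_ne_zero hc0 he0) heQ (by rw [QuadraticMap.map_smul, heQ, smul_zero]) hx.1 hx.2) }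
  have hUL : polarPerp Q W ≤ L := by
    refine eq_of_value_closed hQ hU hex L (fun x hx => hx.1) ⟨hu, h⟩ hu0 ?_
    intro x hx y hy hx0 hy0 hxy
    refine ⟨hy, ?_⟩
    let Q' : QuadraticForm F ↥(polarPerp Q W) := Q.comp (polarPerp Q W).subtype
    have hQ'p : ∀ a b : ↥(polarPerp Q W), polar ⇑Q' a b = polar ⇑Q (a : ι → F) b := fun a b => rfl
    have hQ' : (QuadraticMap.polarBilin Q').Nondegenerate := by
      constructor
      · intro a ha
        by_contra ha0
        obtain ⟨-, b, hb, hab⟩ := hU (a : ι → F) a.2 (fun h => ha0 (Subtype.ext h))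
        exact hab (ha ⟨b, hb⟩)
      · intro a ha
        by_contra ha0
        obtain ⟨⟨b, hb, hab⟩, -⟩ := hU (a : ι → F) a.2 (fun h => ha0 (Subtype.ext h))
        exact hab (ha ⟨b, hb⟩)
    obtain ⟨T, hT, hTx⟩ := Forms.witt_family_quad hQ' ![(⟨x, hx.1⟩ : ↥(polarPerp Q W))] ![⟨y, hy⟩]
      (linearIndependent_unique_iff.mpr (fun h => hx0 (congrArg Subtype.val h)))
      (linearIndependent_unique_iff.mpr (fun h => hy0 (congrArg Subtype.val h)))
      (fun i => by fin_cases i; exact hxy.symm)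
      (fun i j => by
        fin_cases i; fin_cases j
        show polar ⇑Q' (⟨x, hx.1⟩ : ↥(polarPerp Q W)) ⟨x, hx.1⟩ = polar ⇑Q' ⟨y, hy⟩ ⟨y, hy⟩
        rw [hQ'p, hQ'p, polar_self, polar_self]
        show _ • Q x = _ • Q y
        rw [hxy])
    let P' := Submodule.prodEquivOfIsCompl W (polarPerp Q W) hc
    let h' := P'.symm ≪≫ₗ ((LinearEquiv.refl F W).prodCongr T) ≪≫ₗ P'
    have happ : ∀ (a : W) (b : ↥(polarPerp Q W)), h' ((a : ι → F) + b) = (a : ι → F) + (T b : ι → F) := by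
      intro a b
      have hs : P'.symm ((a : ι → F) + b) = (a, b) := by
        rw [LinearEquiv.symm_apply_eq]
        simp [P']
      simp only [h', LinearEquiv.trans_apply, hs]
      simp [P']
    have hh' : ∀ v, Q (h' v) = Q v := by
      intro v
      obtain ⟨a, ha, b, hb, rfl⟩ := exists_split hQ hW v
      rw [happ ⟨a, ha⟩ ⟨b, hb⟩, QuadraticMap.map_add (⇑Q), QuadraticMap.map_add (⇑Q),
        mem_polarPerp.1 (T ⟨b, hb⟩).2 a ha, mem_polarPerp.1 hb a ha]
      congr 2
      exact hT ⟨b, hb⟩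
    have hapW : ∀ w ∈ W, h' w = w := fun w hw => by
      have := happ ⟨w, hw⟩ 0
      simpa using this
    have hapU : ∀ b (hb : b ∈ polarPerp Q W), h' b = (T ⟨b, hb⟩ : ι → F) := fun b hb => by
      have := happ 0 ⟨b, hb⟩
      simpa using this
    obtain ⟨g, hg, hgU⟩ := exists_stab_like hQ hn hW hk (Forms.isoMk h' hh')
      (fun w hw => by rw [Forms.isoMk_mulVec, hapW w hw]; exact hw)
      (fun b hb => by rw [Forms.isoMk_mulVec, hapU b hb]; exact (T ⟨b, hb⟩).2)
    have hgiso : ∀ z, Q ((g : Matrix ι ι F) *ᵥ z) = Q z := by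
      obtain ⟨g', -, rfl⟩ := hg.2
      exact Orth.mem_isometryGroup_iff.1 g'.2
    have hgx : (g : Matrix ι ι F) *ᵥ x = y := by
      rw [hgU x hx.1, Forms.isoMk_mulVec, hapU x hx.1]
      exact congrArg Subtype.val (hTx 0)
    have hge : (g : Matrix ι ι F) *ᵥ e ∈ W := by
      have := (Forms.mem_stabilizing_submodule_iff (toMat := Cfsg.glToMat ι F) W).1 hg.1 e he
      simpa using this
    have hm := hx.2.map (hPM hg) hgiso
    rw [hgx] at hm
    refine rootIn_move hQ hn hW hk hPM hge he (fun h0 => he0 ?_) he0 (by rw [hgiso, heQ]) heQ hy hm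
    have := congrArg (fun z => ((g⁻¹ : GL ι F) : Matrix ι ι F) *ᵥ z) h0
    simpa using this
  have hfull : ∀ z ∈ W, z ≠ 0 → Q z = 0 → Full Q M z := by
    intro z hz hz0 hzQ a hzQ' hza
    obtain ⟨a₁, ha₁, a₂, ha₂, rfl⟩ := exists_split hQ hW a
    have h2 := rootIn_move hQ hn hW hk hPM he hz he0 hz0 heQ hzQ ha₂ (hUL ha₂).2
    have h1 : RootIn Q M z a₁ := by
      have hz1 : polar ⇑Q z a₁ = 0 := by
        rwa [polar_add_right, mem_polarPerp.1 ha₂ z hz, add_zero] at hza
      obtain ⟨p, q, hm⟩ := rootIn_stab hQ hn hW hk hz ha₁ hzQ hz1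
      exact ⟨p, q, hPM hm⟩
    obtain ⟨_, _, hm⟩ := h1.add h2
    exact hm
  obtain ⟨f, hf, hfQ, hef⟩ := exists_partner_in hQ hW he he0 heQ
  have hf0 : f ≠ 0 := fun h => by rw [h, polar_zero_right] at hef; exact zero_ne_one hef
  refine omega_le_of_eichler hQ hn fun x a hx ha => ?_
  by_cases hx0 : x = 0
  · subst hx0
    convert M.one_mem
    refine gl_ext' fun y => ?_
    rw [eichlerGL_mulVec]; simp
  exact full_all hQ (hfull e he he0 heQ) (hfull f hf hf0 hfQ) heQ hfQ
    (by rw [hef]; exact one_ne_zero) hx hx0 a hx ha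

section Odd

variable (h2 : (2 : F) ≠ 0)
include h2

/-- A root element with a skew centre of non-singular components gives a link. -/
theorem exists_link (hPM : (Cfsg.Geo.subspaceStabilizer W ⊓ Cfsg.Geo.omegaGL ⇑Q) ≤ M) {x₁ x₂ : ι → F} (hx₁ : x₁ ∈ W) (hx₂ : x₂ ∈ polarPerp Q W)
    (hx₁Q : Q x₁ ≠ 0) {g : GL ι F} (hgM : g ∈ M)
    (hg : ∀ y, Q ((g : Matrix ι ι F) *ᵥ y) = Q y) {e : ι → F} (he : e ∈ W) (heQ : Q e = 0)
    (hge : (g : Matrix ι ι F) *ᵥ e = x₁ + x₂) :
    ∃ e' u, e' ∈ W ∧ e' ≠ 0 ∧ Q e' = 0 ∧ u ∈ polarPerp Q W ∧ u ≠ 0 ∧ RootIn Q M e' u := by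
  have hinv : ∀ y, (g : Matrix ι ι F) *ᵥ (((g⁻¹ : GL ι F) : Matrix ι ι F) *ᵥ y) = y := fun y => by
    rw [mulVec_mulVec, Units.mul_inv, one_mulVec]
  have hinv' : ∀ y, ((g⁻¹ : GL ι F) : Matrix ι ι F) *ᵥ ((g : Matrix ι ι F) *ᵥ y) = y := fun y => by
    rw [mulVec_mulVec, Units.inv_mul, one_mulVec]
  have hx₁0 : x₁ ≠ 0 := fun h => hx₁Q (by rw [h, QuadraticMap.map_zero])
  have hx₂0 : x₂ ≠ 0 := fun h => hx₁Q (by rw [← heQ, ← hg e, hge, h, add_zero])
  have hli' : ∀ y, y ≠ 0 → Q y = 0 → LinearIndependent F ![x₁, y] := fun y hy0 hyQ =>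
    (LinearIndependent.pair_iff' hx₁0).mpr fun c h => by
      have := congrArg (⇑Q) h
      rw [QuadraticMap.map_smul, hyQ, smul_eq_mul, mul_eq_zero, mul_self_eq_zero] at this
      rcases this with hc | hq
      · exact hy0 (by rw [← h, hc, zero_smul])
      · exact hx₁Q hq
  obtain ⟨e', he', he'0, he'Q, hc1, he'g⟩ : ∃ e', e' ∈ W ∧ e' ≠ 0 ∧ Q e' = 0 ∧ polar ⇑Q x₁ e' = 0 ∧
      ((g⁻¹ : GL ι F) : Matrix ι ι F) *ᵥ e' ∉ W := by
    by_contra hno
    push Not at hno
    have hgW : ∀ y, y ∈ W → Q y = 0 → polar ⇑Q x₁ y = 0 → ((g⁻¹ : GL ι F) : Matrix ι ι F) *ᵥ y ∈ W :=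
      fun y hy hyQ hyx => by
        by_cases hy0 : y = 0
        · rw [hy0, mulVec_zero]; exact W.zero_mem
        · exact hno y hy hy0 hyQ hyx
    obtain ⟨e₁, he₁, he₁0, he₁Q, he₁x⟩ := exists_singular_in (Q := Q) (W := W) ![x₁] (by omega)
    have h1x : polar ⇑Q x₁ e₁ = 0 := he₁x 0
    obtain ⟨a, ha, hai⟩ := exists_polar_in hQ hW (hli' e₁ he₁0 he₁Q) (fun i => by fin_cases i <;> simp [hx₁, he₁]) ![0, 1]
    have ha0 : polar ⇑Q x₁ a = 0 := hai 0
    have ha1 : polar ⇑Q e₁ a = 1 := hai 1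
    have hline : ∀ y, y ∈ W → polar ⇑Q x₁ y = 0 → polar ⇑Q e₁ y ≠ 0 →
        ((g⁻¹ : GL ι F) : Matrix ι ι F) *ᵥ y ∈ W := by
      intro y hy hyx hye
      obtain ⟨t, ht⟩ : ∃ t, t = -Q y / polar ⇑Q e₁ y := ⟨_, rfl⟩
      have hm := hgW (y + t • e₁) (W.add_mem hy (W.smul_mem _ he₁)) (by
        rw [QuadraticMap.map_add (⇑Q), QuadraticMap.map_smul, he₁Q, polar_smul_right, polar_comm _ y e₁, ht,
          smul_zero, add_zero, smul_eq_mul, div_mul_cancel₀ _ hye, add_neg_cancel])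
        (by rw [polar_add_right, polar_smul_right, hyx, h1x, smul_zero, add_zero])
      rw [mulVec_add, mulVec_smul] at hm
      simpa using W.sub_mem hm (W.smul_mem t (hgW e₁ he₁ he₁Q h1x))
    let W' : Submodule F (ι → F) := W ⊓ (QuadraticMap.polarBilin Q x₁).ker
    have hW' : ∀ y ∈ W', ((g⁻¹ : GL ι F) : Matrix ι ι F) *ᵥ y ∈ W ∧
        polar ⇑Q e (((g⁻¹ : GL ι F) : Matrix ι ι F) *ᵥ y) = 0 := by
      intro y hy
      obtain ⟨hyW, hyk⟩ := Submodule.mem_inf.1 hy
      have hyx : polar ⇑Q x₁ y = 0 := hyk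
      refine ⟨?_, ?_⟩
      · by_cases hye : polar ⇑Q e₁ y = 0
        · have h1 := hline (y + a) (W.add_mem hyW ha) (by rw [polar_add_right, hyx, ha0, add_zero])
            (by rw [polar_add_right, hye, zero_add, ha1]; exact one_ne_zero)
          have h2 := hline a ha ha0 (by rw [ha1]; exact one_ne_zero)
          rw [mulVec_add] at h1
          simpa using W.sub_mem h1 h2
        · exact hline y hyW hyx hye
      · rw [← polar_of_iso hg, hinv, hge, polar_add_left, hyx, polar_comm _ x₂ y, mem_polarPerp.1 hx₂ y hyW,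
          add_zero]
    let L : Submodule F (ι → F) := W'.map (Matrix.mulVecLin ((g⁻¹ : GL ι F) : Matrix ι ι F)) ⊔ F ∙ e
    have hLW : L ≤ W := sup_le (by rintro _ ⟨y, hy, rfl⟩; exact (hW' y hy).1)
      ((Submodule.span_singleton_le_iff_mem _ _).2 he)
    have hLe : ∀ y ∈ L, polar ⇑Q e y = 0 := fun y hy => by
      have : L ≤ (QuadraticMap.polarBilin Q e).ker := sup_le (by rintro _ ⟨z, hz, rfl⟩; exact (hW' z hz).2)
        ((Submodule.span_singleton_le_iff_mem _ _).2 (Orth.polar_self_zero heQ))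
      exact this hy
    have hinj : Function.Injective (Matrix.mulVecLin ((g⁻¹ : GL ι F) : Matrix ι ι F)) := fun a b h => by
      have := congrArg (fun z => (g : Matrix ι ι F) *ᵥ z) h
      simpa using this
    have hk' : Module.finrank F W ≤ Module.finrank F W' + 1 := by
      have h1 := ((QuadraticMap.polarBilin Q x₁).domRestrict W).finrank_range_add_finrank_ker
      have h2 := Submodule.finrank_le ((QuadraticMap.polarBilin Q x₁).domRestrict W).range
      rw [Module.finrank_self] at h2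
      have h3 : ((QuadraticMap.polarBilin Q x₁).domRestrict W).ker.map W.subtype = W' := by
        ext y
        constructor
        · rintro ⟨z, hz, rfl⟩; exact ⟨z.2, hz⟩
        · rintro ⟨hy1, hy2⟩; exact ⟨⟨y, hy1⟩, hy2, rfl⟩
      rw [← h3, Submodule.finrank_map_subtype_eq]
      omega
    have hdisj : W'.map (Matrix.mulVecLin ((g⁻¹ : GL ι F) : Matrix ι ι F)) ⊓ F ∙ e = ⊥ := by
      rw [Submodule.eq_bot_iff]
      rintro _ ⟨⟨y, hy, rfl⟩, hye⟩
      obtain ⟨c, hc⟩ := Submodule.mem_span_singleton.1 hye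
      have hy' : y = c • (x₁ + x₂) := by
        rw [← hge, ← mulVec_smul, hc]
        exact (hinv y).symm
      by_cases hc0 : c = 0
      · rw [hy', hc0, zero_smul, map_zero]
      exfalso
      refine hx₂0 ?_
      have hx : x₁ + x₂ ∈ W := by
        have := W.smul_mem c⁻¹ (Submodule.mem_inf.1 hy).1
        rwa [hy', inv_smul_smul₀ hc0] at this
      exact Submodule.disjoint_def.1 (isCompl_polarPerp hQ hW).disjoint x₂
        (by simpa using W.sub_mem hx hx₁) hx₂
    have he0 : e ≠ 0 := fun h => hx₁0 (by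
      have h0 : x₁ + x₂ = 0 := by rw [← hge, h, mulVec_zero]
      exact Submodule.disjoint_def.1 (isCompl_polarPerp hQ hW).disjoint x₁ hx₁
        (by rw [eq_neg_of_add_eq_zero_left h0]; exact Submodule.neg_mem _ hx₂))
    have hLtop : L = W := Submodule.eq_of_le_of_finrank_le hLW (by
      have h1 := Submodule.finrank_sup_add_finrank_inf_eq
        (W'.map (Matrix.mulVecLin ((g⁻¹ : GL ι F) : Matrix ι ι F))) (F ∙ e)
      rw [hdisj, finrank_bot, finrank_span_singleton he0, ← (Submodule.equivMapOfInjective _ hinj W').finrank_eq] at h1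
      show Module.finrank F W ≤ Module.finrank F
        ↥(W'.map (Matrix.mulVecLin ((g⁻¹ : GL ι F) : Matrix ι ι F)) ⊔ F ∙ e)
      omega)
    obtain ⟨f, hf, -, hef⟩ := exists_partner_in hQ hW he he0 heQ
    exact one_ne_zero (hef.symm.trans (hLe f (hLtop ▸ hf)))
  have hli2 := hli' e' he'0 he'Q
  set x := x₁ + x₂ with hx
  -- a vector of `W` whose image gives the transformation
  obtain ⟨a₀, ha₀, ha₀e, ha₀e', ha₀s⟩ : ∃ a ∈ W, polar ⇑Q e a = 0 ∧
      polar ⇑Q ((g : Matrix ι ι F) *ᵥ a) e' = 0 ∧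
      (g : Matrix ι ι F) *ᵥ a ∉ Submodule.span F (Set.range ![x, x₁, e']) := by
    let K := (FormMax.OrthSL.conds Q ![e, ((g⁻¹ : GL ι F) : Matrix ι ι F) *ᵥ e']).ker ⊓ W
    have hK : 2 ≤ Module.finrank F K := by
      have h1 := (FormMax.OrthSL.conds Q ![e, ((g⁻¹ : GL ι F) : Matrix ι ι F) *ᵥ e']).finrank_range_add_finrank_ker
      have h3 := Submodule.finrank_le
        (FormMax.OrthSL.conds Q ![e, ((g⁻¹ : GL ι F) : Matrix ι ι F) *ᵥ e']).range
      rw [Module.finrank_fin_fun] at h3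
      have h4 := Submodule.finrank_sup_add_finrank_inf_eq
        (FormMax.OrthSL.conds Q ![e, ((g⁻¹ : GL ι F) : Matrix ι ι F) *ᵥ e']).ker W
      have h5 := Submodule.finrank_le
        ((FormMax.OrthSL.conds Q ![e, ((g⁻¹ : GL ι F) : Matrix ι ι F) *ᵥ e']).ker ⊔ W)
      show 2 ≤ Module.finrank F ↥((FormMax.OrthSL.conds Q ![e, ((g⁻¹ : GL ι F) : Matrix ι ι F) *ᵥ e']).ker ⊓ W)
      omega
    obtain ⟨a, ha, haS⟩ := SetLike.not_le_iff_exists.1 (fun h : K ≤ F ∙ e => by
      have := Submodule.finrank_mono h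
      have h1 : Module.finrank F (F ∙ e) ≤ 1 := by
        simpa using finrank_span_le_card (R := F) ({e} : Set (ι → F))
      omega)
    obtain ⟨ha1, ha2⟩ := Submodule.mem_inf.1 ha
    have hae : polar ⇑Q e a = 0 := FormMax.OrthSL.conds_eq (LinearMap.mem_ker.1 ha1) 0
    refine ⟨a, ha2, hae, ?_, fun hm => haS ?_⟩
    · have h := FormMax.OrthSL.conds_eq (LinearMap.mem_ker.1 ha1) 1
      rw [Matrix.cons_val_one, Matrix.cons_val_zero, ← polar_of_iso hg, hinv, polar_comm] at h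
      exact h
    obtain ⟨c, hc⟩ := (Submodule.mem_span_range_iff_exists_fun F).1 hm
    simp only [Fin.sum_univ_three, Matrix.cons_val_zero, Matrix.cons_val_one, Matrix.cons_val_two,
      Matrix.head_cons, Matrix.tail_cons] at hc
    have hc1' : c 1 = 0 := by
      have h := congrArg (fun z => polar ⇑Q x z) hc
      simp only [hx, polar_add_left, polar_add_right, polar_smul_right, hc1, Orth.polar_self_eq,
        polar_comm _ x₂ x₁, polar_comm _ x₂ e', mem_polarPerp.1 hx₂ x₁ hx₁, mem_polarPerp.1 hx₂ e' he',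
        smul_eq_mul] at h
      have hxa : polar ⇑Q (x₁ + x₂) ((g : Matrix ι ι F) *ᵥ a) = 0 := by
        rw [← hx, ← hge, polar_of_iso hg]; exact hae
      rw [polar_add_left] at hxa
      have hxQ : Q x₁ + Q x₂ = 0 := by
        rw [← heQ, ← hg e, hge, hx, QuadraticMap.map_add (⇑Q), mem_polarPerp.1 hx₂ x₁ hx₁, add_zero]
      have : c 1 * (2 * Q x₁) = 0 := by linear_combination h + hxa - 2 * c 0 * hxQ
      exact (mul_eq_zero.1 this).resolve_right (mul_ne_zero h2 hx₁Q)
    rw [hc1', zero_smul, add_zero] at hc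
    have ha' : a = c 0 • e + c 2 • (((g⁻¹ : GL ι F) : Matrix ι ι F) *ᵥ e') := by
      rw [← hinv' a, ← hc, mulVec_add, mulVec_smul, mulVec_smul, ← hge, hinv']
    by_cases hc2 : c 2 = 0
    · rw [ha', hc2, zero_smul, add_zero]; exact Submodule.smul_mem _ _ (Submodule.mem_span_singleton_self e)
    · refine absurd ?_ he'g
      have h1 := W.smul_mem (c 2)⁻¹ (W.sub_mem ha2 (W.smul_mem (c 0) he))
      rwa [show a - c 0 • e = c 2 • (((g⁻¹ : GL ι F) : Matrix ι ι F) *ᵥ e') by rw [ha']; abel,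
        inv_smul_smul₀ hc2] at h1
  set b := (g : Matrix ι ι F) *ᵥ a₀ with hb
  have hxb : RootIn Q M x b := by
    rw [← hge]
    obtain ⟨p, q, hm⟩ := rootIn_stab hQ hn hW hk he ha₀ heQ ha₀e
    exact RootIn.map (M := M) hgM hg ⟨p, q, hPM hm⟩
  obtain ⟨hxQ, hxb0, hTM⟩ := hxb
  have hxe' : polar ⇑Q x e' = 0 := by
    rw [hx, polar_add_left, hc1, polar_comm _ x₂ e', mem_polarPerp.1 hx₂ e' he', add_zero]
  set T := eichlerGL Q x b hxQ hxb0 with hT
  have hTe : (T : Matrix ι ι F) *ᵥ e' = e' := by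
    rw [hT, eichlerGL_mulVec, hxe', ha₀e']
    simp
  -- a test vector in `W` moved off `W`
  obtain ⟨a', ha', ha'e, y₁, hy₁, y₂, hy₂, hy₂0, hy⟩ : ∃ a', a' ∈ W ∧ polar ⇑Q e' a' = 0 ∧
      ∃ y₁ ∈ W, ∃ y₂ ∈ polarPerp Q W, y₂ ≠ 0 ∧ (T : Matrix ι ι F) *ᵥ a' = y₁ + y₂ := by
    obtain ⟨b₁, hb₁, b₂, hb₂, hb12⟩ := exists_split hQ hW b
    by_cases hlam : ∃ l : F, b₂ = l • x₂
    swap
    · obtain ⟨a', ha', hi⟩ := exists_polar_in hQ hW hli2
        (fun i => by fin_cases i <;> simp [hx₁, he']) ![1, 0]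
      have i1 : polar ⇑Q x₁ a' = 1 := hi 0
      have i2 : polar ⇑Q e' a' = 0 := hi 1
      have hpx : polar ⇑Q x a' = 1 := by
        rw [hx, polar_add_left, i1, polar_comm _ x₂ a', mem_polarPerp.1 hx₂ a' ha', add_zero]
      set c := polar ⇑Q b a' + Q b * 1 with hcdef
      refine ⟨a', ha', i2, a' + b₁ - c • x₁, W.sub_mem (W.add_mem ha' hb₁) (W.smul_mem _ hx₁),
        b₂ - c • x₂, Submodule.sub_mem _ hb₂ (Submodule.smul_mem _ _ hx₂),
        fun h => hlam ⟨c, sub_eq_zero.1 h⟩, ?_⟩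
      rw [hT, eichlerGL_mulVec, hpx, one_smul, ← hcdef, hb12, hx]
      module
    obtain ⟨l, hl⟩ := hlam
    set w := b₁ - l • x₁ with hw
    have hwW : w ∈ W := W.sub_mem hb₁ (W.smul_mem _ hx₁)
    have hbw : b = w + l • x := by rw [hb12, hl, hw, hx]; module
    have hwn : w ∉ Submodule.span F (Set.range ![x₁, e']) := fun h => ha₀s (by
      rw [hbw]
      refine Submodule.add_mem _ (Submodule.span_mono ?_ h) (Submodule.smul_mem _ _
        (Submodule.subset_span ⟨0, rfl⟩))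
      rintro z ⟨i, rfl⟩
      exact ⟨i.succ, rfl⟩)
    have hli3 : LinearIndependent F ![w, x₁, e'] := linearIndependent_fin_cons.mpr ⟨hli2, hwn⟩
    obtain ⟨a', ha', hi⟩ := exists_polar_in hQ hW hli3
      (fun i => by fin_cases i <;> simp [hwW, hx₁, he']) ![1 - Q w, 1, 0]
    have i0 : polar ⇑Q w a' = 1 - Q w := hi 0
    have i1 : polar ⇑Q x₁ a' = 1 := hi 1
    have i2 : polar ⇑Q e' a' = 0 := hi 2
    have hpx : polar ⇑Q x a' = 1 := by
      rw [hx, polar_add_left, i1, polar_comm _ x₂ a', mem_polarPerp.1 hx₂ a' ha', add_zero]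
    have hxw : polar ⇑Q x w = 0 := by
      rw [hbw, polar_add_right, polar_smul_right, Orth.polar_self_zero hxQ, smul_zero, add_zero] at hxb0
      exact hxb0
    refine ⟨a', ha', i2, a' + w - x₁, W.sub_mem (W.add_mem ha' hwW) hx₁, -x₂,
      Submodule.neg_mem _ hx₂, neg_ne_zero.mpr hx₂0, ?_⟩
    rw [hT, eichlerGL_mulVec, hpx, one_smul, hbw, QuadraticMap.map_add (⇑Q) w (l • x), QuadraticMap.map_smul,
      polar_smul_right, polar_comm _ w x, hxw, hxQ, polar_add_left, i0, polar_smul_left, hpx, hx]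
    simp only [smul_eq_mul]
    module
  obtain ⟨p, q, hm⟩ := rootIn_stab hQ hn hW hk he' ha' he'Q ha'e
  have h1 := RootIn.map (M := M) hTM (Q_eichlerGL hxQ hxb0) ⟨p, q, hPM hm⟩
  rw [hTe, hy] at h1
  have h3 : polar ⇑Q e' (-y₁) = 0 := by
    obtain ⟨_, hh, _⟩ := h1
    rw [polar_add_right, mem_polarPerp.1 hy₂ e' he', add_zero] at hh
    rw [polar_neg_right, hh, neg_zero]
  obtain ⟨p', q', hm'⟩ := rootIn_stab hQ hn hW hk he' (W.neg_mem hy₁) he'Q h3
  have h4 := h1.add ⟨p', q', hPM hm'⟩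
  rw [show y₁ + y₂ + -y₁ = y₂ by abel] at h4
  exact ⟨e', y₂, he', he'0, he'Q, hy₂, hy₂0, h4⟩


/-- A quadratic form vanishing on the singular vectors is a multiple. -/
theorem exists_multiple (R : (ι → F) →ₗ[F] (ι → F)) (hR : ∀ z ∈ W, Q z = 0 → Q (R z) = 0) :
    ∃ c : F, ∀ w ∈ W, Q (R w) = c * Q w := by
  obtain ⟨e, he, he0, heQ, -⟩ := exists_singular_in (Q := Q) (W := W) (![] : Fin 0 → ι → F) (by omega)
  obtain ⟨f, hf, hfQ, hef⟩ := exists_partner_in hQ hW he he0 heQ
  let B : (ι → F) → (ι → F) → F := fun u v => polar ⇑Q (R u) (R v)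
  have hee : polar ⇑Q e e = 0 := Orth.polar_self_zero heQ
  have hff : polar ⇑Q f f = 0 := Orth.polar_self_zero hfQ
  let C : Submodule F (ι → F) := W ⊓ (FormMax.OrthSL.conds Q ![e, f]).ker
  have hC : ∀ r ∈ C, r ∈ W ∧ polar ⇑Q e r = 0 ∧ polar ⇑Q f r = 0 := fun r hr =>
    ⟨(Submodule.mem_inf.1 hr).1, FormMax.OrthSL.conds_eq (LinearMap.mem_ker.1 (Submodule.mem_inf.1 hr).2) 0,
      FormMax.OrthSL.conds_eq (LinearMap.mem_ker.1 (Submodule.mem_inf.1 hr).2) 1⟩
  set c := B e f with hc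
  have key : ∀ r ∈ C, Q (R r) = c * Q r ∧ B f r = Q r * B e r := by
    intro r hr
    obtain ⟨hrW, her, hfr⟩ := hC r hr
    have ex : ∀ s : F, s * s = 1 →
        -Q r * c + Q (R r) + s * (-Q r * B e r + B f r) = 0 := by
      intro s hs
      have h0 := hR ((-Q r) • e + f + s • r) (W.add_mem (W.add_mem (W.smul_mem _ he) hf) (W.smul_mem _ hrW)) (by
        simp only [QuadraticMap.map_add (⇑Q), QuadraticMap.map_smul, polar_add_left, polar_smul_left,
          polar_smul_right, heQ, hfQ, hef, her, hfr, smul_eq_mul]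
        linear_combination Q r * hs)
      rw [LinearMap.map_add, LinearMap.map_add, LinearMap.map_smul, LinearMap.map_smul] at h0
      simp only [QuadraticMap.map_add (⇑Q), QuadraticMap.map_smul, polar_add_left, polar_smul_left,
        polar_smul_right, hR e he heQ, hR f hf hfQ, smul_eq_mul] at h0
      simp only [B, hc]
      linear_combination h0 - Q (R r) * hs
    have e1 := ex 1 (one_mul 1)
    have e2 := ex (-1) (by ring)
    constructor
    · exact mul_left_cancel₀ h2 (by linear_combination e1 + e2)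
    · exact mul_left_cancel₀ h2 (by linear_combination e1 - e2)
  have hadd : ∀ x u v, B x (u + v) = B x u + B x v := fun x u v => by
    simp only [B, map_add, polar_add_right]
  have hsub : ∀ x u v, B x (u - v) = B x u - B x v := fun x u v => by
    simp only [B, map_sub, polar_sub_right]
  have star : ∀ r ∈ C, ∀ s ∈ C, Q s * B e r + polar ⇑Q r s * B e s = 0 := by
    intro r hr s hs
    have a1 := (key r hr).2
    have a2 := (key _ (C.add_mem hr hs)).2
    have a3 := (key _ (C.sub_mem hr hs)).2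
    rw [hadd, hadd, QuadraticMap.map_add (⇑Q)] at a2
    rw [hsub, hsub, sub_eq_add_neg r s, QuadraticMap.map_add (⇑Q), QuadraticMap.map_neg, polar_neg_right] at a3
    exact (mul_eq_zero.1 (show (2 : F) * (Q s * B e r + polar ⇑Q r s * B e s) = 0 by
      linear_combination 2 * a1 - a2 - a3)).resolve_left h2
  have hu : ∀ r ∈ C, B e r = 0 := by
    by_contra hh
    push Not at hh
    obtain ⟨r₀, hr₀, hne⟩ := hh
    let uL : C →ₗ[F] F := ((QuadraticMap.polarBilin Q (R e)).comp R).domRestrict C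
    have huL : ∀ r : C, uL r = B e r := fun r => rfl
    have hdim : 2 ≤ Module.finrank F C := by
      have h1 := (FormMax.OrthSL.conds Q ![e, f]).finrank_range_add_finrank_ker
      have h3 := Submodule.finrank_le (FormMax.OrthSL.conds Q ![e, f]).range
      rw [Module.finrank_fin_fun] at h3
      have h4 := Submodule.finrank_sup_add_finrank_inf_eq W (FormMax.OrthSL.conds Q ![e, f]).ker
      have h5 := Submodule.finrank_le (W ⊔ (FormMax.OrthSL.conds Q ![e, f]).ker)
      show 2 ≤ Module.finrank F ↥(W ⊓ (FormMax.OrthSL.conds Q ![e, f]).ker)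
      omega
    have hker : uL.ker ≠ ⊥ := fun h => by
      have h1 := uL.finrank_range_add_finrank_ker
      have h3 := Submodule.finrank_le uL.range
      rw [Module.finrank_self] at h3
      rw [h, finrank_bot] at h1
      omega
    obtain ⟨⟨r, hr⟩, hrk, hr0⟩ := Submodule.exists_mem_ne_zero_of_ne_bot hker
    have hur : B e r = 0 := (huL _).symm.trans hrk
    have hsing : ∀ s ∈ C, B e s = 0 → Q s = 0 := fun s hs hus => by
      have := star r₀ hr₀ s hs
      rw [hus, mul_zero, add_zero] at this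
      exact (mul_eq_zero.1 this).resolve_right hne
    have h0 : polar ⇑Q r r₀ = 0 := by
      have := star r hr r₀ hr₀
      rw [hur, mul_zero, zero_add] at this
      exact (mul_eq_zero.1 this).resolve_right hne
    obtain ⟨hrW, her, hfr⟩ := hC r hr
    have hall : ∀ y ∈ W, polar ⇑Q r y = 0 := by
      intro y hy
      set y₀ := y - polar ⇑Q f y • e - polar ⇑Q e y • f with hy₀
      have hy₀C : y₀ ∈ C := by
        refine Submodule.mem_inf.2 ⟨W.sub_mem (W.sub_mem hy (W.smul_mem _ he)) (W.smul_mem _ hf), ?_⟩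
        rw [LinearMap.mem_ker]
        funext i
        fin_cases i
        · show polar ⇑Q e y₀ = 0
          rw [hy₀, polar_sub_right, polar_sub_right, polar_smul_right, polar_smul_right, hee, hef]; simp
        · show polar ⇑Q f y₀ = 0
          rw [hy₀, polar_sub_right, polar_sub_right, polar_smul_right, polar_smul_right, hff, polar_comm _ f e, hef]
          simp
      set k := y₀ - (B e y₀ / B e r₀) • r₀ with hk'
      have hkC : k ∈ C := C.sub_mem hy₀C (C.smul_mem _ hr₀)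
      have huk : B e k = 0 := by
        rw [hk', hsub, show B e ((B e y₀ / B e r₀) • r₀) = (B e y₀ / B e r₀) * B e r₀ by
          simp only [B, map_smul, polar_smul_right, smul_eq_mul], div_mul_cancel₀ _ hne, sub_self]
      have hq1 := hsing r hr hur
      have hq2 := hsing k hkC huk
      have hq3 := hsing (r + k) (C.add_mem hr hkC) (by rw [hadd, hur, huk, add_zero])
      rw [QuadraticMap.map_add (⇑Q), hq1, hq2, zero_add, zero_add] at hq3
      rw [show y = k + (B e y₀ / B e r₀) • r₀ + polar ⇑Q f y • e + polar ⇑Q e y • f by rw [hk', hy₀]; abel]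
      simp only [polar_add_right, polar_smul_right, hq3, h0, polar_comm _ r e, her, polar_comm _ r f, hfr,
        smul_zero, add_zero]
    by_cases hr00 : r = 0
    · exact hr0 (Subtype.ext hr00)
    obtain ⟨⟨y, hy, hyr⟩, -⟩ := hW r hrW hr00
    first
      | exact hyr (hall y hy)
      | exact hyr (by rw [polar_comm]; exact hall y hy)
  refine ⟨c, fun w hw => ?_⟩
  set r := w - polar ⇑Q f w • e - polar ⇑Q e w • f with hr
  have hrC : r ∈ C := by
    refine Submodule.mem_inf.2 ⟨W.sub_mem (W.sub_mem hw (W.smul_mem _ he)) (W.smul_mem _ hf), ?_⟩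
    rw [LinearMap.mem_ker]
    funext i
    fin_cases i
    · show polar ⇑Q e r = 0
      rw [hr, polar_sub_right, polar_sub_right, polar_smul_right, polar_smul_right, hee, hef]; simp
    · show polar ⇑Q f r = 0
      rw [hr, polar_sub_right, polar_sub_right, polar_smul_right, polar_smul_right, hff, polar_comm _ f e, hef]
      simp
  obtain ⟨k1, k2⟩ := key r hrC
  rw [hu r hrC, mul_zero] at k2
  obtain ⟨-, her, hfr⟩ := hC r hrC
  rw [show w = polar ⇑Q f w • e + polar ⇑Q e w • f + r by rw [hr]; abel]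
  generalize polar ⇑Q f w = α, polar ⇑Q e w = β
  simp only [map_add, map_smul, QuadraticMap.map_add (⇑Q), QuadraticMap.map_smul, polar_add_left,
    polar_smul_left, polar_smul_right, heQ, hfQ, hef, her, hfr, hR e he heQ, hR f hf hfQ, smul_eq_mul]
  have hue := hu r hrC
  simp only [B] at hue k2 hc
  rw [hue, k2, ← hc, k1]
  ring

theorem isMaximalIn_nondeg [Fintype F] (hU : Module.finrank F (polarPerp Q W) ≤ 3) (hW1 : W ≠ ⊤)
    (hlt : Module.finrank F (polarPerp Q W) < Module.finrank F W)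
    (hex : ¬ (Fintype.card F ≤ 3 ∧ Module.finrank F (polarPerp Q W) = 2 ∧
      Cfsg.Geo.IsPlusTypeOn (⇑Q) (polarPerp Q W))) :
    Cfsg.Geo.IsMaximalIn (Cfsg.Geo.omegaGL ⇑Q)
      (Cfsg.Geo.subspaceStabilizer W ⊓ Cfsg.Geo.omegaGL ⇑Q) := by
  have hdU := finrank_polarPerp hQ W
  obtain ⟨e, he, he0, heQ, -⟩ := exists_singular_in (Q := Q) (W := W) (![] : Fin 0 → ι → F) (by omega)
  refine ⟨lt_of_le_of_ne inf_le_right fun heq => ?_, fun M hPM hMK => ?_⟩
  · have hU0 : polarPerp Q W ≠ ⊥ := fun h => by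
      rw [h, finrank_bot] at hdU
      refine hW1 (Submodule.eq_top_of_finrank_eq ?_)
      have := Submodule.finrank_le W
      rw [Module.finrank_fintype_fun_eq_card] at this ⊢
      omega
    obtain ⟨u, hu, hu0⟩ := (polarPerp Q W).ne_bot_iff.mp hU0
    obtain ⟨f, hf, hfQ, hef⟩ := exists_partner_in hQ hW he he0 heQ
    have heu := mem_polarPerp.1 hu e he
    have hm := (Forms.mem_stabilizing_submodule_iff (toMat := Cfsg.glToMat ι F) W).1
      (show eichlerGL Q e u heQ heu ∈ Cfsg.Geo.subspaceStabilizer W ⊓ Cfsg.Geo.omegaGL ⇑Q by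
        rw [heq]; exact E_mem_omega hQ hn heQ heu).1 f hf
    simp only [Units.coeHom_apply] at hm
    rw [eichlerGL_mulVec, hef, one_smul] at hm
    have huW : u ∈ W := by
      have := W.add_mem (W.sub_mem hm hf) (W.smul_mem (polar ⇑Q u f + Q u * 1) he)
      convert this using 1
      abel
    exact hu0 (Submodule.disjoint_def.1 (isCompl_polarPerp hQ hW).disjoint u huW hu)
  by_cases hMP : M ≤ Cfsg.Geo.subspaceStabilizer W ⊓ Cfsg.Geo.omegaGL ⇑Q
  · exact Or.inl (le_antisymm hMP hPM)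
  obtain ⟨g, hgM, hgP⟩ := SetLike.not_le_iff_exists.mp hMP
  refine Or.inr (le_antisymm hMK ?_)
  have hg : ∀ y, Q ((g : Matrix ι ι F) *ᵥ y) = Q y := by
    obtain ⟨g', -, rfl⟩ := hMK hgM
    exact Orth.mem_isometryGroup_iff.1 g'.2
  let π : (ι → F) →ₗ[F] (ι → F) := Submodule.projection W (polarPerp Q W) (isCompl_polarPerp hQ hW)
  let R : (ι → F) →ₗ[F] (ι → F) := π.comp (Matrix.mulVecLin (g : Matrix ι ι F))
  have hπW : ∀ y, π y ∈ W := fun y => Submodule.IsCompl.projection_apply_mem _ y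
  have hπU : ∀ y, y - π y ∈ polarPerp Q W := fun y => by
    obtain ⟨w, hw, u, hu, rfl⟩ := exists_split hQ hW y
    rw [show π (w + u) = w by
      rw [map_add, show π w = w from Submodule.IsCompl.projection_apply_left _ ⟨w, hw⟩,
        show π u = 0 from Submodule.IsCompl.projection_apply_right _ ⟨u, hu⟩, add_zero]]
    simpa using hu
  by_cases hA : ∃ z ∈ W, Q z = 0 ∧ Q (R z) ≠ 0
  · obtain ⟨z, hz, hzQ, hz1⟩ := hA
    obtain ⟨e', u, he', he'0, he'Q, hu, hu0, hl⟩ := exists_link hQ hn hW hk h2 hPM (hπW _) (hπU _) hz1 hgM hg hz hzQ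
      (show (g : Matrix ι ι F) *ᵥ z = R z + ((g : Matrix ι ι F) *ᵥ z - R z) by abel)
    exact full_of_link hQ hn hW hk hex hPM he' he'0 he'Q hu hu0 hl
  push Not at hA
  obtain ⟨c, hc⟩ := exists_multiple hQ hn hW hk h2 R hA
  let S : (ι → F) →ₗ[F] (ι → F) := Matrix.mulVecLin (g : Matrix ι ι F) - R
  have hSU : ∀ w, S w ∈ polarPerp Q W := fun w => hπU _
  have hsum : ∀ w, (g : Matrix ι ι F) *ᵥ w = R w + S w := fun w => by
    show _ = R w + ((g : Matrix ι ι F) *ᵥ w - R w)
    abel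
  have hS : ∀ w ∈ W, Q (S w) = (1 - c) * Q w := fun w hw => by
    have h := hg w
    rw [hsum, QuadraticMap.map_add (⇑Q), mem_polarPerp.1 (hSU w) (R w) (hπW _), add_zero, hc w hw] at h
    linear_combination h
  have hSp : ∀ w ∈ W, ∀ y ∈ W, polar ⇑Q (S w) (S y) = (1 - c) * polar ⇑Q w y := fun w hw y hy => by
    simp only [QuadraticMap.polar, ← map_add]
    rw [hS _ (W.add_mem hw hy), hS w hw, hS y hy]; ring
  have hc1 : c = 1 := by
    by_contra hc1
    have hinj : Function.Injective (S.domRestrict W) := by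
      rw [← LinearMap.ker_eq_bot, LinearMap.ker_eq_bot']
      intro w hw
      by_contra hw0
      obtain ⟨⟨y, hy, hyw⟩, -⟩ := hW (w : ι → F) w.2 (fun h => hw0 (Subtype.ext h))
      have h := hSp w w.2 y hy
      rw [show S (w : ι → F) = 0 from hw, polar_zero_left] at h
      have h0 := (mul_eq_zero.1 h.symm).resolve_left (sub_ne_zero.2 (Ne.symm hc1))
      first
        | exact hyw h0
        | exact hyw (by rw [polar_comm]; exact h0)
    have h1 : Module.finrank F (S.domRestrict W).range ≤ Module.finrank F (polarPerp Q W) :=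
      Submodule.finrank_mono (by rintro _ ⟨w, rfl⟩; exact hSU _)
    rw [LinearMap.finrank_range_of_inj hinj] at h1
    omega
  subst hc1
  -- the part in the complement lies on one singular line
  obtain ⟨w₀, hw₀, hf0⟩ : ∃ w ∈ W, S w ≠ 0 := by
    by_contra hno
    push Not at hno
    exact hgP (mem_stab_of hQ hn hW hk (hMK hgM) fun w hw => by
      rw [hsum, hno w hw, add_zero]; exact hπW _)
  set f := S w₀ with hf
  have hfU : f ∈ polarPerp Q W := hSU _
  have hfQ : Q f = 0 := by rw [hf, hS w₀ hw₀, sub_self, zero_mul]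
  have hSS : ∀ w ∈ W, ∀ y ∈ W, polar ⇑Q (S w) (S y) = 0 := fun w hw y hy => by
    rw [hSp w hw y hy, sub_self, zero_mul]
  have hline : ∀ w ∈ W, ∃ s : F, s • f = S w := by
    intro w hw
    by_contra hno
    push Not at hno
    have hli : LinearIndependent F ![f, S w] := (LinearIndependent.pair_iff' hf0).mpr hno
    have hU' := nondegenerateOn_polarPerp hQ hW
    have hmem : ∀ i, ![f, S w] i ∈ polarPerp Q W := fun i => by fin_cases i <;> simp [hfU, hSU]
    obtain ⟨a₁, ha₁, h₁⟩ := exists_polar_in hQ hU' hli hmem ![1, 0]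
    obtain ⟨a₂, ha₂, h₂⟩ := exists_polar_in hQ hU' hli hmem ![0, 1]
    have h11 : polar ⇑Q f a₁ = 1 := h₁ 0
    have h12 : polar ⇑Q (S w) a₁ = 0 := h₁ 1
    have h21 : polar ⇑Q f a₂ = 0 := h₂ 0
    have h22 : polar ⇑Q (S w) a₂ = 1 := h₂ 1
    have p1 : polar ⇑Q f f = 0 := hSS w₀ hw₀ w₀ hw₀
    have p2 : polar ⇑Q f (S w) = 0 := hSS w₀ hw₀ w hw
    have p3 : polar ⇑Q (S w) f = 0 := hSS w hw w₀ hw₀
    have p4 : polar ⇑Q (S w) (S w) = 0 := hSS w hw w hw
    have hli4 : LinearIndependent F ![a₁, a₂, f, S w] := by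
      rw [Fintype.linearIndependent_iff]
      intro x hx
      simp only [Fin.sum_univ_four, Matrix.cons_val_zero, Matrix.cons_val_one, Matrix.cons_val_two,
        Matrix.cons_val_three, Matrix.head_cons, Matrix.tail_cons] at hx
      have e1 := congrArg (fun z => polar ⇑Q f z) hx
      have e2 := congrArg (fun z => polar ⇑Q (S w) z) hx
      simp [polar_add_right, polar_smul_right, h11, h12, h21, h22, p1, p2, p3, p4] at e1 e2
      rw [e1, e2, zero_smul, zero_smul, zero_add, zero_add] at hx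
      obtain ⟨e3, e4⟩ := LinearIndependent.pair_iff.mp hli _ _ hx
      intro i; fin_cases i <;> assumption
    have h4 := Submodule.finrank_mono (Submodule.span_le.2 (by
      rintro _ ⟨i, rfl⟩
      fin_cases i <;> first | exact ha₁ | exact ha₂ | exact hfU | exact hSU w) :
      Submodule.span F (Set.range ![a₁, a₂, f, S w]) ≤ polarPerp Q W)
    rw [finrank_span_eq_card hli4, Fintype.card_fin] at h4
    omega
  choose φ hφ using hline
  let bW := Module.finBasis F W
  have hRinj : ∀ w ∈ W, R w = 0 → w = 0 := by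
    intro w hw h
    by_contra hw0
    obtain ⟨⟨y, hy, hyw⟩, -⟩ := hW w hw hw0
    have h1 : polar ⇑Q w y = 0 := by
      rw [← polar_of_iso hg, hsum, hsum, h, zero_add, polar_add_right, hSS w hw y hy,
        polar_comm _ (S w) (R y), mem_polarPerp.1 (hSU w) (R y) (hπW _), add_zero]
    first
      | exact hyw h1
      | exact hyw (by rw [polar_comm]; exact h1)
  have hliR : LinearIndependent F fun i => R (bW i : ι → F) := by
    refine (bW.linearIndependent.map' (R.domRestrict W) ?_)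
    rw [LinearMap.ker_eq_bot']
    exact fun w hw => Subtype.ext (hRinj w w.2 hw)
  obtain ⟨a, ha, hai⟩ := exists_polar_in hQ hW hliR (fun i => hπW _) fun i => -φ (bW i : ι → F) (bW i).2
  have hrep : ∀ w ∈ W, polar ⇑Q a (R w) • f = -S w := by
    intro w hw
    let L : W →ₗ[F] (ι → F) :=
      { toFun := fun v => polar ⇑Q a (R (v : ι → F)) • f + S (v : ι → F)
        map_add' := fun v v' => by simp [polar_add_right, add_smul]; abel
        map_smul' := fun s v => by simp [polar_smul_right, smul_smul] }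
    have hL : L = 0 := bW.ext fun i => by
      show polar ⇑Q a (R (bW i : ι → F)) • f + S (bW i : ι → F) = 0
      rw [polar_comm, hai i, neg_smul, hφ, neg_add_cancel]
    exact eq_neg_of_add_eq_zero_left (LinearMap.congr_fun hL ⟨w, hw⟩)
  have hfa : polar ⇑Q f a = 0 := by rw [polar_comm]; exact mem_polarPerp.1 hfU a ha
  set T := eichlerGL Q f a hfQ hfa with hT
  have hTR : ∀ w ∈ W, (T : Matrix ι ι F) *ᵥ R w = (g : Matrix ι ι F) *ᵥ w := by
    intro w hw
    have h1 : polar ⇑Q f (R w) = 0 := by rw [polar_comm]; exact mem_polarPerp.1 hfU _ (hπW _)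
    rw [hT, eichlerGL_mulVec, h1, hsum]
    simp [hrep w hw]
  have hTM : T ∈ M := by
    have hΩ := (Cfsg.Geo.omegaGL ⇑Q).mul_mem ((Cfsg.Geo.omegaGL ⇑Q).inv_mem (E_mem_omega hQ hn hfQ hfa)) (hMK hgM)
    have hP := hPM (mem_stab_of hQ hn hW hk hΩ fun w hw => by
      rw [Units.val_mul, ← mulVec_mulVec, ← hTR w hw, mulVec_mulVec, Units.inv_mul, one_mulVec]
      exact hπW _)
    have := M.mul_mem hgM (M.inv_mem hP)
    rwa [_root_.mul_inv_rev, inv_inv, mul_inv_cancel_left] at this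
  have ha0 : a ≠ 0 := fun h => hf0 (by
    have := hrep w₀ hw₀
    rw [h, polar_zero_left, zero_smul, eq_comm, neg_eq_zero] at this
    exact this)
  by_cases haQ : Q a = 0
  · refine full_of_link hQ hn hW hk hex hPM ha ha0 haQ (Submodule.neg_mem _ hfU) (neg_ne_zero.2 hf0)
      ⟨haQ, by rw [polar_neg_right, polar_comm, hfa, neg_zero], ?_⟩
    convert hTM using 1
    refine gl_ext' fun y => ?_
    rw [hT, eichlerGL_mulVec, eichlerGL_mulVec, QuadraticMap.map_neg, hfQ, haQ, polar_neg_left]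
    simp only [zero_mul, add_zero]
    module
  obtain ⟨e', he', he'0, he'Q, hc'⟩ := exists_singular_in (Q := Q) (W := W) ![a] (by omega)
  have hae : polar ⇑Q a e' = 0 := hc' 0
  obtain ⟨b, hb, hbi⟩ := exists_polar_in hQ hW (u := ![e', a])
    ((LinearIndependent.pair_iff' he'0).mpr fun s h => haQ (by
      rw [← h, QuadraticMap.map_smul, he'Q, smul_zero]))
    (fun i => by fin_cases i <;> simp [he', ha]) ![0, 1]
  obtain ⟨p, q, hm⟩ := rootIn_stab hQ hn hW hk he' hb he'Q (hbi 0)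
  have hl := RootIn.map (M := M) hTM (Q_eichlerGL hfQ hfa) ⟨p, q, hPM hm⟩
  have hTe : (T : Matrix ι ι F) *ᵥ e' = e' := by
    rw [hT, eichlerGL_mulVec, show polar ⇑Q f e' = 0 by rw [polar_comm]; exact mem_polarPerp.1 hfU e' he', hae]
    simp
  have hTb : (T : Matrix ι ι F) *ᵥ b = b - f := by
    rw [hT, eichlerGL_mulVec, show polar ⇑Q f b = 0 by rw [polar_comm]; exact mem_polarPerp.1 hfU b hb,
      show polar ⇑Q a b = 1 from hbi 1]
    simp
  rw [hTe, hTb] at hl
  obtain ⟨p', q', hm'⟩ := rootIn_stab hQ hn hW hk he' (W.neg_mem hb) he'Q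
    (by rw [polar_neg_right, show polar ⇑Q e' b = 0 from hbi 0, neg_zero])
  have hl' := hl.add ⟨p', q', hPM hm'⟩
  rw [show b - f + -b = -f by abel] at hl'
  exact full_of_link hQ hn hW hk hex hPM he' he'0 he'Q (Submodule.neg_mem _ hfU) (neg_ne_zero.2 hf0) hl'

end Odd

end Four

variable {ι : Type} [Fintype ι] [DecidableEq ι] {F : Type*} [Field F] {Q : QuadraticForm F (ι → F)}

/-- In dimension seven the stabiliser of a non-degenerate subspace of even dimension is maximal. -/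
theorem isMaximalIn_nondegenerate_seven [Fintype F] (hQ : (QuadraticMap.polarBilin Q).Nondegenerate)
    (h2 : (2 : F) ≠ 0) (hn : Fintype.card ι = 7) {W : Submodule F (ι → F)} (hW : IsNondegenerateOn (polar ⇑Q) W)
    (hev : Even (Module.finrank F W)) (hW0 : W ≠ ⊥)
    (hexW : ¬ (Fintype.card F ≤ 3 ∧ Module.finrank F W = 2 ∧ Cfsg.Geo.IsPlusTypeOn (⇑Q) W)) :
    Cfsg.Geo.IsMaximalIn (Cfsg.Geo.omegaGL ⇑Q)
      (Cfsg.Geo.subspaceStabilizer W ⊓ Cfsg.Geo.omegaGL ⇑Q) := by
  have hdU := finrank_polarPerp hQ W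
  have hdW := Submodule.finrank_le W
  rw [Module.finrank_fintype_fun_eq_card] at hdW
  have h0 : Module.finrank F W ≠ 0 := fun h => hW0 (Submodule.finrank_eq_zero.1 h)
  obtain ⟨j, hj⟩ := hev
  by_cases hbig : 4 ≤ Module.finrank F W
  · exact Four.isMaximalIn_nondeg hQ (by omega) hW hbig h2 (by omega)
      (fun h => by rw [h, finrank_top, Module.finrank_fintype_fun_eq_card] at hj; omega) (by omega)
      (fun h => by omega)
  rw [stab_eq_perp hQ hW]
  have hpp := polarPerp_polarPerp hQ W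
  refine Four.isMaximalIn_nondeg hQ (by omega) (nondegenerateOn_polarPerp hQ hW) (by omega) h2
    (by rw [hpp]; omega) (fun h => ?_) (by rw [hpp]; omega) (by rwa [hpp])
  rw [h, finrank_top, Module.finrank_fintype_fun_eq_card] at hdU
  omega

end Cfsg.Agent.Lib.SingMax
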