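import Cfsg.Agent.Lib.SingMax.NonDegMain

/-!
The stabiliser of a non-degenerate subspace is maximal: the larger part may have dimension six.
-/

set_option autoImplicit false
set_option linter.unusedSectionVars false

namespace Cfsg.Agent.Lib.SingMax

open Matrix QuadraticMap
open Cfsg.Agent.Lib.FormMax.OrthSL (eichlerGL eichlerGL_mulVec Q_eichlerGL)
open Cfsg.Agent.Lib.MaxClass
open Cfsg.Geo (IsNondegenerateOn)

namespace Six

variable {ι : Type} [Fintype ι] [DecidableEq ι] {F : Type*} [Field F]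
  {Q : QuadraticForm F (ι → F)} {M : Subgroup (GL ι F)}

variable [Finite F] (hQ : (QuadraticMap.polarBilin Q).Nondegenerate) (hn : 7 ≤ Fintype.card ι)
  {W : Submodule F (ι → F)} (hW : IsNondegenerateOn (polar ⇑Q) W) (hk : 6 ≤ Module.finrank F W)
include hQ hn hW hk

theorem mem_stab_of {g : GL ι F} (hg : g ∈ Cfsg.Geo.omegaGL ⇑Q)
    (h : ∀ w ∈ W, (g : Matrix ι ι F) *ᵥ w ∈ W) : g ∈ (Cfsg.Geo.subspaceStabilizer W ⊓ Cfsg.Geo.omegaGL ⇑Q) :=
  ⟨Forms.mem_stabilizing_of_mapsTo (toMat := Cfsg.glToMat ι F) W fun w hw => by simpa using h w hw, hg⟩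

theorem rootIn_stab {e a : ι → F} (he : e ∈ W) (ha : a ∈ W) (heQ : Q e = 0) (hea : polar ⇑Q e a = 0) :
    RootIn Q (Cfsg.Geo.subspaceStabilizer W ⊓ Cfsg.Geo.omegaGL ⇑Q) e a := by
  refine ⟨heQ, hea, mem_stab_of hQ hn hW hk (E_mem_omega hQ hn heQ hea) fun w hw => ?_⟩
  rw [eichlerGL_mulVec]
  exact W.sub_mem (W.add_mem hw (W.smul_mem _ ha)) (W.smul_mem _ he)

variable {U₀ : Submodule F (ι → F)}

theorem fix_perp {e a u : ι → F} (he : e ∈ W) (ha : a ∈ W) (heQ : Q e = 0) (hea : polar ⇑Q e a = 0)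
    (hu : u ∈ polarPerp Q W) : (eichlerGL Q e a heQ hea : Matrix ι ι F) *ᵥ u = u := by
  rw [eichlerGL_mulVec, mem_polarPerp.1 hu e he, mem_polarPerp.1 hu a ha]
  simp

/-- One step: two independent orthogonal centres in `W` link to the same part of the complement. -/
theorem rootIn_step (hPM : (Cfsg.Geo.subspaceStabilizer W ⊓ Cfsg.Geo.omegaGL ⇑Q) ≤ M) {z z' u : ι → F} (hz : z ∈ W) (hz' : z' ∈ W) (hzQ : Q z = 0)
    (hz'Q : Q z' = 0) (hzz : polar ⇑Q z z' = 0) (hli : LinearIndependent F ![z, z'])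
    (hu : u ∈ polarPerp Q W) (h : RootIn Q M z u) : RootIn Q M z' u := by
  obtain ⟨a, ha, hai⟩ := exists_polar_in hQ hW hli (fun i => by fin_cases i <;> simp [hz, hz']) ![1, 1]
  have h1 : polar ⇑Q z a = 1 := hai 0
  have h2 : polar ⇑Q z' a = 1 := hai 1
  set v := a - Q a • z with hv
  have hvW : v ∈ W := W.sub_mem ha (W.smul_mem _ hz)
  have hvQ : Q v = 0 := by
    rw [hv, sub_eq_add_neg, QuadraticMap.map_add (⇑Q), QuadraticMap.map_neg, QuadraticMap.map_smul,
      polar_neg_right, polar_smul_right, polar_comm _ a z, h1, hzQ]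
    simp
  have hvz : polar ⇑Q v z = 1 := by
    rw [hv, polar_sub_left, polar_smul_left, Orth.polar_self_zero hzQ, smul_zero, sub_zero,
      polar_comm, h1]
  have hvz' : polar ⇑Q v z' = 1 := by
    rw [hv, polar_sub_left, polar_smul_left, hzz, smul_zero, sub_zero, polar_comm, h2]
  obtain ⟨b, hb, hbz⟩ := exists_moveE (x := z) (x' := z') hvQ (hz'Q.trans hzQ.symm) one_ne_zero hvz hvz'
  have hbW : b ∈ W → RootIn Q M z' u := fun hbW => by
    obtain ⟨hh1, hh2, hm⟩ := rootIn_stab hQ hn hW hk hvW hbW hvQ hb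
    have := h.map (hPM hm) (Q_eichlerGL hh1 hh2)
    rwa [hbz, fix_perp hQ hn hW hk hvW hbW hvQ hb hu] at this
  -- replace `b` by its part in `W`
  obtain ⟨w, hw, r, hr, hbr⟩ := exists_split hQ hW b
  have hvw : polar ⇑Q v w = 0 := by
    rw [hbr, polar_add_right, mem_polarPerp.1 hr v hvW, add_zero] at hb; exact hb
  have heq : (eichlerGL Q v w hvQ hvw : Matrix ι ι F) *ᵥ z = z' := by
    have hsplit := hbz
    rw [eichlerGL_mulVec, hvz, hbr, QuadraticMap.map_add (⇑Q), mem_polarPerp.1 hr w hw,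
      polar_add_left, polar_comm _ r z, mem_polarPerp.1 hr z hz, one_smul] at hsplit
    have hr0 : r = 0 := by
      have hmem : r ∈ W := by
        have e : r = z' - z - w + (polar ⇑Q w z + 0 + (Q w + Q r + 0) * 1) • v := by rw [← hsplit]; abel
        rw [e]
        exact W.add_mem (W.sub_mem (W.sub_mem hz' hz) hw) (W.smul_mem _ hvW)
      exact Submodule.disjoint_def.1 (isCompl_polarPerp hQ hW).disjoint r hmem hr
    rw [hr0] at hsplit
    rw [eichlerGL_mulVec, hvz, one_smul, ← hsplit]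
    simp
  obtain ⟨hh1, hh2, hm⟩ := rootIn_stab hQ hn hW hk hvW hw hvQ hvw
  have := h.map (hPM hm) (Q_eichlerGL hh1 hh2)
  rwa [heq, fix_perp hQ hn hW hk hvW hw hvQ hvw hu] at this

theorem rootIn_move (hPM : (Cfsg.Geo.subspaceStabilizer W ⊓ Cfsg.Geo.omegaGL ⇑Q) ≤ M) {z z' u : ι → F} (hz : z ∈ W) (hz' : z' ∈ W) (hz0 : z ≠ 0)
    (hz'0 : z' ≠ 0) (hzQ : Q z = 0) (hz'Q : Q z' = 0) (hu : u ∈ polarPerp Q W) (h : RootIn Q M z u) :
    RootIn Q M z' u := by
  by_cases hdep : ∃ c : F, c • z = z'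
  · obtain ⟨c, hc⟩ := hdep
    obtain ⟨r, -, -, hr⟩ := exists_partner_in hQ hW hz hz0 hzQ
    obtain ⟨z'', hz'', hz''0, hz''Q, hc''⟩ := exists_singular_in (Q := Q) (W := W) ![z, r] (by omega)
    have h1 : polar ⇑Q z z'' = 0 := hc'' 0
    have h3 : polar ⇑Q r z'' = 0 := hc'' 1
    have hli : LinearIndependent F ![z, z''] := by
      refine (LinearIndependent.pair_iff' hz0).mpr fun d e => ?_
      rw [← e, polar_smul_right, polar_comm _ r z, hr, smul_eq_mul, mul_one] at h3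
      exact hz''0 (by rw [← e, h3, zero_smul])
    have hstep := rootIn_step hQ hn hW hk hPM hz hz'' hzQ hz''Q h1 hli hu h
    refine rootIn_step hQ hn hW hk hPM hz'' hz' hz''Q hz'Q
      (by rw [← hc, polar_smul_right, polar_comm, h1, smul_zero]) ?_ hu hstep
    refine (LinearIndependent.pair_iff' hz''0).mpr fun d e => ?_
    have hc0 : c ≠ 0 := fun h0 => hz'0 (by rw [← hc, h0, zero_smul])
    have h4 : polar ⇑Q r z' = 0 := by rw [← e, polar_smul_right, h3, smul_zero]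
    rw [← hc, polar_smul_right, polar_comm _ r z, hr, smul_eq_mul, mul_one] at h4
    exact hc0 h4
  push Not at hdep
  by_cases hzz : polar ⇑Q z z' = 0
  · exact rootIn_step hQ hn hW hk hPM hz hz' hzQ hz'Q hzz
      ((LinearIndependent.pair_iff' hz0).mpr hdep) hu h
  obtain ⟨z'', hz'', hz''0, hz''Q, hc⟩ := exists_singular_in (Q := Q) (W := W) ![z, z'] (by omega)
  have h1 : polar ⇑Q z z'' = 0 := hc 0
  have h2 : polar ⇑Q z' z'' = 0 := hc 1
  refine rootIn_step hQ hn hW hk hPM hz'' hz' hz''Q hz'Q (by rw [polar_comm, h2]) ?_ hu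
    (rootIn_step hQ hn hW hk hPM hz hz'' hzQ hz''Q h1 ?_ hu h)
  · refine (LinearIndependent.pair_iff' hz''0).mpr fun c e => ?_
    refine hzz ?_
    rw [← e, polar_smul_right, h1, smul_zero]
  · refine (LinearIndependent.pair_iff' hz0).mpr fun c e => ?_
    rw [← e, polar_smul_right, smul_eq_mul] at h2
    rcases mul_eq_zero.mp h2 with hc0 | h'
    · exact hz''0 (by rw [← e, hc0, zero_smul])
    · exact hzz (by rw [polar_comm]; exact h')

/-- The stabiliser induces every isometry of the complement. -/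
theorem exists_stab_like (h : ↥(Cfsg.isometryGroup F ⇑Q))
    (hhW : ∀ w ∈ W, ((h : GL ι F) : Matrix ι ι F) *ᵥ w ∈ W)
    (hhU : ∀ u ∈ polarPerp Q W, ((h : GL ι F) : Matrix ι ι F) *ᵥ u ∈ polarPerp Q W) :
    ∃ g ∈ (Cfsg.Geo.subspaceStabilizer W ⊓ Cfsg.Geo.omegaGL ⇑Q), ∀ u ∈ polarPerp Q W, (g : Matrix ι ι F) *ᵥ u = ((h : GL ι F) : Matrix ι ι F) *ᵥ u := by
  obtain ⟨e, heW, he0, heQ, -⟩ := exists_singular_in (Q := Q) (W := W) (![] : Fin 0 → ι → F) (by omega)
  obtain ⟨f, hfW, hfQ, hef⟩ := exists_partner_in hQ hW heW he0 heQ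
  have hcov : ∀ x : ↥(Cfsg.isometryGroup F ⇑Q), ∃ s : ↥(Cfsg.isometryGroup F ⇑Q),
      Abelianization.of s = Abelianization.of x ∧
      (∀ w ∈ W, ((s : GL ι F) : Matrix ι ι F) *ᵥ w ∈ W) ∧
      (∀ u ∈ polarPerp Q W, ((s : GL ι F) : Matrix ι ι F) *ᵥ u = u) := by
    intro x
    induction x using Forms.isometry_induction hQ (Or.inr (by omega)) with
    | h1 => exact ⟨1, rfl, fun w hw => by simpa using hw, fun u _ => by simp⟩
    | hr v hv g hg =>
      obtain ⟨s, hs, hsW, hsU⟩ := hg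
      set w := e + Q v • f with hw
      have hwQ : Q w = Q v := by
        rw [hw, QuadraticMap.map_add (⇑Q), QuadraticMap.map_smul, heQ, hfQ, polar_smul_right, hef]
        simp
      have hwW : w ∈ W := W.add_mem heW (W.smul_mem _ hfW)
      have hw0 : Q w ≠ 0 := hwQ ▸ hv
      obtain ⟨c, hc⟩ := Forms.exists_conj_reflElem hQ hw0 hv hwQ
      refine ⟨Forms.reflElem hw0 * s, ?_, fun y hy => ?_, fun u hu => ?_⟩
      · rw [map_mul, map_mul, hs, ← hc, map_mul, map_mul, map_inv, mul_comm (Abelianization.of c),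
          mul_inv_cancel_right]
      · rw [Subgroup.coe_mul, Units.val_mul, ← mulVec_mulVec, Forms.reflElem_mulVec]
        exact W.sub_mem (hsW y hy) (W.smul_mem _ hwW)
      · rw [Subgroup.coe_mul, Units.val_mul, ← mulVec_mulVec, hsU u hu, Forms.reflElem_mulVec,
          mem_polarPerp.1 hu w hwW]
        simp
  obtain ⟨s, hs, hsW, hsU⟩ := hcov h⁻¹
  have hmem : s * h ∈ Cfsg.Omega F ⇑Q := by
    refine (QuotientGroup.eq_one_iff _).1 ?_
    show Abelianization.of (s * h) = 1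
    rw [map_mul, hs, ← map_mul, inv_mul_cancel, map_one]
  refine ⟨_, mem_stab_of hQ hn hW hk (Subgroup.mem_map_of_mem _ hmem) fun w hw => ?_, fun u hu => ?_⟩
  · rw [Subgroup.coe_subtype, Subgroup.coe_mul, Units.val_mul, ← mulVec_mulVec]
    exact hsW _ (hhW w hw)
  · rw [Subgroup.coe_subtype, Subgroup.coe_mul, Units.val_mul, ← mulVec_mulVec]
    exact hsU _ (hhU u hu)

/-- One link from `W` into the complement gives every Eichler element. -/
theorem full_of_link [Fintype F]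
    (hex : ¬ (Fintype.card F ≤ 3 ∧ Module.finrank F (polarPerp Q W) = 2 ∧
      Cfsg.Geo.IsPlusTypeOn (⇑Q) (polarPerp Q W)))
    (hPM : (Cfsg.Geo.subspaceStabilizer W ⊓ Cfsg.Geo.omegaGL ⇑Q) ≤ M) {e u₀ : ι → F} (he : e ∈ W) (he0 : e ≠ 0) (heQ : Q e = 0)
    (hu : u₀ ∈ polarPerp Q W) (hu0 : u₀ ≠ 0) (h : RootIn Q M e u₀) :
    Cfsg.Geo.omegaGL ⇑Q ≤ M := by
  have hU := nondegenerateOn_polarPerp hQ hW
  have hc := isCompl_polarPerp hQ hW
  let L : Submodule F (ι → F) :=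
    { carrier := {u | u ∈ polarPerp Q W ∧ RootIn Q M e u}
      zero_mem' := ⟨Submodule.zero_mem _, rootIn_zero heQ⟩
      add_mem' := fun {x y} hx hy => ⟨Submodule.add_mem _ hx.1 hy.1, hx.2.add hy.2⟩
      smul_mem' := fun c x hx => by
        refine ⟨Submodule.smul_mem _ c hx.1, ?_⟩
        by_cases hc0 : c = 0
        · rw [hc0, zero_smul]; exact rootIn_zero heQ
        · exact (rootIn_smul_iff hc0).1 (rootIn_move hQ hn hW hk hPM he (W.smul_mem c he) he0
            (smul_ne_zero hc0 he0) heQ (by rw [QuadraticMap.map_smul, heQ, smul_zero]) hx.1 hx.2) }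
  have hUL : polarPerp Q W ≤ L := by
    refine eq_of_value_closed hQ hU hex L (fun x hx => hx.1) ⟨hu, h⟩ hu0 ?_
    intro x hx y hy hx0 hy0 hxy
    refine ⟨hy, ?_⟩
    let Q' : QuadraticForm F ↥(polarPerp Q W) := Q.comp (polarPerp Q W).subtype
    have hQ'p : ∀ a b : ↥(polarPerp Q W), polar ⇑Q' a b = polar ⇑Q (a : ι → F) b := fun a b => rfl
    have hQ' : (QuadraticMap.polarBilin Q').Nondegenerate := by
      constructor
      · intro a ha
        by_contra ha0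
        obtain ⟨-, b, hb, hab⟩ := hU (a : ι → F) a.2 (fun h => ha0 (Subtype.ext h))
        exact hab (ha ⟨b, hb⟩)
      · intro a ha
        by_contra ha0
        obtain ⟨⟨b, hb, hab⟩, -⟩ := hU (a : ι → F) a.2 (fun h => ha0 (Subtype.ext h))
        exact hab (ha ⟨b, hb⟩)
    obtain ⟨T, hT, hTx⟩ := Forms.witt_family_quad hQ' ![(⟨x, hx.1⟩ : ↥(polarPerp Q W))] ![⟨y, hy⟩]
      (linearIndependent_unique_iff.mpr (fun h => hx0 (congrArg Subtype.val h)))
      (linearIndependent_unique_iff.mpr (fun h => hy0 (congrArg Subtype.val h)))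
      (fun i => by fin_cases i; exact hxy.symm)
      (fun i j => by
        fin_cases i; fin_cases j
        show polar ⇑Q' (⟨x, hx.1⟩ : ↥(polarPerp Q W)) ⟨x, hx.1⟩ = polar ⇑Q' ⟨y, hy⟩ ⟨y, hy⟩
        rw [hQ'p, hQ'p, polar_self, polar_self]
        show _ • Q x = _ • Q y
        rw [hxy])
    let P' := Submodule.prodEquivOfIsCompl W (polarPerp Q W) hc
    let h' := P'.symm ≪≫ₗ ((LinearEquiv.refl F W).prodCongr T) ≪≫ₗ P'
    have happ : ∀ (a : W) (b : ↥(polarPerp Q W)), h' ((a : ι → F) + b) = (a : ι → F) + (T b : ι → F) := by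
      intro a b
      have hs : P'.symm ((a : ι → F) + b) = (a, b) := by
        rw [LinearEquiv.symm_apply_eq]
        simp [P']
      simp only [h', LinearEquiv.trans_apply, hs]
      simp [P']
    have hh' : ∀ v, Q (h' v) = Q v := by
      intro v
      obtain ⟨a, ha, b, hb, rfl⟩ := exists_split hQ hW v
      rw [happ ⟨a, ha⟩ ⟨b, hb⟩, QuadraticMap.map_add (⇑Q), QuadraticMap.map_add (⇑Q),
        mem_polarPerp.1 (T ⟨b, hb⟩).2 a ha, mem_polarPerp.1 hb a ha]
      congr 2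
      exact hT ⟨b, hb⟩
    have hapW : ∀ w ∈ W, h' w = w := fun w hw => by
      have := happ ⟨w, hw⟩ 0
      simpa using this
    have hapU : ∀ b (hb : b ∈ polarPerp Q W), h' b = (T ⟨b, hb⟩ : ι → F) := fun b hb => by
      have := happ 0 ⟨b, hb⟩
      simpa using this
    obtain ⟨g, hg, hgU⟩ := exists_stab_like hQ hn hW hk (Forms.isoMk h' hh')
      (fun w hw => by rw [Forms.isoMk_mulVec, hapW w hw]; exact hw)
      (fun b hb => by rw [Forms.isoMk_mulVec, hapU b hb]; exact (T ⟨b, hb⟩).2)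
    have hgiso : ∀ z, Q ((g : Matrix ι ι F) *ᵥ z) = Q z := by
      obtain ⟨g', -, rfl⟩ := hg.2
      exact Orth.mem_isometryGroup_iff.1 g'.2
    have hgx : (g : Matrix ι ι F) *ᵥ x = y := by
      rw [hgU x hx.1, Forms.isoMk_mulVec, hapU x hx.1]
      exact congrArg Subtype.val (hTx 0)
    have hge : (g : Matrix ι ι F) *ᵥ e ∈ W := by
      have := (Forms.mem_stabilizing_submodule_iff (toMat := Cfsg.glToMat ι F) W).1 hg.1 e he
      simpa using this
    have hm := hx.2.map (hPM hg) hgiso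
    rw [hgx] at hm
    refine rootIn_move hQ hn hW hk hPM hge he (fun h0 => he0 ?_) he0 (by rw [hgiso, heQ]) heQ hy hm
    have := congrArg (fun z => ((g⁻¹ : GL ι F) : Matrix ι ι F) *ᵥ z) h0
    simpa using this
  have hfull : ∀ z ∈ W, z ≠ 0 → Q z = 0 → Full Q M z := by
    intro z hz hz0 hzQ a hzQ' hza
    obtain ⟨a₁, ha₁, a₂, ha₂, rfl⟩ := exists_split hQ hW a
    have h2 := rootIn_move hQ hn hW hk hPM he hz he0 hz0 heQ hzQ ha₂ (hUL ha₂).2
    have h1 : RootIn Q M z a₁ := by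
      have hz1 : polar ⇑Q z a₁ = 0 := by
        rwa [polar_add_right, mem_polarPerp.1 ha₂ z hz, add_zero] at hza
      obtain ⟨p, q, hm⟩ := rootIn_stab hQ hn hW hk hz ha₁ hzQ hz1
      exact ⟨p, q, hPM hm⟩
    obtain ⟨_, _, hm⟩ := h1.add h2
    exact hm
  obtain ⟨f, hf, hfQ, hef⟩ := exists_partner_in hQ hW he he0 heQ
  have hf0 : f ≠ 0 := fun h => by rw [h, polar_zero_right] at hef; exact zero_ne_one hef
  refine omega_le_of_eichler hQ hn fun x a hx ha => ?_
  by_cases hx0 : x = 0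
  · subst hx0
    convert M.one_mem
    refine gl_ext' fun y => ?_
    rw [eichlerGL_mulVec]; simp
  exact full_all hQ (hfull e he he0 heQ) (hfull f hf hf0 hfQ) heQ hfQ
    (by rw [hef]; exact one_ne_zero) hx hx0 a hx ha

/-- A root element with a skew centre gives a link. -/
theorem exists_link (hPM : (Cfsg.Geo.subspaceStabilizer W ⊓ Cfsg.Geo.omegaGL ⇑Q) ≤ M) {x₁ x₂ : ι → F} (hx₁ : x₁ ∈ W) (hx₂ : x₂ ∈ polarPerp Q W)
    (hx₁0 : x₁ ≠ 0) (hx₂0 : x₂ ≠ 0) {g : GL ι F} (hgM : g ∈ M)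
    (hg : ∀ y, Q ((g : Matrix ι ι F) *ᵥ y) = Q y) {e : ι → F} (he : e ∈ W) (heQ : Q e = 0)
    (hge : (g : Matrix ι ι F) *ᵥ e = x₁ + x₂) :
    ∃ e' u, e' ∈ W ∧ e' ≠ 0 ∧ Q e' = 0 ∧ u ∈ polarPerp Q W ∧ u ≠ 0 ∧ RootIn Q M e' u := by
  obtain ⟨r, hr, hxr⟩ := exists_polar_in hQ hW (u := ![x₁])
    (linearIndependent_unique_iff.mpr (by simpa using hx₁0)) (fun i => by fin_cases i; simpa using hx₁) ![1]
  have hxr1 : polar ⇑Q x₁ r = 1 := hxr 0
  obtain ⟨e', he', he'0, he'Q, hc⟩ := exists_singular_in (Q := Q) (W := W) ![x₁, r] (by omega)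
  have hc1 : polar ⇑Q x₁ e' = 0 := hc 0
  have hc2 : polar ⇑Q r e' = 0 := hc 1
  set x := x₁ + x₂ with hx
  have hinv : ∀ y, (g : Matrix ι ι F) *ᵥ (((g⁻¹ : GL ι F) : Matrix ι ι F) *ᵥ y) = y := fun y => by
    rw [mulVec_mulVec, Units.mul_inv, one_mulVec]
  -- a vector of `W` whose image gives the transformation
  obtain ⟨a₀, ha₀, ha₀e, ha₀e', ha₀s⟩ : ∃ a ∈ W, polar ⇑Q e a = 0 ∧
      polar ⇑Q ((g : Matrix ι ι F) *ᵥ a) e' = 0 ∧
      (g : Matrix ι ι F) *ᵥ a ∉ Submodule.span F (Set.range ![x, x₁, e']) := by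
    let K := (FormMax.OrthSL.conds Q ![e, ((g⁻¹ : GL ι F) : Matrix ι ι F) *ᵥ e']).ker ⊓ W
    let S := (Submodule.span F (Set.range ![x, x₁, e'])).comap (Matrix.mulVecLin (g : Matrix ι ι F))
    have hK : 4 ≤ Module.finrank F K := by
      have h1 := (FormMax.OrthSL.conds Q ![e, ((g⁻¹ : GL ι F) : Matrix ι ι F) *ᵥ e']).finrank_range_add_finrank_ker
      have h3 := Submodule.finrank_le
        (FormMax.OrthSL.conds Q ![e, ((g⁻¹ : GL ι F) : Matrix ι ι F) *ᵥ e']).range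
      rw [Module.finrank_fin_fun] at h3
      have h4 := Submodule.finrank_sup_add_finrank_inf_eq
        (FormMax.OrthSL.conds Q ![e, ((g⁻¹ : GL ι F) : Matrix ι ι F) *ᵥ e']).ker W
      have h5 := Submodule.finrank_le
        ((FormMax.OrthSL.conds Q ![e, ((g⁻¹ : GL ι F) : Matrix ι ι F) *ᵥ e']).ker ⊔ W)
      show 4 ≤ Module.finrank F ↥((FormMax.OrthSL.conds Q ![e, ((g⁻¹ : GL ι F) : Matrix ι ι F) *ᵥ e']).ker ⊓ W)
      omega
    have hS : Module.finrank F S ≤ 3 := by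
      have hinj : Function.Injective (Matrix.mulVecLin (g : Matrix ι ι F)) := fun a b h => by
        have := congrArg (fun z => ((g⁻¹ : GL ι F) : Matrix ι ι F) *ᵥ z) h
        simpa using this
      have h1 : Module.finrank F (Submodule.span F (Set.range ![x, x₁, e'])) ≤ 3 := by
        simpa [Set.finrank] using finrank_range_le_card (R := F) ![x, x₁, e']
      rw [(Submodule.equivMapOfInjective _ hinj S).finrank_eq]
      exact le_trans (Submodule.finrank_mono (Submodule.map_comap_le _ _)) h1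
    obtain ⟨a, ha, haS⟩ := SetLike.not_le_iff_exists.1 (fun h : K ≤ S => by
      have := Submodule.finrank_mono h
      omega)
    obtain ⟨ha1, ha2⟩ := Submodule.mem_inf.1 ha
    refine ⟨a, ha2, FormMax.OrthSL.conds_eq (LinearMap.mem_ker.1 ha1) 0, ?_, haS⟩
    have h := FormMax.OrthSL.conds_eq (LinearMap.mem_ker.1 ha1) 1
    rw [Matrix.cons_val_one, Matrix.cons_val_zero, ← polar_of_iso hg, hinv, polar_comm] at h
    exact h
  set b := (g : Matrix ι ι F) *ᵥ a₀ with hb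
  have hxb : RootIn Q M x b := by
    rw [← hge]
    obtain ⟨p, q, hm⟩ := rootIn_stab hQ hn hW hk he ha₀ heQ ha₀e
    exact RootIn.map (M := M) hgM hg ⟨p, q, hPM hm⟩
  obtain ⟨hxQ, hxb0, hTM⟩ := hxb
  have hxe' : polar ⇑Q x e' = 0 := by
    rw [hx, polar_add_left, hc1, polar_comm _ x₂ e', mem_polarPerp.1 hx₂ e' he', add_zero]
  set T := eichlerGL Q x b hxQ hxb0 with hT
  have hTe : (T : Matrix ι ι F) *ᵥ e' = e' := by
    rw [hT, eichlerGL_mulVec, hxe', ha₀e']
    simp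
  -- a test vector in `W` moved off `W`
  obtain ⟨a', ha', ha'e, y₁, hy₁, y₂, hy₂, hy₂0, hy⟩ : ∃ a', a' ∈ W ∧ polar ⇑Q e' a' = 0 ∧
      ∃ y₁ ∈ W, ∃ y₂ ∈ polarPerp Q W, y₂ ≠ 0 ∧ (T : Matrix ι ι F) *ᵥ a' = y₁ + y₂ := by
    obtain ⟨b₁, hb₁, b₂, hb₂, hb12⟩ := exists_split hQ hW b
    have hli2 : LinearIndependent F ![x₁, e'] := (LinearIndependent.pair_iff' hx₁0).mpr fun c h => by
      rw [← h, polar_smul_right, polar_comm _ r x₁, hxr1, smul_eq_mul, mul_one] at hc2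
      exact he'0 (by rw [← h, hc2, zero_smul])
    by_cases hlam : ∃ l : F, b₂ = l • x₂
    swap
    · obtain ⟨a', ha', hi⟩ := exists_polar_in hQ hW hli2
        (fun i => by fin_cases i <;> simp [hx₁, he']) ![1, 0]
      have i1 : polar ⇑Q x₁ a' = 1 := hi 0
      have i2 : polar ⇑Q e' a' = 0 := hi 1
      have hpx : polar ⇑Q x a' = 1 := by
        rw [hx, polar_add_left, i1, polar_comm _ x₂ a', mem_polarPerp.1 hx₂ a' ha', add_zero]
      set c := polar ⇑Q b a' + Q b * 1 with hcdef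
      refine ⟨a', ha', i2, a' + b₁ - c • x₁, W.sub_mem (W.add_mem ha' hb₁) (W.smul_mem _ hx₁),
        b₂ - c • x₂, Submodule.sub_mem _ hb₂ (Submodule.smul_mem _ _ hx₂),
        fun h => hlam ⟨c, sub_eq_zero.1 h⟩, ?_⟩
      rw [hT, eichlerGL_mulVec, hpx, one_smul, ← hcdef, hb12, hx]
      module
    obtain ⟨l, hl⟩ := hlam
    set w := b₁ - l • x₁ with hw
    have hwW : w ∈ W := W.sub_mem hb₁ (W.smul_mem _ hx₁)
    have hbw : b = w + l • x := by rw [hb12, hl, hw, hx]; module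
    have hwn : w ∉ Submodule.span F (Set.range ![x₁, e']) := fun h => ha₀s (by
      rw [hbw]
      refine Submodule.add_mem _ (Submodule.span_mono ?_ h) (Submodule.smul_mem _ _
        (Submodule.subset_span ⟨0, rfl⟩))
      rintro z ⟨i, rfl⟩
      exact ⟨i.succ, rfl⟩)
    have hli3 : LinearIndependent F ![w, x₁, e'] := linearIndependent_fin_cons.mpr ⟨hli2, hwn⟩
    obtain ⟨a', ha', hi⟩ := exists_polar_in hQ hW hli3
      (fun i => by fin_cases i <;> simp [hwW, hx₁, he']) ![1 - Q w, 1, 0]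
    have i0 : polar ⇑Q w a' = 1 - Q w := hi 0
    have i1 : polar ⇑Q x₁ a' = 1 := hi 1
    have i2 : polar ⇑Q e' a' = 0 := hi 2
    have hpx : polar ⇑Q x a' = 1 := by
      rw [hx, polar_add_left, i1, polar_comm _ x₂ a', mem_polarPerp.1 hx₂ a' ha', add_zero]
    have hxw : polar ⇑Q x w = 0 := by
      rw [hbw, polar_add_right, polar_smul_right, Orth.polar_self_zero hxQ, smul_zero, add_zero] at hxb0
      exact hxb0
    refine ⟨a', ha', i2, a' + w - x₁, W.sub_mem (W.add_mem ha' hwW) hx₁, -x₂,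
      Submodule.neg_mem _ hx₂, neg_ne_zero.mpr hx₂0, ?_⟩
    rw [hT, eichlerGL_mulVec, hpx, one_smul, hbw, QuadraticMap.map_add (⇑Q) w (l • x), QuadraticMap.map_smul,
      polar_smul_right, polar_comm _ w x, hxw, hxQ, polar_add_left, i0, polar_smul_left, hpx, hx]
    simp only [smul_eq_mul]
    module
  obtain ⟨p, q, hm⟩ := rootIn_stab hQ hn hW hk he' ha' he'Q ha'e
  have h1 := RootIn.map (M := M) hTM (Q_eichlerGL hxQ hxb0) ⟨p, q, hPM hm⟩
  rw [hTe, hy] at h1
  have h3 : polar ⇑Q e' (-y₁) = 0 := by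
    obtain ⟨_, hh, _⟩ := h1
    rw [polar_add_right, mem_polarPerp.1 hy₂ e' he', add_zero] at hh
    rw [polar_neg_right, hh, neg_zero]
  obtain ⟨p', q', hm'⟩ := rootIn_stab hQ hn hW hk he' (W.neg_mem hy₁) he'Q h3
  have h4 := h1.add ⟨p', q', hPM hm'⟩
  rw [show y₁ + y₂ + -y₁ = y₂ by abel] at h4
  exact ⟨e', y₂, he', he'0, he'Q, hy₂, hy₂0, h4⟩

theorem isMaximalIn_nondeg [Fintype F] (hW1 : W ≠ ⊤) (hbig : Fintype.card ι ≤ 2 * Module.finrank F W)
    (hswap : 2 * Module.finrank F W = Fintype.card ι → ∀ g ∈ Cfsg.Geo.omegaGL ⇑Q,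
      ¬ ∀ w ∈ W, (g : Matrix ι ι F) *ᵥ w ∈ polarPerp Q W)
    (hex : ¬ (Fintype.card F ≤ 3 ∧ Module.finrank F (polarPerp Q W) = 2 ∧
      Cfsg.Geo.IsPlusTypeOn (⇑Q) (polarPerp Q W))) :
    Cfsg.Geo.IsMaximalIn (Cfsg.Geo.omegaGL ⇑Q)
      (Cfsg.Geo.subspaceStabilizer W ⊓ Cfsg.Geo.omegaGL ⇑Q) := by
  have hdU := finrank_polarPerp hQ W
  obtain ⟨e, he, he0, heQ, -⟩ := exists_singular_in (Q := Q) (W := W) (![] : Fin 0 → ι → F) (by omega)
  refine ⟨lt_of_le_of_ne inf_le_right fun heq => ?_, fun M hPM hMK => ?_⟩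
  · have hU0 : polarPerp Q W ≠ ⊥ := fun h => by
      rw [h, finrank_bot] at hdU
      refine hW1 (Submodule.eq_top_of_finrank_eq ?_)
      have := Submodule.finrank_le W
      rw [Module.finrank_fintype_fun_eq_card] at this ⊢
      omega
    obtain ⟨u, hu, hu0⟩ := (polarPerp Q W).ne_bot_iff.mp hU0
    obtain ⟨f, hf, hfQ, hef⟩ := exists_partner_in hQ hW he he0 heQ
    have heu := mem_polarPerp.1 hu e he
    have hm := (Forms.mem_stabilizing_submodule_iff (toMat := Cfsg.glToMat ι F) W).1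
      (show eichlerGL Q e u heQ heu ∈ Cfsg.Geo.subspaceStabilizer W ⊓ Cfsg.Geo.omegaGL ⇑Q by
        rw [heq]; exact E_mem_omega hQ hn heQ heu).1 f hf
    simp only [Units.coeHom_apply] at hm
    rw [eichlerGL_mulVec, hef, one_smul] at hm
    have huW : u ∈ W := by
      have := W.add_mem (W.sub_mem hm hf) (W.smul_mem (polar ⇑Q u f + Q u * 1) he)
      convert this using 1
      abel
    exact hu0 (Submodule.disjoint_def.1 (isCompl_polarPerp hQ hW).disjoint u huW hu)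
  by_cases hMP : M ≤ Cfsg.Geo.subspaceStabilizer W ⊓ Cfsg.Geo.omegaGL ⇑Q
  · exact Or.inl (le_antisymm hMP hPM)
  obtain ⟨g, hgM, hgP⟩ := SetLike.not_le_iff_exists.mp hMP
  refine Or.inr (le_antisymm hMK ?_)
  have hg : ∀ y, Q ((g : Matrix ι ι F) *ᵥ y) = Q y := by
    obtain ⟨g', -, rfl⟩ := hMK hgM
    exact Orth.mem_isometryGroup_iff.1 g'.2
  by_cases hmix : ∃ z ∈ W, Q z = 0 ∧
      (g : Matrix ι ι F) *ᵥ z ∉ W ∧ (g : Matrix ι ι F) *ᵥ z ∉ polarPerp Q W
  · obtain ⟨z, hz, hzQ, hz1, hz2⟩ := hmix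
    obtain ⟨x₁, hx₁, x₂, hx₂, hx⟩ := exists_split hQ hW ((g : Matrix ι ι F) *ᵥ z)
    obtain ⟨e', u, he', he'0, he'Q, hu, hu0, hl⟩ := exists_link hQ hn hW hk hPM hx₁ hx₂
      (fun h => hz2 (by rw [hx, h, zero_add]; exact hx₂))
      (fun h => hz1 (by rw [hx, h, add_zero]; exact hx₁)) hgM hg hz hzQ hx
    exact full_of_link hQ hn hW hk hex hPM he' he'0 he'Q hu hu0 hl
  push Not at hmix
  exfalso
  have hgne : ∀ z, z ≠ 0 → (g : Matrix ι ι F) *ᵥ z ≠ 0 := fun z hz h => hz (by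
    have := congrArg (fun y => ((g⁻¹ : GL ι F) : Matrix ι ι F) *ᵥ y) h
    simpa using this)
  -- non-orthogonal singular vectors go to the same side
  have hside : ∀ a b, a ∈ W → b ∈ W → Q a = 0 → Q b = 0 → polar ⇑Q a b ≠ 0 →
      (g : Matrix ι ι F) *ᵥ a ∈ W → (g : Matrix ι ι F) *ᵥ b ∈ W := by
    intro a b ha hb haQ hbQ hab hga
    by_contra hgb
    have := mem_polarPerp.1 (hmix b hb hbQ hgb) _ hga
    rw [polar_of_iso hg] at this
    exact hab this
  have hconn : ∀ a b, a ∈ W → b ∈ W → Q a = 0 → Q b = 0 → a ≠ 0 → b ≠ 0 →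
      (g : Matrix ι ι F) *ᵥ a ∈ W → (g : Matrix ι ι F) *ᵥ b ∈ W := by
    intro a b ha hb haQ hbQ ha0 hb0 hga
    by_cases hdep : ∃ c : F, b = c • a
    · obtain ⟨c, rfl⟩ := hdep
      rw [mulVec_smul]; exact W.smul_mem _ hga
    push Not at hdep
    by_cases hab : polar ⇑Q a b = 0
    swap
    · exact hside a b ha hb haQ hbQ hab hga
    obtain ⟨c, hc, hci⟩ := exists_polar_in hQ hW
      ((LinearIndependent.pair_iff' ha0).mpr fun t h => hdep t h.symm : LinearIndependent F ![a, b])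
      (fun i => by fin_cases i <;> simp [ha, hb]) ![1, 1]
    have c1 : polar ⇑Q a c = 1 := hci 0
    have c2 : polar ⇑Q b c = 1 := hci 1
    set z := c - Q c • a with hz
    have hzW : z ∈ W := W.sub_mem hc (W.smul_mem _ ha)
    have hzQ : Q z = 0 := by
      rw [hz, sub_eq_add_neg, QuadraticMap.map_add (⇑Q), QuadraticMap.map_neg, QuadraticMap.map_smul,
        polar_neg_right, polar_smul_right, polar_comm _ c a, c1, haQ]
      simp
    have haz : polar ⇑Q a z = 1 := by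
      rw [hz, polar_sub_right, polar_smul_right, Orth.polar_self_zero haQ, smul_zero, sub_zero, c1]
    have hzb : polar ⇑Q z b = 1 := by
      rw [hz, polar_sub_left, polar_smul_left, hab, smul_zero, sub_zero, polar_comm, c2]
    exact hside z b hzW hb hzQ hbQ (by rw [hzb]; exact one_ne_zero)
      (hside a z ha hzW haQ hzQ (by rw [haz]; exact one_ne_zero) hga)
  have hspan := le_span_singular hQ hW he he0 heQ
  by_cases hge : (g : Matrix ι ι F) *ᵥ e ∈ W
  · refine hgP (mem_stab_of hQ hn hW hk (hMK hgM) fun w hw => ?_)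
    refine (Submodule.span_le (p := W.comap (Matrix.mulVecLin (g : Matrix ι ι F)))).2 ?_ (hspan hw)
    rintro z ⟨hz, hzQ⟩
    by_cases hz0 : z = 0
    · rw [hz0]; exact Submodule.zero_mem _
    exact hconn e z he hz heQ hzQ he0 hz0 hge
  have hall : ∀ w ∈ W, (g : Matrix ι ι F) *ᵥ w ∈ polarPerp Q W := fun w hw => by
    refine (Submodule.span_le (p := (polarPerp Q W).comap (Matrix.mulVecLin (g : Matrix ι ι F)))).2 ?_
      (hspan hw)
    rintro z ⟨hz, hzQ⟩
    by_cases hz0 : z = 0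
    · rw [hz0]; exact Submodule.zero_mem _
    exact hmix z hz hzQ fun h => hge (hconn z e hz he hzQ heQ hz0 he0 h)
  refine hswap ?_ g (hMK hgM) hall
  have hinj : Function.Injective (Matrix.mulVecLin (g : Matrix ι ι F)) := fun a b h => by
    have := congrArg (fun z => ((g⁻¹ : GL ι F) : Matrix ι ι F) *ᵥ z) h
    simpa using this
  have h1 := Submodule.finrank_mono (Submodule.map_le_iff_le_comap.2 hall :
    W.map (Matrix.mulVecLin (g : Matrix ι ι F)) ≤ polarPerp Q W)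
  rw [← (Submodule.equivMapOfInjective _ hinj W).finrank_eq, hdU] at h1
  omega

end Six

variable {ι : Type} [Fintype ι] [DecidableEq ι] {F : Type*} [Field F] {Q : QuadraticForm F (ι → F)}

/-- The stabiliser of a non-degenerate subspace is maximal when the larger part has dimension at least six. -/
theorem isMaximalIn_nondegenerate_six [Fintype F] (hQ : (QuadraticMap.polarBilin Q).Nondegenerate)
    (hn : 7 ≤ Fintype.card ι) {W : Submodule F (ι → F)} (hW : IsNondegenerateOn (polar ⇑Q) W)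
    (hbig6 : 6 ≤ Module.finrank F W ∨ Module.finrank F W + 6 ≤ Fintype.card ι) (hW0 : W ≠ ⊥) (hW1 : W ≠ ⊤)
    (hswap : 2 * Module.finrank F W = Fintype.card ι → ∀ g : GL ι F,
      (∀ y, Q ((g : Matrix ι ι F) *ᵥ y) = Q y) → ¬ ∀ w ∈ W, (g : Matrix ι ι F) *ᵥ w ∈ polarPerp Q W)
    (hexW : ¬ (Fintype.card F ≤ 3 ∧ Module.finrank F W = 2 ∧ Cfsg.Geo.IsPlusTypeOn (⇑Q) W))
    (hexU : ¬ (Fintype.card F ≤ 3 ∧ Module.finrank F (polarPerp Q W) = 2 ∧
      Cfsg.Geo.IsPlusTypeOn (⇑Q) (polarPerp Q W))) :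
    Cfsg.Geo.IsMaximalIn (Cfsg.Geo.omegaGL ⇑Q)
      (Cfsg.Geo.subspaceStabilizer W ⊓ Cfsg.Geo.omegaGL ⇑Q) := by
  have hiso : ∀ g ∈ Cfsg.Geo.omegaGL ⇑Q, ∀ y, Q ((g : Matrix ι ι F) *ᵥ y) = Q y := by
    rintro _ ⟨g, -, rfl⟩ y
    exact Orth.mem_isometryGroup_iff.1 g.2 y
  have hdU := finrank_polarPerp hQ W
  have hdW := Submodule.finrank_le W
  rw [Module.finrank_fintype_fun_eq_card] at hdW
  by_cases hbig : Fintype.card ι ≤ 2 * Module.finrank F W
  · exact Six.isMaximalIn_nondeg hQ hn hW (by omega) hW1 hbig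
      (fun he g hg => hswap he g (hiso g hg)) hexU
  rw [stab_eq_perp hQ hW]
  refine Six.isMaximalIn_nondeg hQ hn (nondegenerateOn_polarPerp hQ hW) (by omega) (fun h => hW0 ?_)
    (by omega) (fun he => absurd he (by omega)) (by rwa [polarPerp_polarPerp hQ W])
  rw [h, finrank_top, Module.finrank_fintype_fun_eq_card] at hdU
  exact Submodule.finrank_eq_zero.1 (by omega)

end Cfsg.Agent.Lib.SingMax
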