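import Cfsg.Agent.Lib.SingMax.UnitaryPair

/-!
Maximality in `Ω` of the normaliser of a quadratic extension field acting by similarities.
-/

set_option autoImplicit false
set_option linter.unusedSectionVars false

namespace Cfsg.Agent.Lib.SingMax

open Matrix QuadraticMap
open Cfsg.Agent.Lib.FormMax.OrthSL (eichlerGL eichlerGL_mulVec Q_eichlerGL)
open Cfsg.Agent.Lib.MaxClass
open Cfsg.Geo (IsNondegenerateOn)

variable {ι : Type} [Fintype ι] [DecidableEq ι] {F : Type*} [Field F]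
  {Q : QuadraticForm F (ι → F)} {M : Subgroup (GL ι F)}

/-- The full root line of a singular pair lies in `M`. -/
def InLine (Q : QuadraticForm F (ι → F)) (M : Subgroup (GL ι F)) (x b : ι → F) : Prop :=
  ∀ s : F, RootIn Q M x (s • b)

theorem InLine.add {x b c : ι → F} (h : InLine Q M x b) (h' : InLine Q M x c) :
    InLine Q M x (b + c) := fun s => by rw [smul_add]; exact (h s).add (h' s)

theorem InLine.smul {x b : ι → F} (h : InLine Q M x b) (k : F) : InLine Q M x (k • b) :=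
  fun s => by rw [smul_smul]; exact h _

theorem InLine.sub {x b c : ι → F} (h : InLine Q M x b) (h' : InLine Q M x c) :
    InLine Q M x (b - c) := by
  rw [sub_eq_add_neg, ← neg_one_smul F c]
  exact h.add (h'.smul _)

theorem InLine.self {x : ι → F} (hx : Q x = 0) : InLine Q M x x := fun s => by
  refine ⟨hx, by rw [polar_smul_right, Orth.polar_self_zero hx, smul_zero], ?_⟩
  convert M.one_mem
  refine gl_ext' fun v => ?_
  rw [eichlerGL_mulVec, polar_smul_left, QuadraticMap.map_smul, hx]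
  simp only [smul_eq_mul, mul_zero, zero_mul, add_zero, smul_smul, mul_comm, Units.val_one, one_mulVec]
  module

theorem InLine.map {g : GL ι F} (hgM : g ∈ M) (hg : ∀ y, Q ((g : Matrix ι ι F) *ᵥ y) = Q y)
    {x b : ι → F} (h : InLine Q M x b) :
    InLine Q M ((g : Matrix ι ι F) *ᵥ x) ((g : Matrix ι ι F) *ᵥ b) := fun s => by
  have := (h s).map hgM hg
  rwa [mulVec_smul] at this

theorem InLine.symm {x b : ι → F} (h : InLine Q M x b) (hb : Q b = 0) : InLine Q M b x := fun s => by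
  obtain ⟨hx, hxb, hm⟩ := h (-s)
  have hbx : polar ⇑Q b (s • x) = 0 := by
    rw [polar_smul_right] at hxb ⊢
    rw [polar_comm, smul_eq_mul]
    rw [smul_eq_mul, neg_mul, neg_eq_zero] at hxb
    exact hxb
  refine ⟨hb, hbx, ?_⟩
  convert hm using 1
  refine gl_ext' fun v => ?_
  rw [eichlerGL_mulVec, eichlerGL_mulVec, polar_smul_left, polar_smul_left, QuadraticMap.map_smul,
    QuadraticMap.map_smul, hx, hb]
  simp only [smul_eq_mul]
  module

variable {T : (ι → F) →ₗ[F] (ι → F)} {a N : F} (h : KStr Q T a N)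
include h

theorem eichler_comm {u : ι → F} (huQ : Q u = 0) (s : F) (hp : polar ⇑Q u (s • T u) = 0) (v : ι → F) :
    T ((eichlerGL Q u (s • T u) huQ hp : Matrix ι ι F) *ᵥ v) =
      (eichlerGL Q u (s • T u) huQ hp : Matrix ι ι F) *ᵥ T v := by
  rw [eichlerGL_mulVec, eichlerGL_mulVec]
  simp only [map_sub, map_add, map_smul, h.sq, polar_smul_left, polar_sub_left, QuadraticMap.map_smul,
    h.norm, huQ, h.polar_right, smul_eq_mul]
  module

variable [Finite F] (hQ : (QuadraticMap.polarBilin Q).Nondegenerate) (hn : 13 ≤ Fintype.card ι)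
  (hM : ∀ u, Q u = 0 → InLine Q M u (T u))
include hQ hn hM

omit h hn hM in
theorem nondeg_top : IsNondegenerateOn (polar ⇑Q) (⊤ : Submodule F (ι → F)) := fun w _ hw0 => by
  have hex : ∃ x, polar ⇑Q w x ≠ 0 := by
    by_contra hc
    push Not at hc
    exact hw0 (hQ.1 w fun y => hc y)
  obtain ⟨x, hx⟩ := hex
  exact ⟨⟨x, trivial, by rwa [polar_comm]⟩, ⟨x, trivial, hx⟩⟩

/-- A transvection of the extension field moves a line member by a multiple of its centre. -/
theorem inLine_step {x b w : ι → F} (hb : InLine Q M x b) (hw : Q w = 0) (h1 : polar ⇑Q x w = 0)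
    (h2 : polar ⇑Q (T x) w = 0) :
    InLine Q M x (polar ⇑Q w b • T w - polar ⇑Q (T w) b • w) := by
  obtain ⟨hwQ, hwT, hm⟩ := hM w hw 1
  have hgx : (eichlerGL Q w ((1 : F) • T w) hwQ hwT : Matrix ι ι F) *ᵥ x = x := by
    rw [eichlerGL_mulVec, one_smul, polar_comm _ w x, h1, polar_comm _ (T w) x, h.polar_right, h1, h2]
    simp
  have h3 := hb.map hm (Q_eichlerGL hwQ hwT)
  rw [hgx] at h3
  have h4 := h3.sub hb
  rw [eichlerGL_mulVec, one_smul, h.norm, hw] at h4
  convert h4 using 1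
  simp only [mul_zero, zero_mul, add_zero]
  abel

omit hQ hn hM in
theorem norm_ne_zero {w : ι → F} (hw : w ≠ 0) {α β : F} (hαβ : α ≠ 0 ∨ β ≠ 0) :
    N * α * α - a * α * β + β * β ≠ 0 := by
  intro hD
  by_cases hα : α = 0
  · subst hα
    rcases hαβ with h' | h'
    · exact h' rfl
    · exact h' (mul_self_eq_zero.1 (by linear_combination hD))
  set k := β / α with hk
  have hkk : k * (a - k) = N := by
    rw [hk]
    field_simp
    linear_combination -hD
  have e : T (T w - (a - k) • w) = k • (T w - (a - k) • w) := by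
    rw [map_sub, map_smul, h.sq, ← hkk]
    module
  have h1 := sub_eq_zero.1 (h.noeig _ _ e)
  exact hw (h.noeig w _ h1)

theorem comp_le_line {x x' z : ι → F} (hp : KPair Q T ⊤ x x')
    (hz : z ∈ comp Q T ⊤ x x') (hz0 : z ≠ 0) (hzQ : Q z = 0) (hzL : InLine Q M x z) :
    ∀ u ∈ comp Q T ⊤ x x', InLine Q M x u := by
  have hT : ∀ v ∈ (⊤ : Submodule F (ι → F)), T v ∈ (⊤ : Submodule F (ι → F)) := fun _ _ => trivial
  set U := comp Q T ⊤ x x' with hU
  have hUT : ∀ v ∈ U, T v ∈ U := fun v hv => KPair.comp_map h hT hv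
  have hUnd : IsNondegenerateOn (polar ⇑Q) U := hp.comp_nondeg h hT (nondeg_top hQ)
  have hUd : 9 ≤ Module.finrank F U := by
    have := KPair.finrank_comp (x := x) (x' := x') h hT
    rw [finrank_top, Module.finrank_fintype_fun_eq_card, ← hU] at this
    omega
  have hstep : ∀ b w, InLine Q M x b → w ∈ U → Q w = 0 →
      InLine Q M x (polar ⇑Q w b • T w - polar ⇑Q (T w) b • w) := fun b w hb hw hwQ =>
    inLine_step h hQ hn hM hb hwQ (mem_comp.1 hw).2.1 (mem_comp.1 hw).2.2.1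
  obtain ⟨z', hpz⟩ := exists_kPair h hUT hQ hUnd hz hz0 hzQ
  obtain ⟨e1, e2, e3, e4, e5, e6, e7, e8, e9, e10⟩ := hpz.products h
  set U' := comp Q T U z z' with hU'
  have hU'T : ∀ v ∈ U', T v ∈ U' := fun v hv => KPair.comp_map h hUT hv
  have hU'le : U' ≤ U := KPair.comp_le h hUT
  have hU'd : 5 ≤ Module.finrank F U' := by
    have := KPair.finrank_comp (x := z) (x' := z') h hUT
    rw [← hU'] at this
    omega
  -- singular vectors of the inner complement
  have hin : ∀ u ∈ U', Q u = 0 → InLine Q M x u := by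
    have key : ∀ u ∈ U', Q u = 0 → InLine Q M x (T u - a • u) := by
      intro u hu huQ
      obtain ⟨-, u2, u3, u4, u5⟩ := mem_comp.1 hu
      have hQs : Q (z' + u) = 0 := by
        rw [QuadraticMap.map_add (⇑Q), hpz.sing', huQ, u4, add_zero, add_zero]
      have h1 := (hstep z (z' + u) hzL (U.add_mem hpz.mem' (hU'le hu)) hQs).sub
        (hstep z z' hzL hpz.mem' hpz.sing')
      have q1 : polar ⇑Q u z = 0 := by rw [polar_comm, u2]
      have q2 : polar ⇑Q (T u) z = 0 := by rw [polar_comm, h.polar_right, u2, u3]; ring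
      rw [map_add, polar_add_left, polar_add_left, q1, q2, e7, e9, add_zero, add_zero] at h1
      convert h1 using 1
      module
    intro u hu huQ
    have h1 := key (T u) (hU'T u hu) (by rw [h.norm, huQ, mul_zero])
    have h2 := h1.smul (-N)⁻¹
    have hN := h.N_ne_zero hz0
    convert h2 using 1
    rw [h.sq, show a • T u - N • u - a • T u = (-N) • u by module, smul_smul,
      inv_mul_cancel₀ (neg_ne_zero.2 hN), one_smul]
  obtain ⟨z₃, hz₃, hz₃0, hz₃Q, -⟩ :=
    exists_singular_in (Q := Q) (W := U') (![] : Fin 0 → ι → F) (by omega)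
  obtain ⟨z₄, hp₃⟩ := exists_kPair h hU'T hQ (hpz.comp_nondeg h hUT hUnd) hz₃ hz₃0 hz₃Q
  have hline : ∀ l ∈ U', Q l = 0 → ∀ w ∈ U, Q w = 0 → polar ⇑Q w l ≠ 0 ∨ polar ⇑Q (T w) l ≠ 0 →
      InLine Q M x w := by
    intro l hl hlQ w hw hwQ hne
    have hw0 : w ≠ 0 := fun e => by simp [e] at hne
    have h1 := hstep l w (hin l hl hlQ) hw hwQ
    have h2 := hstep (T l) w (hin _ (hU'T l hl) (by rw [h.norm, hlQ, mul_zero])) hw hwQ
    rw [h.polar_right, h.polarT] at h2
    set α := polar ⇑Q w l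
    set β := polar ⇑Q (T w) l
    have h3 := (((h1.smul (a * α - β)).sub (h2.smul α))).smul (N * α * α - a * α * β + β * β)⁻¹
    convert h3 using 1
    rw [show (a * α - β) • (α • T w - β • w) - α • ((a * α - β) • T w - (N * α) • w) =
      (N * α * α - a * α * β + β * β) • w by module, smul_smul,
      inv_mul_cancel₀ (norm_ne_zero h hw0 hne), one_smul]
  have hall : ∀ w ∈ U, Q w = 0 → InLine Q M x w := by
    intro w hw hwQ
    by_cases h4 : polar ⇑Q w z₄ ≠ 0 ∨ polar ⇑Q (T w) z₄ ≠ 0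
    · exact hline z₄ hp₃.mem' hp₃.sing' w hw hwQ h4
    by_cases h3 : polar ⇑Q w z₃ ≠ 0 ∨ polar ⇑Q (T w) z₃ ≠ 0
    · exact hline z₃ hz₃ hz₃Q w hw hwQ h3
    push Not at h3 h4
    have hws : InLine Q M x (w + z₃) := hline z₄ hp₃.mem' hp₃.sing' _ (U.add_mem hw (hU'le hz₃))
      (by rw [QuadraticMap.map_add (⇑Q), hwQ, hz₃Q, h3.1, add_zero, add_zero])
      (Or.inl (by rw [polar_add_left, h4.1, hp₃.one, zero_add]; exact one_ne_zero))
    simpa using hws.sub (hin z₃ hz₃ hz₃Q)
  let L : Submodule F (ι → F) :=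
    { carrier := {b | InLine Q M x b}
      zero_mem' := fun s => by rw [smul_zero]; exact rootIn_zero hp.sing
      add_mem' := fun hb hc => InLine.add hb hc
      smul_mem' := fun k b hb => InLine.smul hb k }
  exact fun u hu => (Submodule.span_le (p := L)).2 (fun w hw => hall w hw.1 hw.2)
    (le_span_singular hQ hUnd hz hz0 hzQ hu)

/-- A line which is not stable under the field gives all lines orthogonal to the `K`-line. -/
theorem inLine_perp {x y : ι → F} (hx0 : x ≠ 0) (hxQ : Q x = 0) (hy : InLine Q M x y)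
    (hyK : y ∉ kSpan T x) {q : ι → F} (h1 : polar ⇑Q x q = 0) (h2 : polar ⇑Q (T x) q = 0) :
    InLine Q M x q := by
  have hT : ∀ v ∈ (⊤ : Submodule F (ι → F)), T v ∈ (⊤ : Submodule F (ι → F)) := fun _ _ => trivial
  obtain ⟨x', hp⟩ := exists_kPair h hT hQ (nondeg_top hQ) trivial hx0 hxQ
  set U := comp Q T ⊤ x x' with hU
  have hUT : ∀ v ∈ U, T v ∈ U := fun v hv => KPair.comp_map h hT hv
  have hUnd : IsNondegenerateOn (polar ⇑Q) U := hp.comp_nondeg h hT (nondeg_top hQ)
  have hUd : 9 ≤ Module.finrank F U := by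
    have := KPair.finrank_comp (x := x) (x' := x') h hT
    rw [finrank_top, Module.finrank_fintype_fun_eq_card, ← hU] at this
    omega
  have hKx : ∀ k ∈ kSpan T x, InLine Q M x k := fun k hk => by
    obtain ⟨α, β, rfl⟩ := mem_kSpan.1 hk
    exact ((InLine.self hxQ).smul α).add ((hM x hxQ).smul β)
  obtain ⟨w₀, hw₀, hw₀0, hw₀Q, -⟩ :=
    exists_singular_in (Q := Q) (W := U) (![] : Fin 0 → ι → F) (by omega)
  have hne : ∀ w ∈ U, w ≠ 0 → ∀ α β : F, α ≠ 0 ∨ β ≠ 0 → α • T w - β • w ≠ 0 := by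
    intro w _ hw0 α β hαβ e
    obtain ⟨r1, r2⟩ := LinearIndependent.pair_iff.1 (h.li_pair hw0) (-β) α
      (by rw [← e]; module)
    rcases hαβ with h' | h'
    · exact h' r2
    · exact h' (neg_eq_zero.1 r1)
  obtain ⟨z, hz, hz0, hzQ, hzL⟩ : ∃ z ∈ U, z ≠ 0 ∧ Q z = 0 ∧ InLine Q M x z := by
    have hmk : ∀ w ∈ U, Q w = 0 → ∀ α β : F, α • T w - β • w ∈ U ∧ Q (α • T w - β • w) = 0 :=
      fun w hw hwQ α β => ⟨U.sub_mem (U.smul_mem _ (hUT w hw)) (U.smul_mem _ hw), by
        rw [sub_eq_add_neg, ← neg_smul, QuadraticMap.map_add (⇑Q), QuadraticMap.map_smul,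
          QuadraticMap.map_smul, polar_smul_left, polar_smul_right, h.norm, hwQ, polar_comm, h.selfp, hwQ]
        simp⟩
    obtain ⟨hyx0, hyx⟩ : polar ⇑Q x y = 0 ∧ True := by
      obtain ⟨-, hh, -⟩ := hy 1
      rw [one_smul] at hh
      exact ⟨hh, trivial⟩
    by_cases hTy : polar ⇑Q (T x) y = 0
    · obtain ⟨k, hk, u, hu, rfl⟩ := hp.split_perp h hT (y := y) trivial hyx0 hTy
      have hu0 : u ≠ 0 := fun e => hyK (by rw [e, add_zero]; exact hk)
      obtain ⟨w, hw, hwu⟩ : ∃ w ∈ {w | w ∈ U ∧ Q w = 0}, polar ⇑Q u w ≠ 0 := by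
        by_contra hc
        push Not at hc
        obtain ⟨-, r, hr, hur⟩ := hUnd u hu hu0
        exact hur ((Submodule.span_le (p := LinearMap.ker (QuadraticMap.polarBilin Q u))).2
          (fun w hw => hc w hw) (le_span_singular hQ hUnd hw₀ hw₀0 hw₀Q hr))
      have hl := inLine_step h hQ hn hM hy hw.2 (mem_comp.1 hw.1).2.1 (mem_comp.1 hw.1).2.2.1
      refine ⟨_, (hmk w hw.1 hw.2 _ _).1, hne w hw.1 (fun e => hwu (by rw [e, polar_zero_right])) _ _
        (Or.inl ?_), (hmk w hw.1 hw.2 _ _).2, hl⟩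
      obtain ⟨α, β, rfl⟩ := mem_kSpan.1 hk
      obtain ⟨-, w1, w2, -, -⟩ := mem_comp.1 hw.1
      rw [polar_comm, polar_add_left, polar_add_left, polar_smul_left, polar_smul_left, w1, w2]
      simpa using hwu
    by_cases hw₀y : polar ⇑Q (T w₀) y = 0
    swap
    · exact ⟨_, (hmk w₀ hw₀ hw₀Q _ _).1, hne w₀ hw₀ hw₀0 _ _ (Or.inr hw₀y), (hmk w₀ hw₀ hw₀Q _ _).2,
        inLine_step h hQ hn hM hy hw₀Q (mem_comp.1 hw₀).2.1 (mem_comp.1 hw₀).2.2.1⟩
    obtain ⟨-, w1, w2, -, -⟩ := mem_comp.1 hw₀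
    obtain ⟨e1, e2, e3, e4, e5, e6, e7, e8, e9, e10⟩ := hp.products h
    have hl := inLine_step h hQ hn hM hy (w := w₀ + x)
      (by rw [QuadraticMap.map_add (⇑Q), hw₀Q, hxQ, polar_comm, w1, add_zero, add_zero])
      (by rw [polar_add_right, w1, e1, add_zero]) (by rw [polar_add_right, w2, e5, add_zero])
    set α := polar ⇑Q (w₀ + x) y
    set β := polar ⇑Q (T (w₀ + x)) y with hβ
    have hl2 := hl.sub (((hM x hxQ).smul α).sub ((InLine.self hxQ).smul β))
    refine ⟨_, (hmk w₀ hw₀ hw₀Q α β).1, hne w₀ hw₀ hw₀0 α β (Or.inr ?_), (hmk w₀ hw₀ hw₀Q _ _).2, ?_⟩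
    · rw [hβ, map_add, polar_add_left, hw₀y, zero_add]; exact hTy
    · convert hl2 using 1
      rw [map_add]
      module
  obtain ⟨k, hk, u, hu, rfl⟩ := hp.split_perp h hT (y := q) trivial h1 h2
  exact (hKx k hk).add (comp_le_line h hQ hn hM hp hz hz0 hzQ hzL u hu)

/-- One line which is not stable under the field gives all Eichler elements. -/
theorem full_of_kLine {x y : ι → F} (hx0 : x ≠ 0) (hxQ : Q x = 0) (hy : InLine Q M x y)
    (hyK : y ∉ kSpan T x) : Full Q M x := by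
  have hT : ∀ v ∈ (⊤ : Submodule F (ι → F)), T v ∈ (⊤ : Submodule F (ι → F)) := fun _ _ => trivial
  obtain ⟨x', hp⟩ := exists_kPair h hT hQ (nondeg_top hQ) trivial hx0 hxQ
  obtain ⟨e1, e2, e3, e4, e5, e6, e7, e8, e9, e10⟩ := hp.products h
  set U := comp Q T ⊤ x x' with hU
  have hUT : ∀ v ∈ U, T v ∈ U := fun v hv => KPair.comp_map h hT hv
  have hUnd : IsNondegenerateOn (polar ⇑Q) U := hp.comp_nondeg h hT (nondeg_top hQ)
  have hUd : 9 ≤ Module.finrank F U := by
    have := KPair.finrank_comp (x := x) (x' := x') h hT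
    rw [finrank_top, Module.finrank_fintype_fun_eq_card, ← hU] at this
    omega
  obtain ⟨z, hz, hz0, hzQ, -⟩ := exists_singular_in (Q := Q) (W := U) (![] : Fin 0 → ι → F) (by omega)
  obtain ⟨-, z1, z2, z3, z4⟩ := mem_comp.1 hz
  have hxz : x ∉ kSpan T z := fun hm => by
    have hxU : x ∈ U := (Submodule.span_le (p := U)).2 (by
      rintro v (rfl | rfl)
      · exact hz
      · exact hUT z hz) hm
    have := (mem_comp.1 hxU).2.2.2.1
    rw [e7] at this
    exact one_ne_zero this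
  have hzx : InLine Q M z x := (inLine_perp h hQ hn hM hx0 hxQ hy hyK z1 z2).symm hzQ
  obtain ⟨z', hpz⟩ := exists_kPair h hUT hQ hUnd hz hz0 hzQ
  have hli : LinearIndependent F ![x, T x, z, T z] := by
    rw [Fintype.linearIndependent_iff]
    intro c hc
    rw [Fin.sum_univ_four] at hc
    obtain ⟨c0, c1, c2, c3⟩ := h.li_four hx0 (hp.not_mem_kSpan h hT hz hz0).1
      (α := c 0) (β := c 1) (γ := c 2) (δ := c 3) (by
        rw [← add_assoc]; exact hc)
    intro i; fin_cases i <;> assumption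
  obtain ⟨w, hw⟩ := Forms.exists_polar_eq hQ hli ![0, 1, 0, 0]
  have w1 : polar ⇑Q x w = 0 := hw 0
  have w2 : polar ⇑Q (T x) w = 1 := hw 1
  have w3 : polar ⇑Q z w = 0 := hw 2
  have w4 : polar ⇑Q (T z) w = 0 := hw 3
  obtain ⟨hzQ', hzw, hm⟩ := inLine_perp h hQ hn hM hz0 hzQ hzx hxz w3 w4 1
  obtain ⟨-, q1, q2, -, -⟩ := mem_comp.1 hpz.mem'
  have hq := (inLine_perp h hQ hn hM hx0 hxQ hy hyK q1 q2).map hm (Q_eichlerGL hzQ' hzw)
  have hgx : (eichlerGL Q z ((1 : F) • w) hzQ' hzw : Matrix ι ι F) *ᵥ x = x := by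
    rw [eichlerGL_mulVec, one_smul, polar_comm _ z x, z1, polar_comm _ w x, w1]
    simp
  set r := (eichlerGL Q z ((1 : F) • w) hzQ' hzw : Matrix ι ι F) *ᵥ z' with hr
  rw [hgx] at hq
  have r2 : polar ⇑Q (T x) r = 1 := by
    rw [hr, eichlerGL_mulVec, one_smul, hpz.one, one_smul, polar_sub_right, polar_add_right, q2, w2,
      polar_smul_right, z2]
    simp
  have r1 : polar ⇑Q x r = 0 := by
    rw [hr, eichlerGL_mulVec, one_smul, hpz.one, one_smul, polar_sub_right, polar_add_right, q1, w1,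
      polar_smul_right, z1]
    simp
  intro b hxQ' hb
  have h3 := (inLine_perp h hQ hn hM hx0 hxQ hy hyK (q := b - polar ⇑Q (T x) b • r)
    (by rw [polar_sub_right, polar_smul_right, hb, r1, smul_zero, sub_zero])
    (by rw [polar_sub_right, polar_smul_right, r2, smul_eq_mul, mul_one, sub_self])).add
    (hq.smul (polar ⇑Q (T x) b))
  rw [sub_add_cancel] at h3
  obtain ⟨_, hh, hmem⟩ := h3 1
  convert hmem using 1
  simp

theorem omega_le_of_kLine {x y : ι → F} (hx0 : x ≠ 0) (hxQ : Q x = 0) (hy : InLine Q M x y)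
    (hyK : y ∉ kSpan T x) : Cfsg.Geo.omegaGL ⇑Q ≤ M := by
  have hT : ∀ v ∈ (⊤ : Submodule F (ι → F)), T v ∈ (⊤ : Submodule F (ι → F)) := fun _ _ => trivial
  obtain ⟨x', hp⟩ := exists_kPair h hT hQ (nondeg_top hQ) trivial hx0 hxQ
  set U := comp Q T ⊤ x x' with hU
  have hUnd : IsNondegenerateOn (polar ⇑Q) U := hp.comp_nondeg h hT (nondeg_top hQ)
  have hUd : 9 ≤ Module.finrank F U := by
    have := KPair.finrank_comp (x := x) (x' := x') h hT
    rw [finrank_top, Module.finrank_fintype_fun_eq_card, ← hU] at this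
    omega
  have hUT : ∀ v ∈ U, T v ∈ U := fun v hv => KPair.comp_map h hT hv
  obtain ⟨z, hz, hz0, hzQ, -⟩ := exists_singular_in (Q := Q) (W := U) (![] : Fin 0 → ι → F) (by omega)
  obtain ⟨z', hz', hz'Q, hzz'⟩ := exists_partner_in hQ hUnd hz hz0 hzQ
  have hFull : ∀ v ∈ U, v ≠ 0 → Q v = 0 → Full Q M v := by
    intro v hv hv0 hvQ
    refine full_of_kLine h hQ hn hM hv0 hvQ ((inLine_perp h hQ hn hM hx0 hxQ hy hyK (mem_comp.1 hv).2.1
      (mem_comp.1 hv).2.2.1).symm hvQ) fun hm => ?_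
    have hxU : x ∈ U := (Submodule.span_le (p := U)).2 (by
      rintro u (rfl | rfl)
      · exact hv
      · exact hUT v hv) hm
    have := (mem_comp.1 hxU).2.2.2.1
    rw [(hp.products h).2.2.2.2.2.2.1] at this
    exact one_ne_zero this
  have hz'0 : z' ≠ 0 := fun e => by rw [e, polar_zero_right] at hzz'; exact zero_ne_one hzz'
  refine omega_le_of_eichler hQ (by omega) fun e b he hb => ?_
  by_cases he0 : e = 0
  · subst he0
    convert M.one_mem
    refine gl_ext' fun v => ?_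
    rw [eichlerGL_mulVec]; simp
  exact full_all hQ (hFull z hz hz0 hzQ) (hFull z' hz' hz'0 hz'Q) hzQ hz'Q
    (by rw [hzz']; exact one_ne_zero) he he0 b he hb

end Cfsg.Agent.Lib.SingMax
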