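import Cfsg.Agent.Lib.SingMax.Unitary

/-!
The normaliser of a unitary extension field is maximal in `Ω`.
-/

set_option autoImplicit false
set_option linter.unusedSectionVars false

namespace Cfsg.Agent.Lib.SingMax

open Matrix QuadraticMap
open Cfsg.Agent.Lib.FormMax.OrthSL (eichlerGL eichlerGL_mulVec Q_eichlerGL)
open Cfsg.Agent.Lib.MaxClass

variable {ι : Type} [Fintype ι] [DecidableEq ι] {F : Type*} [Field F] [Fintype F]
  {Q : QuadraticForm F (ι → F)}

/-- A quadratic subfield of similarities with non-trivial adjoint is described by one generator. -/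
theorem exists_kStr [Nonempty ι] (hQ : (QuadraticMap.polarBilin Q).Nondegenerate)
    (K : Subalgebra F (Matrix ι ι F)) (hK : Cfsg.Geo.IsFieldSubalgebra 2 K)
    (hac : Cfsg.Geo.IsAdjointClosedFor (QuadraticMap.polar ⇑Q) K)
    (hnsa : ¬ Cfsg.Geo.IsSelfAdjointFor (QuadraticMap.polar ⇑Q) K)
    (hsc : ∀ k ∈ K, ∃ c : F, ∀ v : ι → F, Q (k *ᵥ v) = c * Q v) :
    ∃ (θ : Matrix ι ι F) (a N : F), (∀ k : Matrix ι ι F, k ∈ K ↔ ∃ α β : F, α • 1 + β • θ = k) ∧
      KStr Q (Matrix.mulVecLin θ) a N := by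
  rw [Cfsg.Geo.IsSelfAdjointFor] at hnsa
  push Not at hnsa
  obtain ⟨θ, hθ, u₀, v₀, huv⟩ := hnsa
  have hext : ∀ A B : Matrix ι ι F, (∀ u v, polar ⇑Q u (A *ᵥ v) = polar ⇑Q u (B *ᵥ v)) → A = B := by
    intro A B hAB
    refine Matrix.ext_iff_mulVec.mpr fun v => sub_eq_zero.1 (hQ.2 _ fun u => ?_)
    rw [QuadraticMap.polarBilin_apply_apply, polar_sub_right, hAB u v, sub_self]
  have hns : ∀ c : F, θ ≠ c • 1 := fun c e => huv (by
    simp only [e, smul_mulVec, one_mulVec, polar_smul_left, polar_smul_right])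
  have h1 : (1 : Matrix ι ι F) ∈ K := K.one_mem
  have hli : LinearIndependent F ![(1 : Matrix ι ι F), θ] :=
    (LinearIndependent.pair_iff' one_ne_zero).mpr fun c e => hns c e.symm
  have hspan : ∀ k : Matrix ι ι F, k ∈ K ↔ ∃ α β : F, α • (1 : Matrix ι ι F) + β • θ = k := by
    intro k
    refine ⟨fun hk => ?_, fun ⟨α, β, e⟩ => e ▸ K.add_mem (K.smul_mem h1 α) (K.smul_mem hθ β)⟩
    have hle : Submodule.span F {(1 : Matrix ι ι F), θ} ≤ Subalgebra.toSubmodule K :=
      Submodule.span_le.2 (by rintro z (rfl | rfl) <;> assumption)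
    have heq : Submodule.span F {(1 : Matrix ι ι F), θ} = Subalgebra.toSubmodule K := by
      refine Submodule.eq_of_le_of_finrank_le hle ?_
      have h2 := finrank_span_eq_card hli
      rw [Matrix.range_cons, Matrix.range_cons, Matrix.range_empty, Set.union_empty, Set.singleton_union,
        Fintype.card_fin] at h2
      rw [h2, Subalgebra.finrank_toSubmodule, hK.finrank_eq]
    have hk' : k ∈ Submodule.span F {(1 : Matrix ι ι F), θ} := heq ▸ hk
    exact Submodule.mem_span_pair.1 hk'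
  -- the quadratic equation
  obtain ⟨γ, a, hsq⟩ := (hspan (θ * θ)).1 (K.mul_mem hθ hθ)
  set N := -γ with hN
  have hsqv : ∀ v : ι → F, θ *ᵥ (θ *ᵥ v) = a • (θ *ᵥ v) - N • v := fun v => by
    rw [mulVec_mulVec, ← hsq, add_mulVec, smul_mulVec, smul_mulVec, one_mulVec, hN]
    module
  have hnoeig : ∀ (v : ι → F) (k : F), θ *ᵥ v = k • v → v = 0 := by
    intro v k hv
    have hmem : θ - k • 1 ∈ K := K.sub_mem hθ (K.smul_mem h1 k)
    obtain ⟨y, hy, hyx⟩ := hK.inv _ hmem (sub_ne_zero.2 (hns k))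
    have h3 : (y * (θ - k • 1)) *ᵥ v = v := by
      rw [hK.comm y hy _ hmem, hyx, one_mulVec]
    rw [← h3, ← mulVec_mulVec, sub_mulVec, smul_mulVec, one_mulVec, hv, sub_self, mulVec_zero]
  -- the adjoint of the generator
  obtain ⟨θ', hθ', hadj0⟩ := hac θ hθ
  have hadj' : ∀ u v, polar ⇑Q (θ' *ᵥ u) v = polar ⇑Q u (θ *ᵥ v) := fun u v => by
    rw [polar_comm, ← hadj0, polar_comm]
  obtain ⟨s, t, hst⟩ := (hspan θ').1 hθ'
  have hne : θ' ≠ θ := fun e => huv (by rw [hadj0, e])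
  have hsq' : θ' * θ' = γ • 1 + a • θ' := by
    refine hext _ _ fun u v => ?_
    calc polar ⇑Q u ((θ' * θ') *ᵥ v) = polar ⇑Q ((θ * θ) *ᵥ u) v := by
          rw [← mulVec_mulVec, ← hadj0, ← hadj0, mulVec_mulVec]
      _ = polar ⇑Q u ((γ • 1 + a • θ') *ᵥ v) := by
          rw [← hsq, add_mulVec, add_mulVec, smul_mulVec, smul_mulVec, smul_mulVec, smul_mulVec,
            one_mulVec, one_mulVec, polar_add_left, polar_add_right, polar_smul_left, polar_smul_left,
            polar_smul_right, polar_smul_right, hadj0]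
  have hprod : (θ - θ') * (θ + θ' - a • 1) = 0 := by
    have hc := hK.comm θ' hθ' θ hθ
    have e : (θ - θ') * (θ + θ' - a • 1) =
        θ * θ - θ' * θ' + (θ * θ' - θ' * θ) - a • θ + a • θ' := by
      simp only [sub_mul, mul_add, mul_sub, mul_one, Matrix.mul_smul]
      module
    rw [e, hc, hsq', ← hsq]
    module
  have hsum : θ + θ' - a • (1 : Matrix ι ι F) = 0 := by
    obtain ⟨y, hy, hyx⟩ := hK.inv _ (K.sub_mem hθ hθ') (sub_ne_zero.2 (Ne.symm hne))
    have h3 := congrArg (y * ·) hprod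
    simp only [← mul_assoc, mul_zero] at h3
    rwa [hK.comm y hy _ (K.sub_mem hθ hθ'), hyx, one_mul] at h3
  have hadj : ∀ u v, polar ⇑Q (θ *ᵥ u) v + polar ⇑Q u (θ *ᵥ v) = a * polar ⇑Q u v := by
    intro u v
    rw [hadj0, ← polar_add_right, ← add_mulVec, add_comm, sub_eq_zero.1 hsum, smul_mulVec, one_mulVec,
      polar_smul_right, smul_eq_mul]
  have hpT : ∀ u v, polar ⇑Q (θ *ᵥ u) (θ *ᵥ v) = N * polar ⇑Q u v := by
    intro u v
    have h4 := hadj u (θ *ᵥ v)
    rw [hsqv v, polar_sub_right, polar_smul_right, polar_smul_right] at h4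
    simp only [smul_eq_mul] at h4
    linear_combination h4
  -- similarity multipliers
  obtain ⟨i⟩ := ‹Nonempty ι›
  have he : (Pi.single i 1 : ι → F) ≠ 0 := fun e => by simpa using congrFun e i
  obtain ⟨w₀, hw₀⟩ : ∃ w, polar ⇑Q (Pi.single i 1) w ≠ 0 := by
    by_contra hc
    push Not at hc
    exact he (hQ.1 _ fun y => hc y)
  have hmul : ∀ k ∈ K, ∀ d : F, (∀ u v, polar ⇑Q (k *ᵥ u) (k *ᵥ v) = d * polar ⇑Q u v) →
      ∀ v, Q (k *ᵥ v) = d * Q v := by
    intro k hk d hd v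
    obtain ⟨c, hc⟩ := hsc k hk
    have hcp : polar ⇑Q (k *ᵥ (Pi.single i 1)) (k *ᵥ w₀) = c * polar ⇑Q (Pi.single i 1) w₀ := by
      simp only [QuadraticMap.polar, ← mulVec_add, hc]
      ring
    rw [hd] at hcp
    rw [hc, mul_right_cancel₀ hw₀ hcp]
  refine ⟨θ, a, N, hspan, ⟨hsqv, hadj, fun u => ?_, fun u => hmul θ hθ N hpT u, hpT, hnoeig⟩⟩
  show polar ⇑Q u (θ *ᵥ u) = a * Q u
  have h5 := hmul (θ + 1) (K.add_mem hθ h1) (N + a + 1) (fun x y => by
    rw [add_mulVec, add_mulVec, one_mulVec, one_mulVec, polar_add_left, polar_add_right, polar_add_right,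
      hpT]
    linear_combination hadj x y) u
  rw [add_mulVec, one_mulVec, QuadraticMap.map_add (⇑Q), hmul θ hθ N hpT u, polar_comm] at h5
  linear_combination h5

theorem isMaximalIn_unitaryField (hQ : (QuadraticMap.polarBilin Q).Nondegenerate)
    (hn : 13 ≤ Fintype.card ι) (K : Subalgebra F (Matrix ι ι F)) (θ : Matrix ι ι F) {a N : F}
    (hspan : ∀ k : Matrix ι ι F, k ∈ K ↔ ∃ α β : F, α • 1 + β • θ = k)
    (h : KStr Q (Matrix.mulVecLin θ) a N) :
    Cfsg.Geo.IsMaximalIn (Cfsg.Geo.omegaGL ⇑Q)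
      (Cfsg.Geo.subalgebraNormalizer K ⊓ Cfsg.Geo.omegaGL ⇑Q) := by
  classical
  set T := Matrix.mulVecLin θ with hTdef
  set P := Cfsg.Geo.subalgebraNormalizer K ⊓ Cfsg.Geo.omegaGL ⇑Q with hP
  have hTm : ∀ v : ι → F, T v = θ *ᵥ v := fun v => rfl
  have hT : ∀ v ∈ (⊤ : Submodule F (ι → F)), T v ∈ (⊤ : Submodule F (ι → F)) := fun _ _ => trivial
  have hn' : 7 ≤ Fintype.card ι := by omega
  have hiso : ∀ g ∈ Cfsg.Geo.omegaGL ⇑Q, ∀ y, Q ((g : Matrix ι ι F) *ᵥ y) = Q y := by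
    rintro _ ⟨g, -, rfl⟩ y
    exact Orth.mem_isometryGroup_iff.1 g.2 y
  have hginv : ∀ (g : GL ι F) (v : ι → F),
      (g : Matrix ι ι F) *ᵥ (((g⁻¹ : GL ι F) : Matrix ι ι F) *ᵥ v) = v := fun g v => by
    rw [mulVec_mulVec, Units.mul_inv, one_mulVec]
  have hginv' : ∀ (g : GL ι F) (v : ι → F),
      ((g⁻¹ : GL ι F) : Matrix ι ι F) *ᵥ ((g : Matrix ι ι F) *ᵥ v) = v := fun g v => by
    rw [mulVec_mulVec, Units.inv_mul, one_mulVec]
  have hMP : ∀ u, Q u = 0 → InLine Q P u (T u) := by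
    intro u huQ s
    have hp : polar ⇑Q u (s • T u) = 0 := by rw [polar_smul_right, h.selfp, huQ, mul_zero, smul_zero]
    refine ⟨huQ, hp, ?_, E_mem_omega hQ hn' huQ hp⟩
    set g := eichlerGL Q u (s • T u) huQ hp
    have hc : (g : Matrix ι ι F) * θ = θ * (g : Matrix ι ι F) :=
      Matrix.ext_iff_mulVec.mpr fun v => by
        rw [← mulVec_mulVec, ← mulVec_mulVec]; exact (eichler_comm h huQ s hp v).symm
    have hc' : ((g⁻¹ : GL ι F) : Matrix ι ι F) * θ = θ * ((g⁻¹ : GL ι F) : Matrix ι ι F) := by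
      calc ((g⁻¹ : GL ι F) : Matrix ι ι F) * θ
          = ((g⁻¹ : GL ι F) : Matrix ι ι F) * ((θ * (g : Matrix ι ι F)) * ((g⁻¹ : GL ι F) : Matrix ι ι F)) := by
            rw [mul_assoc θ, Units.mul_inv, mul_one]
        _ = θ * ((g⁻¹ : GL ι F) : Matrix ι ι F) := by
            rw [← hc, ← mul_assoc, ← mul_assoc, Units.inv_mul, one_mul]
    intro k
    constructor
    · intro hk
      obtain ⟨α, β, rfl⟩ := (hspan k).1 hk
      rw [hspan]
      refine ⟨α, β, ?_⟩
      rw [mul_add, Matrix.mul_smul, Matrix.mul_smul, mul_one, hc, add_mul, Matrix.smul_mul, Matrix.smul_mul,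
        mul_assoc θ, Units.mul_inv, mul_one]
    · intro hk
      obtain ⟨α, β, e⟩ := (hspan _).1 hk
      rw [hspan]
      refine ⟨α, β, ?_⟩
      have e' := congrArg (fun m => ((g⁻¹ : GL ι F) : Matrix ι ι F) * m * (g : Matrix ι ι F)) e
      simp only [← mul_assoc, Units.inv_mul, one_mul] at e'
      rw [mul_assoc k, Units.inv_mul, mul_one] at e'
      rw [← e', mul_add, Matrix.mul_smul, Matrix.mul_smul, mul_one, hc', add_mul, Matrix.smul_mul,
        Matrix.smul_mul, mul_assoc θ, Units.inv_mul, mul_one]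
  -- a singular vector and its complement
  obtain ⟨x, -, hx0, hxQ, -⟩ := exists_singular_in (Q := Q) (W := ⊤) (![] : Fin 0 → ι → F)
    (by rw [finrank_top, Module.finrank_fintype_fun_eq_card]; omega)
  obtain ⟨x', hp⟩ := exists_kPair h hT hQ (nondeg_top hQ) trivial hx0 hxQ
  obtain ⟨e1, e2, e3, e4, e5, e6, e7, e8, e9, e10⟩ := hp.products h
  set U := comp Q T ⊤ x x' with hU
  have hUT : ∀ v ∈ U, T v ∈ U := fun v hv => KPair.comp_map h hT hv
  have hUnd := hp.comp_nondeg h hT (nondeg_top hQ)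
  have hUd : 9 ≤ Module.finrank F U := by
    have := KPair.finrank_comp (x := x) (x' := x') h hT
    rw [finrank_top, Module.finrank_fintype_fun_eq_card, ← hU] at this
    omega
  obtain ⟨u, hu, hu0, huQ, -⟩ := exists_singular_in (Q := Q) (W := U) (![] : Fin 0 → ι → F) (by omega)
  refine ⟨lt_of_le_of_ne inf_le_right fun heq => ?_, fun M hPM hMK => ?_⟩
  · obtain ⟨-, u1, u2, u3, u4⟩ := mem_comp.1 hu
    have hm : eichlerGL Q x u hxQ u1 ∈ P := heq ▸ E_mem_omega hQ hn' hxQ u1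
    set g := eichlerGL Q x u hxQ u1
    obtain ⟨α, β, e⟩ := (hspan _).1 ((hm.1 θ).1 ((hspan θ).2 ⟨0, 1, by simp⟩))
    have e' := congrArg (fun A => A *ᵥ ((g : Matrix ι ι F) *ᵥ x')) e
    try simp only at e'
    rw [add_mulVec, smul_mulVec, smul_mulVec, one_mulVec, ← mulVec_mulVec, hginv', ← mulVec_mulVec,
      eichlerGL_mulVec, eichlerGL_mulVec, hp.one, mulVec_sub, mulVec_add, mulVec_smul, mulVec_smul] at e'
    simp only [← hTm] at e'
    rw [e3, huQ, polar_comm (⇑Q) u x', u3] at e'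
    have q : polar ⇑Q u (T x') = 0 := by rw [polar_comm, u4]
    rw [q] at e'
    simp only [zero_mul, add_zero, zero_smul, sub_zero, one_smul] at e'
    have hU' : α • u + β • T u - a • u ∈ U :=
      U.sub_mem (U.add_mem (U.smul_mem _ hu) (U.smul_mem _ (hUT u hu))) (U.smul_mem _ hu)
    have heqv : α • u + β • T u - a • u = T x' - α • x' - β • T x' := by
      rw [sub_eq_sub_iff_add_eq_add] at *
      linear_combination (norm := module) e'
    obtain ⟨-, r1, r2, -, -⟩ := mem_comp.1 hU'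
    rw [heqv, polar_sub_right, polar_sub_right, polar_smul_right, polar_smul_right, hp.one, e3] at r1
    rw [heqv, polar_sub_right, polar_sub_right, polar_smul_right, polar_smul_right, hp.zero, e4] at r2
    simp only [smul_eq_mul, mul_one, mul_zero, sub_zero] at r1 r2
    have hN := h.N_ne_zero hx0
    have hβ : β = 1 := mul_right_cancel₀ hN (by rw [one_mul]; linear_combination -r2)
    have hα : α = 0 := by rw [hβ] at r1; linear_combination -r1
    rw [hα, hβ] at heqv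
    have h9 : T u - a • u = 0 := by linear_combination (norm := module) heqv
    exact hu0 (h.noeig u a (sub_eq_zero.1 h9))
  by_cases hle : M ≤ P
  · exact Or.inl (le_antisymm hle hPM)
  obtain ⟨g, hgM, hgP⟩ := SetLike.not_le_iff_exists.mp hle
  refine Or.inr (le_antisymm hMK ?_)
  have hg := hiso g (hMK hgM)
  have hM : ∀ v, Q v = 0 → InLine Q M v (T v) := fun v hv s => by
    obtain ⟨p, q, hm⟩ := hMP v hv s
    exact ⟨p, q, hPM hm⟩
  by_cases hstab : ∀ v, v ≠ 0 → Q v = 0 →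
      (g : Matrix ι ι F) *ᵥ T v ∈ kSpan T ((g : Matrix ι ι F) *ᵥ v)
  swap
  · push Not at hstab
    obtain ⟨v, hv0, hvQ, hv⟩ := hstab
    refine omega_le_of_kLine h hQ hn hM (fun e => hv0 ?_) (by rw [hg, hvQ])
      ((hM v hvQ).map hgM hg) hv
    rw [← hginv' g v, e, mulVec_zero]
  exfalso
  set S : (ι → F) →ₗ[F] (ι → F) :=
    (Matrix.mulVecLin (g : Matrix ι ι F)).comp (T.comp (Matrix.mulVecLin ((g⁻¹ : GL ι F) : Matrix ι ι F)))
    with hS
  have hSK : ∀ w, w ≠ 0 → Q w = 0 → ∃ α β : F, α • w + β • T w = S w := by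
    intro w hw0 hwQ
    have h7 := hstab (((g⁻¹ : GL ι F) : Matrix ι ι F) *ᵥ w)
      (fun e => hw0 (by rw [← hginv g w, e, mulVec_zero])) (by rw [← hg, hginv, hwQ])
    rw [hginv] at h7
    exact mem_kSpan.1 h7
  obtain ⟨α, β, hαβ⟩ := hSK x hx0 hxQ
  have hcoef : ∀ w, w ∉ kSpan T x → Q w = 0 → polar ⇑Q x w = 0 → S w = α • w + β • T w := by
    intro w hw hwQ hxw
    obtain ⟨γ, δ, hγ⟩ := hSK w (fun e => hw (e ▸ Submodule.zero_mem _)) hwQ
    obtain ⟨p, q, hpq⟩ := hSK (x + w) (fun e => hw (by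
      rw [eq_neg_of_add_eq_zero_right e]; exact Submodule.neg_mem _ (self_mem_kSpan x)))
      (by rw [QuadraticMap.map_add (⇑Q), hxQ, hwQ, hxw, add_zero, add_zero])
    rw [map_add, map_add, ← hαβ, ← hγ] at hpq
    obtain ⟨c0, c1, c2, c3⟩ := h.li_four hx0 hw (α := p - α) (β := q - β) (γ := p - γ) (δ := q - δ)
      (by linear_combination (norm := module) hpq)
    rw [← hγ, ← sub_eq_zero.1 c2, ← sub_eq_zero.1 c3, sub_eq_zero.1 c0, sub_eq_zero.1 c1]
  have hSU : ∀ w ∈ U, Q w = 0 → S w = α • w + β • T w := fun w hw hwQ => by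
    by_cases hw0 : w = 0
    · subst hw0; simp
    exact hcoef w (hp.not_mem_kSpan h hT hw hw0).1 hwQ (mem_comp.1 hw).2.1
  -- transfer the coefficients back to every singular vector orthogonal to one of the complement
  have hback : ∀ w, Q w = 0 → polar ⇑Q u w = 0 → u ∉ kSpan T w → w ≠ 0 → S w = α • w + β • T w := by
    intro w hwQ huw hwu hw0
    obtain ⟨γ, δ, hγ⟩ := hSK w hw0 hwQ
    obtain ⟨p, q, hpq⟩ := hSK (w + u) (fun e => hwu (by
      rw [eq_neg_of_add_eq_zero_right e]; exact Submodule.neg_mem _ (self_mem_kSpan w)))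
      (by rw [QuadraticMap.map_add (⇑Q), huQ, hwQ, polar_comm, huw, add_zero, add_zero])
    rw [map_add, map_add, hSU u hu huQ, ← hγ] at hpq
    obtain ⟨c0, c1, c2, c3⟩ := h.li_four hw0 hwu (α := p - γ) (β := q - δ) (γ := p - α) (δ := q - β)
      (by linear_combination (norm := module) hpq)
    rw [← hγ, ← sub_eq_zero.1 c2, ← sub_eq_zero.1 c3, sub_eq_zero.1 c0, sub_eq_zero.1 c1]
  obtain ⟨-, u1, u2, u3, u4⟩ := mem_comp.1 hu
  have hux := (hp.not_mem_kSpan h hT hu hu0).1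
  have hux' := (hp.not_mem_kSpan h hT hu hu0).2
  have hx'0 : x' ≠ 0 := fun e => by
    have := hp.one; rw [e, polar_zero_right] at this; exact zero_ne_one this
  have hTne : ∀ v, v ≠ 0 → T v ≠ 0 := fun v hv e => hv (h.noeig v 0 (by rw [e, zero_smul]))
  have hTspan : ∀ v, v ≠ 0 → u ∉ kSpan T v → u ∉ kSpan T (T v) := fun v _ huv hm => huv
    ((Submodule.span_le (p := kSpan T v)).2 (by
      rintro z (rfl | rfl)
      · exact map_mem_kSpan_self v
      · exact h.map_mem_kSpan (map_mem_kSpan_self v)) hm)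
  have sx := hback x hxQ (by rw [polar_comm, u1]) hux hx0
  have sTx := hback (T x) (by rw [h.norm, hxQ, mul_zero]) (by rw [polar_comm, u2]) (hTspan x hx0 hux) (hTne x hx0)
  have sx' := hback x' hp.sing' (by rw [polar_comm, u3]) hux' hx'0
  have sTx' := hback (T x') (by rw [h.norm, hp.sing', mul_zero]) (by rw [polar_comm, u4])
    (hTspan x' hx'0 hux') (hTne x' hx'0)
  have hSall : ∀ v, S v = α • v + β • T v := by
    intro v
    obtain ⟨k', hk', k, hk, w, hw, rfl⟩ := hp.split h hT (y := v) trivial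
    obtain ⟨p, q, rfl⟩ := mem_kSpan.1 hk'
    obtain ⟨p', q', rfl⟩ := mem_kSpan.1 hk
    have hwS : S w = α • w + β • T w := by
      have h' := (Submodule.span_le (p := LinearMap.ker (S - α • LinearMap.id - β • T))).2
        (fun z hz => by simp [hSU z hz.1 hz.2]) (le_span_singular hQ hUnd hu hu0 huQ hw)
      rw [LinearMap.mem_ker, LinearMap.sub_apply, LinearMap.sub_apply] at h'
      simp only [LinearMap.smul_apply, LinearMap.id_coe, id_eq] at h'
      linear_combination (norm := module) h'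
    simp only [map_add, map_smul, sx, sTx, sx', sTx', hwS]
    module
  refine hgP ⟨?_, hMK hgM⟩
  have hmaps : ∀ k ∈ K, (g : Matrix ι ι F) * k * ((g⁻¹ : GL ι F) : Matrix ι ι F) ∈ K := by
    intro k hk
    obtain ⟨p, q, rfl⟩ := (hspan k).1 hk
    refine (hspan _).2 ⟨p + q * α, q * β, Matrix.ext_iff_mulVec.mpr fun v => ?_⟩
    have hv := hSall v
    simp only [hS, LinearMap.comp_apply, mulVecLin_apply] at hv
    simp only [add_mulVec, smul_mulVec, one_mulVec, ← mulVec_mulVec, mulVec_add, mulVec_smul, hginv,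
      ← hTm]
    simp only [hTm] at hv ⊢
    rw [hv]
    module
  intro k
  refine ⟨hmaps k, fun hk => ?_⟩
  let φ : K → K := fun y => ⟨_, hmaps y.1 y.2⟩
  have hinj : Function.Injective φ := fun y z e => Subtype.ext (by
    have := congrArg (fun m : K => ((g⁻¹ : GL ι F) : Matrix ι ι F) * m.1 * (g : Matrix ι ι F)) e
    simpa [φ, ← mul_assoc, mul_assoc _ _ (g : Matrix ι ι F)] using this)
  haveI : Fintype K := Fintype.ofFinite K
  obtain ⟨y, hy⟩ := (Finite.injective_iff_surjective.1 hinj) ⟨_, hk⟩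
  have := congrArg (fun m : K => ((g⁻¹ : GL ι F) : Matrix ι ι F) * m.1 * (g : Matrix ι ι F)) hy
  have hyk : y.1 = k := by simpa [φ, ← mul_assoc, mul_assoc _ _ (g : Matrix ι ι F)] using this
  exact hyk ▸ y.2

end Cfsg.Agent.Lib.SingMax
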