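import Cfsg.Agent.Lib.SingMax.NonDeg

/-!
Orthogonal spaces with a compatible quadratic extension field: complements of `K`-hyperbolic pairs.
-/

set_option autoImplicit false
set_option linter.unusedSectionVars false

namespace Cfsg.Agent.Lib.SingMax

open Matrix QuadraticMap
open Cfsg.Agent.Lib.MaxClass
open Cfsg.Geo (IsNondegenerateOn)

variable {ι : Type} [Fintype ι] [DecidableEq ι] {F : Type*} [Field F]

/-- `T` generates a quadratic extension field acting by similarities, with the non-trivial adjoint. -/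
structure KStr (Q : QuadraticForm F (ι → F)) (T : (ι → F) →ₗ[F] (ι → F)) (a N : F) : Prop where
  sq : ∀ v : ι → F, T (T v) = a • T v - N • v
  adj : ∀ u v : ι → F, polar ⇑Q (T u) v + polar ⇑Q u (T v) = a * polar ⇑Q u v
  selfp : ∀ u : ι → F, polar ⇑Q u (T u) = a * Q u
  norm : ∀ u : ι → F, Q (T u) = N * Q u
  polarT : ∀ u v : ι → F, polar ⇑Q (T u) (T v) = N * polar ⇑Q u v
  noeig : ∀ (v : ι → F) (k : F), T v = k • v → v = 0

variable {Q : QuadraticForm F (ι → F)} {T : (ι → F) →ₗ[F] (ι → F)} {a N : F}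

/-- The `K`-line of a vector. -/
def kSpan (T : (ι → F) →ₗ[F] (ι → F)) (x : ι → F) : Submodule F (ι → F) :=
  Submodule.span F {x, T x}

theorem mem_kSpan {x v : ι → F} : v ∈ kSpan T x ↔ ∃ α β : F, α • x + β • T x = v :=
  Submodule.mem_span_pair

theorem self_mem_kSpan (x : ι → F) : x ∈ kSpan T x := Submodule.subset_span (by simp)

theorem map_mem_kSpan_self (x : ι → F) : T x ∈ kSpan T x := Submodule.subset_span (by simp)

variable (h : KStr Q T a N)
include h

theorem KStr.N_ne_zero {v : ι → F} (hv : v ≠ 0) : N ≠ 0 := by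
  intro hN
  have h1 := h.sq v
  rw [hN, zero_smul, sub_zero] at h1
  have h2 := h.noeig (T v) a h1
  exact hv (h.noeig v 0 (by rw [h2, zero_smul]))

theorem KStr.polar_right (u v : ι → F) : polar ⇑Q u (T v) = a * polar ⇑Q u v - polar ⇑Q (T u) v := by
  linear_combination h.adj u v

theorem KStr.map_mem_kSpan {x v : ι → F} (hv : v ∈ kSpan T x) : T v ∈ kSpan T x := by
  obtain ⟨α, β, rfl⟩ := mem_kSpan.1 hv
  rw [map_add, map_smul, map_smul, h.sq]
  exact Submodule.add_mem _ (Submodule.smul_mem _ _ (map_mem_kSpan_self x))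
    (Submodule.smul_mem _ _ (Submodule.sub_mem _ (Submodule.smul_mem _ _ (map_mem_kSpan_self x))
      (Submodule.smul_mem _ _ (self_mem_kSpan x))))

/-- A combination of `w, T w` lies in a `K`-line only if `w` does. -/
theorem KStr.kLine_inter {x w : ι → F} (hw : w ∉ kSpan T x) {α β : F}
    (hm : α • w + β • T w ∈ kSpan T x) : α = 0 ∧ β = 0 := by
  by_cases hβ : β = 0
  · subst hβ
    rw [zero_smul, add_zero] at hm
    refine ⟨?_, rfl⟩
    by_contra hα
    exact hw ((Submodule.smul_mem_iff _ hα).1 hm)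
  exfalso
  set k := α / β with hk
  have hm2 : T w + k • w ∈ kSpan T x := by
    have := Submodule.smul_mem _ β⁻¹ hm
    rw [smul_add, smul_smul, smul_smul, inv_mul_cancel₀ hβ, one_smul, add_comm] at this
    rwa [hk, div_eq_inv_mul]
  have e : T (T w + k • w) - (a + k) • (T w + k • w) = (-(N + k * (a + k))) • w := by
    rw [map_add, map_smul, h.sq]
    module
  have h0 : (-(N + k * (a + k))) • w ∈ kSpan T x :=
    e ▸ Submodule.sub_mem _ (h.map_mem_kSpan hm2) (Submodule.smul_mem _ _ hm2)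
  have hc : -(N + k * (a + k)) ≠ 0 := by
    intro hc
    rw [hc, zero_smul, sub_eq_zero] at e
    have h1 := h.noeig _ _ e
    have h2 := h.noeig w (-k) (by rw [neg_smul]; exact eq_neg_of_add_eq_zero_left h1)
    exact hw (h2 ▸ Submodule.zero_mem _)
  exact hw ((Submodule.smul_mem_iff _ hc).1 h0)

theorem KStr.li_pair {w : ι → F} (hw : w ≠ 0) : LinearIndependent F ![w, T w] := by
  refine (LinearIndependent.pair_iff' hw).mpr fun c hc => hw (h.noeig w c hc.symm)

theorem KStr.li_four {x w : ι → F} (hx : x ≠ 0) (hw : w ∉ kSpan T x) {α β γ δ : F}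
    (he : α • x + β • T x + (γ • w + δ • T w) = 0) : α = 0 ∧ β = 0 ∧ γ = 0 ∧ δ = 0 := by
  have hm : γ • w + δ • T w ∈ kSpan T x := by
    rw [eq_neg_of_add_eq_zero_right he]
    exact Submodule.neg_mem _ (Submodule.add_mem _ (Submodule.smul_mem _ _ (self_mem_kSpan x))
      (Submodule.smul_mem _ _ (map_mem_kSpan_self x)))
  obtain ⟨rfl, rfl⟩ := h.kLine_inter hw hm
  simp only [zero_smul, add_zero] at he
  obtain ⟨h1, h2⟩ := LinearIndependent.pair_iff.1 (h.li_pair hx) α β he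
  exact ⟨h1, h2, rfl, rfl⟩

omit h in
/-- The complement in `W` of the `K`-lines of a pair. -/
noncomputable def comp (Q : QuadraticForm F (ι → F)) (T : (ι → F) →ₗ[F] (ι → F))
    (W : Submodule F (ι → F)) (x x' : ι → F) : Submodule F (ι → F) :=
  W ⊓ LinearMap.ker (FormMax.OrthSL.conds Q ![x, T x, x', T x'])

omit h in
theorem mem_comp {W : Submodule F (ι → F)} {x x' v : ι → F} :
    v ∈ comp Q T W x x' ↔ v ∈ W ∧ polar ⇑Q x v = 0 ∧ polar ⇑Q (T x) v = 0 ∧
      polar ⇑Q x' v = 0 ∧ polar ⇑Q (T x') v = 0 := by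
  rw [comp, Submodule.mem_inf, LinearMap.mem_ker]
  constructor
  · rintro ⟨h1, h2⟩
    exact ⟨h1, FormMax.OrthSL.conds_eq h2 0, FormMax.OrthSL.conds_eq h2 1,
      FormMax.OrthSL.conds_eq h2 2, FormMax.OrthSL.conds_eq h2 3⟩
  · rintro ⟨h1, h2, h3, h4, h5⟩
    refine ⟨h1, funext fun i => ?_⟩
    fin_cases i
    exacts [h2, h3, h4, h5]

/-- A `K`-hyperbolic pair in `W`. -/
structure KPair (Q : QuadraticForm F (ι → F)) (T : (ι → F) →ₗ[F] (ι → F))
    (W : Submodule F (ι → F)) (x x' : ι → F) : Prop where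
  mem : x ∈ W
  mem' : x' ∈ W
  sing : Q x = 0
  sing' : Q x' = 0
  one : polar ⇑Q x x' = 1
  zero : polar ⇑Q (T x) x' = 0

variable {W : Submodule F (ι → F)} {x x' : ι → F}

theorem KPair.ne_zero (hp : KPair Q T W x x') : x ≠ 0 := fun e => by
  have := hp.one
  rw [e, polar_zero_left] at this
  exact zero_ne_one this

theorem KPair.products (hp : KPair Q T W x x') :
    polar ⇑Q x x = 0 ∧ polar ⇑Q x (T x) = 0 ∧ polar ⇑Q x (T x') = a ∧ polar ⇑Q (T x) (T x') = N ∧
      polar ⇑Q (T x) x = 0 ∧ polar ⇑Q (T x) (T x) = 0 ∧ polar ⇑Q x' x = 1 ∧ polar ⇑Q x' (T x) = 0 ∧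
      polar ⇑Q (T x') x = a ∧ polar ⇑Q (T x') (T x) = N := by
  have h1 : polar ⇑Q x x = 0 := Orth.polar_self_zero hp.sing
  have h2 : polar ⇑Q x (T x) = 0 := by rw [h.selfp, hp.sing, mul_zero]
  have h3 : polar ⇑Q x (T x') = a := by rw [h.polar_right, hp.one, hp.zero, mul_one, sub_zero]
  have h4 : polar ⇑Q (T x) (T x') = N := by rw [h.polarT, hp.one, mul_one]
  exact ⟨h1, h2, h3, h4, by rw [polar_comm, h2], by rw [h.polarT, h1, mul_zero],
    by rw [polar_comm, hp.one], by rw [polar_comm, hp.zero], by rw [polar_comm, h3],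
    by rw [polar_comm, h4]⟩

variable (hTW : ∀ v ∈ W, T v ∈ W)
include hTW

/-- Vectors orthogonal to `x, T x` split over the `K`-line of `x` and the complement. -/
theorem KPair.split_perp (hp : KPair Q T W x x') {y : ι → F} (hy : y ∈ W) (h1 : polar ⇑Q x y = 0)
    (h2 : polar ⇑Q (T x) y = 0) :
    ∃ k ∈ kSpan T x, ∃ u ∈ comp Q T W x x', y = k + u := by
  obtain ⟨e1, e2, e3, e4, e5, e6, e7, e8, e9, e10⟩ := hp.products h
  have hN := h.N_ne_zero (hp.ne_zero h)
  set α := polar ⇑Q x' y with hα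
  set β := (polar ⇑Q (T x') y - a * α) / N with hβ
  refine ⟨α • x + β • T x, mem_kSpan.2 ⟨α, β, rfl⟩, y - (α • x + β • T x), mem_comp.2 ⟨?_, ?_, ?_, ?_, ?_⟩,
    by abel⟩
  · exact W.sub_mem hy (W.add_mem (W.smul_mem _ hp.mem) (W.smul_mem _ (hTW _ hp.mem)))
  all_goals
    simp only [polar_sub_right, polar_add_right, polar_smul_right, smul_eq_mul, e1, e2, e5, e6, e7, e8, e9,
      e10, h1, h2]
  · ring
  · ring
  · rw [hα]; ring
  · rw [hβ]; field_simp; ring

theorem KPair.split (hp : KPair Q T W x x') {y : ι → F} (hy : y ∈ W) :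
    ∃ k' ∈ kSpan T x', ∃ k ∈ kSpan T x, ∃ u ∈ comp Q T W x x', y = k' + k + u := by
  obtain ⟨e1, e2, e3, e4, e5, e6, e7, e8, e9, e10⟩ := hp.products h
  have hN := h.N_ne_zero (hp.ne_zero h)
  set γ := polar ⇑Q (T x) y / N with hγ
  set k' := (polar ⇑Q x y - a * γ) • x' + γ • T x' with hk'
  obtain ⟨k, hk, u, hu, e⟩ := hp.split_perp h hTW
    (W.sub_mem hy (W.add_mem (W.smul_mem _ hp.mem') (W.smul_mem _ (hTW _ hp.mem'))) : y - k' ∈ W)
    (by simp only [hk', polar_sub_right, polar_add_right, polar_smul_right, smul_eq_mul, hp.one, e3]; ring)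
    (by
      simp only [hk', polar_sub_right, polar_add_right, polar_smul_right, smul_eq_mul, hp.zero, e4, hγ]
      field_simp
      ring)
  exact ⟨k', mem_kSpan.2 ⟨_, _, rfl⟩, k, hk, u, hu, by rw [add_assoc, ← e]; abel⟩

theorem KPair.comp_le : comp Q T W x x' ≤ W := inf_le_left

theorem KPair.comp_map {v : ι → F} (hv : v ∈ comp Q T W x x') : T v ∈ comp Q T W x x' := by
  obtain ⟨h1, h2, h3, h4, h5⟩ := mem_comp.1 hv
  refine mem_comp.2 ⟨hTW v h1, ?_, ?_, ?_, ?_⟩
  · rw [h.polar_right, h2, h3]; ring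
  · rw [h.polarT, h2, mul_zero]
  · rw [h.polar_right, h4, h5]; ring
  · rw [h.polarT, h4, mul_zero]

theorem KPair.comp_nondeg (hW : IsNondegenerateOn (polar ⇑Q) W) (hp : KPair Q T W x x') :
    IsNondegenerateOn (polar ⇑Q) (comp Q T W x x') := by
  intro v hv hv0
  have hex : ∃ u ∈ comp Q T W x x', polar ⇑Q u v ≠ 0 := by
    by_contra hc
    push Not at hc
    obtain ⟨h1, h2, h3, h4, h5⟩ := mem_comp.1 hv
    obtain ⟨⟨y, hy, hyv⟩, -⟩ := hW v h1 hv0
    obtain ⟨k', hk', k, hk, u, hu, rfl⟩ := hp.split h hTW hy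
    obtain ⟨α, β, rfl⟩ := mem_kSpan.1 hk'
    obtain ⟨γ, δ, rfl⟩ := mem_kSpan.1 hk
    apply hyv
    simp [polar_add_left, polar_smul_left, h2, h3, h4, h5, hc u hu]
  obtain ⟨u, hu, huv⟩ := hex
  exact ⟨⟨u, hu, huv⟩, ⟨u, hu, by rwa [polar_comm]⟩⟩

theorem KPair.finrank_comp : Module.finrank F W ≤ Module.finrank F (comp Q T W x x') + 4 := by
  have h1 := (FormMax.OrthSL.conds Q ![x, T x, x', T x']).finrank_range_add_finrank_ker
  have h3 := Submodule.finrank_le (FormMax.OrthSL.conds Q ![x, T x, x', T x']).range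
  rw [Module.finrank_fin_fun] at h3
  have h4 := Submodule.finrank_sup_add_finrank_inf_eq W
    (FormMax.OrthSL.conds Q ![x, T x, x', T x']).ker
  have h5 := Submodule.finrank_le (W ⊔ (FormMax.OrthSL.conds Q ![x, T x, x', T x']).ker)
  show _ ≤ Module.finrank F ↥(W ⊓ (FormMax.OrthSL.conds Q ![x, T x, x', T x']).ker) + 4
  omega

theorem KPair.not_mem_kSpan (hp : KPair Q T W x x') {u : ι → F} (hu : u ∈ comp Q T W x x')
    (hu0 : u ≠ 0) : u ∉ kSpan T x ∧ u ∉ kSpan T x' := by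
  obtain ⟨e1, e2, e3, e4, e5, e6, e7, e8, e9, e10⟩ := hp.products h
  obtain ⟨-, h2, h3, h4, h5⟩ := mem_comp.1 hu
  have hN := h.N_ne_zero (hp.ne_zero h)
  constructor <;> intro hk <;> obtain ⟨α, β, rfl⟩ := mem_kSpan.1 hk
  · simp only [polar_add_right, polar_smul_right, smul_eq_mul, e7, e8, e9, e10, mul_one, mul_zero,
      add_zero] at h4 h5
    rw [h4, zero_mul, zero_add] at h5
    exact hu0 (by rw [h4, (mul_eq_zero.1 h5).resolve_right hN, zero_smul, zero_smul, add_zero])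
  · simp only [polar_add_right, polar_smul_right, smul_eq_mul, hp.one, hp.zero, e3, e4, mul_one,
      mul_zero, zero_add] at h2 h3
    rw [(mul_eq_zero.1 h3).resolve_right hN, zero_mul, add_zero] at h2
    exact hu0 (by rw [h2, (mul_eq_zero.1 h3).resolve_right hN, zero_smul, zero_smul, add_zero])

theorem exists_kPair [Finite F] (hQ : (QuadraticMap.polarBilin Q).Nondegenerate)
    (hW : IsNondegenerateOn (polar ⇑Q) W) (hx : x ∈ W) (hx0 : x ≠ 0) (hxQ : Q x = 0) :
    ∃ x', KPair Q T W x x' := by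
  obtain ⟨r, hr, hri⟩ := exists_polar_in hQ hW (h.li_pair hx0)
    (fun i => by fin_cases i <;> simp [hx, hTW x hx]) ![1, 0]
  have h1 : polar ⇑Q x r = 1 := hri 0
  have h2 : polar ⇑Q (T x) r = 0 := hri 1
  refine ⟨r - Q r • x, hx, W.sub_mem hr (W.smul_mem _ hx), hxQ, ?_, ?_, ?_⟩
  · rw [sub_eq_add_neg, QuadraticMap.map_add (⇑Q), QuadraticMap.map_neg, QuadraticMap.map_smul,
      polar_neg_right, polar_smul_right, polar_comm _ r x, h1, hxQ]
    simp
  · rw [polar_sub_right, polar_smul_right, h1, Orth.polar_self_zero hxQ, smul_zero, sub_zero]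
  · rw [polar_sub_right, polar_smul_right, h2, polar_comm _ (T x) x, h.selfp, hxQ]
    simp

end Cfsg.Agent.Lib.SingMax
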